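import Cfsg.Agent.Mrg.Omega.NO3S.KeyRad.Star
import Cfsg.Agent.Mrg.Omega.NO3S.KeyRad.Blk
import Cfsg.Agent.Mrg.Omega.NO3S.ThmB.Best

section


/-!
# THEOREM NS (#24102): the blocks of a natural module with a radical

`M : NatKM F S P V D k`, `h : Nb M`, `|F| > 2`; `blk M j = [V, L_j]`, `D_j = blk M j ∩ D`.

* `Cd M j l g` : coordinates: `l s ∈ blk M j` over `(s, 0)`, `g x ∈ D_j`, `l`, `g` additive, `g` ONTO `D_j`, and
  `[c, v] = l (β t) g (β t²)` if `c` acts as `up β` on the summand `j` (as `1` on `D` and the others), `t = e v j 1`;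
* `exists_cd`;
* `YY M j = {w ∈ blk M j : e w j 1 = 0}` : `Cd.exists_eq` : `w = l s · d`, `d ∈ D_j`;
* `Cd.l_inj`, `Cd.cov` : the covered vectors.
-/

set_option autoImplicit false
set_option linter.unusedSectionVars false

namespace Cfsg.Agent.Omega.NOThreeL.RRed.NS

open Subgroup Cfsg Cfsg.Agent.ZN Cfsg.Agent.ZN.ChoiceBase
open Cfsg.Agent.Omega.FFThm Cfsg.Agent.Omega.NatPair Cfsg.Agent.Lib.SL2Mat
open Cfsg.Agent.Omega.NO3S.ThmB Cfsg.Agent.Omega.NO3S.KeyRad

universe u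

variable {G : Type u} [Group G] {F : Type} [Field F] {S P V D : Subgroup G} {k : ℕ}

/-- coordinates of the block `j` -/
structure Cd (M : NatKM F S P V D k) (j : Fin k) (l g : F → G) : Prop where
  lm : ∀ s, l s ∈ blk M j
  le : ∀ s, M.e (l s) j = ![s, 0]
  la : ∀ s t, l (s + t) = l s * l t
  gm : ∀ x, g x ∈ blk M j
  gD : ∀ x, g x ∈ D
  ga : ∀ x y, g (x + y) = g x * g y
  gs : ∀ d ∈ blk M j, d ∈ D → ∃ x, g x = d
  cm : ∀ c ∈ P, ∀ β, ActsSL M.e V D c (sg j (up β)) → ∀ v ∈ V,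
    c * v * c⁻¹ * v⁻¹ = l (β * M.e v j 1) * g (β * M.e v j 1 ^ 2)

section ex

variable [Finite G] [Finite F] [CharP F 2] {M : NatKM F S P V D k} (h : Nb M)
include h

theorem exists_cd (hF : 2 < Nat.card F) (j : Fin k) : ∃ l g, Cd M j l g := by
  classical
  have hXU := blk_le h j
  let _ : CommGroup (blk M j) :=
    { (inferInstance : Group (blk M j)) with mul_comm := fun a b => Subtype.ext (h.cm (hXU a.2) (hXU b.2)) }
  choose lf hlfP hlfA using fun A : Matrix.SpecialLinearGroup (Fin 2) F => M.lift (sg j A)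
  have hcX : ∀ A, ∀ m ∈ blk M j, lf A * m * (lf A)⁻¹ ∈ blk M j := by
    intro A m hm
    have e : lf A * m * (lf A)⁻¹ = lf A * m * (lf A)⁻¹ * m⁻¹ * m := by group
    rw [e]
    exact mul_mem (mem_blk (hlfP A) (hlfA A) (hXU hm)) hm
  let ρ0 : Matrix.SpecialLinearGroup (Fin 2) F → (blk M j →* blk M j) := fun A =>
    { toFun := fun m => ⟨lf A * m * (lf A)⁻¹, hcX A m m.2⟩
      map_one' := Subtype.ext (by simp)
      map_mul' := fun x y => Subtype.ext (by
        change lf A * ((x : G) * y) * (lf A)⁻¹ = lf A * x * (lf A)⁻¹ * (lf A * y * (lf A)⁻¹)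
        group) }
  let ρ : Matrix.SpecialLinearGroup (Fin 2) F → (Additive (blk M j) →+ Additive (blk M j)) := fun A =>
    MonoidHom.toAdditive (ρ0 A)
  have hρv : ∀ A (m : Additive (blk M j)), ((Additive.toMul (ρ A m) : blk M j) : G) =
      lf A * ((Additive.toMul m : blk M j) : G) * (lf A)⁻¹ := fun A m => rfl
  have hext : ∀ {x y : Additive (blk M j)},
      ((Additive.toMul x : blk M j) : G) = ((Additive.toMul y : blk M j) : G) → x = y := by
    intro x y hxy
    exact Additive.toMul.injective (Subtype.ext hxy)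
  have hsub : ∀ x y : Additive (blk M j), ((Additive.toMul (x - y) : blk M j) : G) =
      ((Additive.toMul x : blk M j) : G) * ((Additive.toMul y : blk M j) : G)⁻¹ := by
    intro x y
    change ((Additive.toMul x : blk M j) : G) / ((Additive.toMul y : blk M j) : G) = _
    exact div_eq_mul_inv _ _
  have hadd : ∀ x y : Additive (blk M j), ((Additive.toMul (x + y) : blk M j) : G) =
      ((Additive.toMul x : blk M j) : G) * ((Additive.toMul y : blk M j) : G) := fun x y => rfl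
  let π : Additive (blk M j) →+ (Fin 2 → F) :=
    { toFun := fun m => M.e ((Additive.toMul m : blk M j) : G) j
      map_zero' := by
        change M.e 1 j = 0
        rw [Nb.e_one (M := M)]
        rfl
      map_add' := fun x y => by
        change M.e ((Additive.toMul x : blk M j) * (Additive.toMul y : blk M j) : G) j = _
        rw [M.mul _ (hXU (Additive.toMul x).2) _ (hXU (Additive.toMul y).2), Pi.add_apply] }
  have hπv : ∀ m : Additive (blk M j), π m = M.e ((Additive.toMul m : blk M j) : G) j := fun m => rfl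
  have hD : ∀ w ∈ blk M j, M.e w j = 0 → w ∈ D := by
    intro w hw hw0
    rw [← M.ker _ (hXU hw)]
    funext l
    by_cases hl : l = j
    · rw [hl, hw0]; rfl
    · exact e_blk h hl hw
  obtain ⟨l, g, hl, hg, hgs, hc⟩ := exists_lg hF (M := Additive (blk M j)) (fun m => hext (by
      change ((Additive.toMul m : blk M j) : G) * ((Additive.toMul m : blk M j) : G) = 1
      exact h.sq (hXU (Additive.toMul m).2))) ρ (fun A B m => hext (by
      rw [hρv, hρv, hρv]
      have h1 := h.acts_mul (hlfP B) (hlfA A) (hlfA B)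
      rw [← sg_mul] at h1
      rw [h.same (hlfP (A * B)) (mul_mem (hlfP A) (hlfP B)) (hlfA (A * B)) h1 (hXU (Additive.toMul m).2)]
      group)) (fun m => hext (by
      rw [hρv]
      have h1 := hlfA 1
      rw [sg_one] at h1
      rw [h.comm_of_one (hlfP 1) h1 (hXU (Additive.toMul m).2), mul_inv_cancel_right])) π (fun A m => by
      rw [hπv, hρv, (hlfA A).1 _ (hXU (Additive.toMul m).2), sg_self, hπv]) (fun A m hm => hext (by
      rw [hρv]
      rw [(hlfA A).2 _ (hD _ (Additive.toMul m).2 hm), mul_inv_cancel_right])) (fun x => by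
      obtain ⟨w, hw, hwx⟩ := exists_blk_e h j x
      exact ⟨Additive.ofMul ⟨w, hw⟩, hwx⟩) (fun N hN => by
      -- `M = [M, L]`
      let N' : Subgroup G := (AddSubgroup.toSubgroup' N).map (blk M j).subtype
      have h1 : blk M j ≤ N' := by
        conv_lhs => rw [blk]
        rw [closure_le]
        rintro _ ⟨c, hc, A, hA, v, hv, rfl⟩
        obtain ⟨w, hw, hww⟩ := exists_blk_comm h hc hA hv
        rw [hww, h.same hc (hlfP A) hA (hlfA A) (hXU hw)]
        let x : Additive (blk M j) := Additive.ofMul ⟨w, hw⟩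
        have h3 : ((Additive.toMul (ρ A x - x) : blk M j) : G) = lf A * w * (lf A)⁻¹ * w⁻¹ := hsub _ _
        exact ⟨Additive.toMul (ρ A x - x), hN A x, h3⟩
      rw [eq_top_iff]
      intro x _
      obtain ⟨y, hy, hyx⟩ := h1 (Additive.toMul x).2
      have h2 : y = Additive.toMul x := Subtype.ext hyx
      rw [h2] at hy
      exact hy)
  refine ⟨fun s => ((Additive.toMul (l s) : blk M j) : G), fun x => ((Additive.toMul (g x) : blk M j) : G), ?_⟩
  refine
    { lm := fun s => (Additive.toMul (l s)).2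
      le := fun s => hl s
      la := fun s t => by rw [map_add, hadd]
      gm := fun x => (Additive.toMul (g x)).2
      gD := fun x => hD _ (Additive.toMul (g x)).2 (hg x)
      ga := fun s t => by rw [map_add, hadd]
      gs := fun d hd hdD => ?_
      cm := fun c hcP β hβ v hv => ?_ }
  · have h0 : M.e d j = 0 := by
      have := (M.ker d (hXU hd)).2 hdD
      rw [this]; rfl
    obtain ⟨x, hx⟩ := hgs (Additive.ofMul ⟨d, hd⟩) h0
    exact ⟨x, by rw [hx]; rfl⟩
  · obtain ⟨w, hw, hww⟩ := exists_blk_e h j (M.e v j)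
    have h1 := sg_congr h hcP hβ hv (hXU hw) hww.symm
    let x : Additive (blk M j) := Additive.ofMul ⟨w, hw⟩
    have h2 := congrArg (fun z => ((Additive.toMul z : blk M j) : G)) (hc β x)
    simp only [hsub, hadd, hρv] at h2
    have h3 : ((Additive.toMul x : blk M j) : G) = w := rfl
    rw [h3] at h2
    rw [h1, h.same hcP (hlfP _) hβ (hlfA _) (hXU hw), h2, ← hww]
    rfl

end ex

end Cfsg.Agent.Omega.NOThreeL.RRed.NS

end

section


/-!
# THEOREM NS (#24102), part (E): the smallest best offenders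

`U` elementary abelian.

* `Tt U A` : `A / C_A(U)` is elementary abelian, `|U : C_U(A)| ≤ |A : C_A(U)| ≠ 1`, and `|B| |C_U(B)| < |A| |C_U(A)|` for
  all `C_A(U) ≤ B < A`, `B ≰ C(U)` (invariant under `N(U)`; if there is no over-offender: `A` is a minimal exact group);
* `Tt.cj`, `Tt.best`, `Tt.cut`, `Tt.offM`;
* `Tt.split` **(E)** : `A` moves `V ≤ U`, no over-offender on `V`: `C_A(V) ≤ C(U)`, `U = V C_U(A)`;
* `Tt.one` **(E)**, natural type: `A` acts as the full root group of one block `i`, `U = V_i C_U(A)` (`ThmB.One`).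
-/

set_option autoImplicit false
set_option linter.unusedSectionVars false

namespace Cfsg.Agent.Omega.NOThreeL.RRed.NS

open Subgroup Cfsg Cfsg.Agent.ZN Cfsg.Agent.ZN.ChoiceBase
open Cfsg.Agent.Omega.FFThm Cfsg.Agent.Omega.NatPair Cfsg.Agent.Lib.SL2Mat
open Cfsg.Agent.Omega.NO3S.ThmB Cfsg.Agent.Omega.NO3S.KeyRad

universe u

variable {G : Type u} [Group G]

theorem elemM_cj {V A : Subgroup G} {m : G} (hm : m ∈ normalizer (V : Set G)) (h : ElemM V A) :
    ElemM V (ChoiceBase.cj m A) := by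
  have h3 : ChoiceBase.cj m V = V := cj_eq_of_mem_normalizer hm
  have h4 : ∀ x, m⁻¹ * x * m ∈ centralizer (V : Set G) → x ∈ centralizer (V : Set G) := by
    intro x hx
    have h5 : x ∈ ChoiceBase.cj m (centralizer (V : Set G)) := by rwa [ChoiceBase.mem_cj]
    rwa [cj_centralizer, h3] at h5
  refine ⟨fun a ha => h4 _ ?_, fun a ha b hb => h4 _ ?_⟩
  · rw [ChoiceBase.mem_cj] at ha
    have e : m⁻¹ * a ^ 2 * m = (m⁻¹ * a * m) ^ 2 := by rw [sq, sq]; group
    rw [e]
    exact h.sq _ ha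
  · rw [ChoiceBase.mem_cj] at ha hb
    have e : m⁻¹ * (a * b * a⁻¹ * b⁻¹) * m =
        (m⁻¹ * a * m) * (m⁻¹ * b * m) * (m⁻¹ * a * m)⁻¹ * (m⁻¹ * b * m)⁻¹ := by group
    rw [e]
    exact h.comm _ ha _ hb

/-- `A` acts on `U` as a smallest best offender. -/
structure Tt (U A : Subgroup G) : Prop where
  elem : ElemM U A
  ne : ¬ A ≤ centralizer (U : Set G)
  off : Nat.card U * Nat.card ↥(A ⊓ centralizer (U : Set G)) ≤ Nat.card A * Nat.card ↥(U ⊓ centralizer (A : Set G))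
  min : ∀ B : Subgroup G, A ⊓ centralizer (U : Set G) ≤ B → B ≤ A → B ≠ A → ¬ B ≤ centralizer (U : Set G) →
    Nat.card B * Nat.card ↥(U ⊓ centralizer (B : Set G)) < Nat.card A * Nat.card ↥(U ⊓ centralizer (A : Set G))

namespace Tt

variable {U A : Subgroup G} (t : Tt U A)
include t

theorem best {B : Subgroup G} (h1 : A ⊓ centralizer (U : Set G) ≤ B) (h2 : B ≤ A) :
    Nat.card B * Nat.card ↥(U ⊓ centralizer (B : Set G)) ≤ Nat.card A * Nat.card ↥(U ⊓ centralizer (A : Set G)) := by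
  by_cases hB : B = A
  · rw [hB]
  by_cases hC : B ≤ centralizer (U : Set G)
  · have e : B = A ⊓ centralizer (U : Set G) := le_antisymm (le_inf h2 hC) h1
    have e1 : U ⊓ centralizer (B : Set G) = U := inf_eq_left.2 (le_centralizer_iff.1 hC)
    rw [e1, mul_comm, e]
    exact t.off
  · exact (t.min B h1 h2 hB hC).le

theorem cut {B : Subgroup G} (h1 : A ⊓ centralizer (U : Set G) ≤ B) (h2 : B ≤ A) (hne : B ≠ A)
    (h3 : Nat.card A * Nat.card ↥(U ⊓ centralizer (A : Set G)) ≤ Nat.card B * Nat.card ↥(U ⊓ centralizer (B : Set G))) :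
    B ≤ centralizer (U : Set G) := by
  by_contra hC
  exact absurd h3 (not_le.2 (t.min B h1 h2 hne hC))

theorem cj {g : G} (hg : g ∈ normalizer (U : Set G)) : Tt U (ChoiceBase.cj g A) := by
  have eU : ∀ x ∈ normalizer (U : Set G), ChoiceBase.cj x U = U := fun x hx => cj_eq_of_mem_normalizer hx
  have eC : ∀ x ∈ normalizer (U : Set G), ChoiceBase.cj x (centralizer (U : Set G)) = centralizer (U : Set G) :=
    fun x hx => by rw [cj_centralizer, eU x hx]
  have e1 : ∀ B : Subgroup G, ∀ x ∈ normalizer (U : Set G),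
      Nat.card ↥(U ⊓ centralizer ((ChoiceBase.cj x B : Subgroup G) : Set G)) =
        Nat.card ↥(U ⊓ centralizer (B : Set G)) := by
    intro B x hx
    have h1 : U ⊓ centralizer ((ChoiceBase.cj x B : Subgroup G) : Set G) =
        ChoiceBase.cj x (U ⊓ centralizer (B : Set G)) := by
      rw [cj_inf, cj_centralizer, eU x hx]
    rw [h1, card_cj]
  have e2 : ChoiceBase.cj g A ⊓ centralizer (U : Set G) = ChoiceBase.cj g (A ⊓ centralizer (U : Set G)) := by
    rw [cj_inf, eC g hg]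
  refine ⟨elemM_cj hg t.elem, fun h => t.ne ?_, ?_, fun B h1 h2 h3 h4 => ?_⟩
  · rw [← eC g hg] at h
    exact cj_le_cj_iff.1 h
  · rw [e2, card_cj, card_cj, e1 A g hg]
    exact t.off
  · have h5 := t.min (ChoiceBase.cj g⁻¹ B) ?_ ?_ ?_ ?_
    · rw [e1 B g⁻¹ (inv_mem hg), card_cj] at h5
      rw [card_cj, e1 A g hg]
      exact h5
    · rw [e2] at h1
      exact cj_le_iff.1 h1
    · rw [cj_le_iff, inv_inv]
      exact h2
    · intro h6
      apply h3
      rw [← h6, cj_cj_inv]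
    · intro h6
      apply h4
      rw [cj_le_iff, inv_inv, eC g hg] at h6
      exact h6

/-- A smallest best offender on `U` is an offender on `V ≤ U`. -/
theorem le_of_best [Finite G] (hU : IsElementaryAbelian 2 U) {V : Subgroup G} (hVU : V ≤ U) :
    Nat.card V * Nat.card ↥(A ⊓ centralizer (V : Set G)) ≤ Nat.card A * Nat.card ↥(V ⊓ centralizer (A : Set G)) := by
  have hC : centralizer (U : Set G) ≤ centralizer (V : Set G) := centralizer_le hVU
  have h1 := t.best (B := A ⊓ centralizer (V : Set G)) (inf_le_inf_left A hC) inf_le_left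
  have h2 : V ⊔ (U ⊓ centralizer (A : Set G)) ≤ U ⊓ centralizer ((A ⊓ centralizer (V : Set G) : Subgroup G) : Set G) := by
    refine sup_le (le_inf hVU fun v hv => mem_centralizer_iff.2 fun a ha => ?_)
      (inf_le_inf_left U (centralizer_le inf_le_left))
    exact (mem_centralizer_iff.1 ha.2 v hv).symm
  have h3 := card_le_of_le h2
  have h4 : V ≤ centralizer ((U ⊓ centralizer (A : Set G) : Subgroup G) : Set G) := fun v hv =>
    mem_centralizer_iff.2 fun c hc => elem_comm hU hc.1 (hVU hv)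
  have h5 := card_sup_mul_inf h4
  have e : V ⊓ (U ⊓ centralizer (A : Set G)) = V ⊓ centralizer (A : Set G) := by
    rw [← inf_assoc, inf_eq_left.2 hVU]
  rw [e] at h5
  have hp1 : 0 < Nat.card ↥(U ⊓ centralizer (A : Set G)) := Nat.card_pos
  refine Nat.le_of_mul_le_mul_right (c := Nat.card ↥(U ⊓ centralizer (A : Set G))) ?_ hp1
  calc Nat.card V * Nat.card ↥(A ⊓ centralizer (V : Set G)) * Nat.card ↥(U ⊓ centralizer (A : Set G))
      = Nat.card ↥(A ⊓ centralizer (V : Set G)) * (Nat.card V * Nat.card ↥(U ⊓ centralizer (A : Set G))) := by ring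
    _ = Nat.card ↥(A ⊓ centralizer (V : Set G)) *
        (Nat.card ↥(V ⊔ (U ⊓ centralizer (A : Set G))) * Nat.card ↥(V ⊓ centralizer (A : Set G))) := by rw [h5]
    _ ≤ Nat.card ↥(A ⊓ centralizer (V : Set G)) *
        (Nat.card ↥(U ⊓ centralizer ((A ⊓ centralizer (V : Set G) : Subgroup G) : Set G)) *
          Nat.card ↥(V ⊓ centralizer (A : Set G))) :=
        Nat.mul_le_mul_left _ (Nat.mul_le_mul_right _ h3)
    _ = Nat.card ↥(A ⊓ centralizer (V : Set G)) *
        Nat.card ↥(U ⊓ centralizer ((A ⊓ centralizer (V : Set G) : Subgroup G) : Set G)) *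
          Nat.card ↥(V ⊓ centralizer (A : Set G)) := by ring
    _ ≤ Nat.card A * Nat.card ↥(U ⊓ centralizer (A : Set G)) * Nat.card ↥(V ⊓ centralizer (A : Set G)) :=
        Nat.mul_le_mul_right _ h1
    _ = Nat.card A * Nat.card ↥(V ⊓ centralizer (A : Set G)) * Nat.card ↥(U ⊓ centralizer (A : Set G)) := by ring

theorem offM [Finite G] (hU : IsElementaryAbelian 2 U) {V : Subgroup G} (hVU : V ≤ U)
    (hne : ¬ A ≤ centralizer (V : Set G)) : OffM V A where
  sq a ha := centralizer_le hVU (t.elem.sq a ha)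
  comm a ha b hb := centralizer_le hVU (t.elem.comm a ha b hb)
  ne := hne
  le := t.le_of_best hU hVU

/-- **(E)** -/
theorem split [Finite G] (hU : IsElementaryAbelian 2 U) {V : Subgroup G} (hVU : V ≤ U)
    (hno : Nat.card A * Nat.card ↥(V ⊓ centralizer (A : Set G)) ≤ Nat.card V * Nat.card ↥(A ⊓ centralizer (V : Set G)))
    (hne : ¬ A ≤ centralizer (V : Set G)) : A ⊓ centralizer (V : Set G) ≤ centralizer (U : Set G) ∧
      ∀ u ∈ U, ∃ v ∈ V, ∃ c ∈ U, (∀ a ∈ A, a * c = c * a) ∧ u = v * c := by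
  have hC : centralizer (U : Set G) ≤ centralizer (V : Set G) := centralizer_le hVU
  set B : Subgroup G := A ⊓ centralizer (V : Set G) with hB
  have hAB : A ⊓ centralizer (U : Set G) ≤ B := inf_le_inf_left A hC
  have h2 : V ⊔ (U ⊓ centralizer (A : Set G)) ≤ U ⊓ centralizer (B : Set G) := by
    refine sup_le (le_inf hVU fun v hv => mem_centralizer_iff.2 fun a ha => ?_)
      (inf_le_inf_left U (centralizer_le inf_le_left))
    exact (mem_centralizer_iff.1 ha.2 v hv).symm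
  have h3 := card_le_of_le h2
  have h4 : V ≤ centralizer ((U ⊓ centralizer (A : Set G) : Subgroup G) : Set G) := fun v hv =>
    mem_centralizer_iff.2 fun c hc => elem_comm hU hc.1 (hVU hv)
  have h5 := card_sup_mul_inf h4
  have e : V ⊓ (U ⊓ centralizer (A : Set G)) = V ⊓ centralizer (A : Set G) := by
    rw [← inf_assoc, inf_eq_left.2 hVU]
  rw [e] at h5
  have hp : 0 < Nat.card ↥(V ⊓ centralizer (A : Set G)) := Nat.card_pos
  have h6 : Nat.card A * Nat.card ↥(U ⊓ centralizer (A : Set G)) ≤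
      Nat.card B * Nat.card ↥(V ⊔ (U ⊓ centralizer (A : Set G))) := by
    refine Nat.le_of_mul_le_mul_right (c := Nat.card ↥(V ⊓ centralizer (A : Set G))) ?_ hp
    calc Nat.card A * Nat.card ↥(U ⊓ centralizer (A : Set G)) * Nat.card ↥(V ⊓ centralizer (A : Set G))
        = Nat.card A * Nat.card ↥(V ⊓ centralizer (A : Set G)) * Nat.card ↥(U ⊓ centralizer (A : Set G)) := by ring
      _ ≤ Nat.card V * Nat.card B * Nat.card ↥(U ⊓ centralizer (A : Set G)) := Nat.mul_le_mul_right _ hno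
      _ = Nat.card B * (Nat.card V * Nat.card ↥(U ⊓ centralizer (A : Set G))) := by ring
      _ = _ := by rw [← h5]; ring
  have hBU : B ≤ centralizer (U : Set G) :=
    t.cut hAB inf_le_left (fun h7 => hne (inf_eq_left.1 h7)) (h6.trans (Nat.mul_le_mul_left _ h3))
  refine ⟨hBU, ?_⟩
  have h7 := t.best hAB inf_le_left
  have e1 : U ⊓ centralizer (B : Set G) = U := inf_eq_left.2 (le_centralizer_iff.1 hBU)
  rw [e1] at h7
  have h8 : Nat.card U ≤ Nat.card ↥(V ⊔ (U ⊓ centralizer (A : Set G))) :=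
    Nat.le_of_mul_le_mul_left (h7.trans h6) Nat.card_pos
  have h9 : V ⊔ (U ⊓ centralizer (A : Set G)) = U :=
    Subgroup.eq_of_le_of_card_ge (sup_le hVU inf_le_left) h8
  intro u hu
  rw [← h9] at hu
  have h10 : V ≤ normalizer ((U ⊓ centralizer (A : Set G) : Subgroup G) : Set G) :=
    h4.trans (centralizer_le_normalizer _)
  have h11 : u ∈ ((V ⊔ (U ⊓ centralizer (A : Set G)) : Subgroup G) : Set G) := hu
  rw [coe_mul_of_left_le_normalizer_right _ _ h10] at h11
  obtain ⟨v, hv, c, hc, rfl⟩ := h11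
  exact ⟨v, hv, c, hc.1, mem_centralizer_iff.1 hc.2, rfl⟩

end Tt

variable {F : Type} [Field F] {S P' V D : Subgroup G} {k : ℕ}

/-- **(E), natural type** (copy of `Nb.one`): `A` acts as the full root group of one block, `U = V_i C_U(A)`. -/
theorem Tt.one [Finite G] [Finite F] [CharP F 2] {M : NatKM F S P' V D k} (h : Nb M) {U A : Subgroup G} (t : Tt U A)
    (hU2 : IsElementaryAbelian 2 U) (hVU : V ≤ U) (hAS : A ≤ S) (hne : ¬ A ≤ centralizer (V : Set G)) :
    ∃ i, One M U A i := by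
  have hAP : A ≤ P' := hAS.trans h.SP'
  obtain ⟨I, hI1, hI2⟩ := M.offM A hAS (t.offM hU2 hVU hne)
  -- `I` is not empty
  obtain ⟨i, hi⟩ : I.Nonempty := by
    by_contra hne'
    rw [Set.not_nonempty_iff_eq_empty] at hne'
    refine hne fun a ha => mem_centralizer_iff.2 fun v hv => ?_
    obtain ⟨b, hb, hab⟩ := hI1 a ha
    have e : (fun i => up (b i)) = (1 : Fin k → Matrix.SpecialLinearGroup (Fin 2) F) := by
      funext l
      rw [hb l (by rw [hne']; exact fun h => h), up_zero]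
      rfl
    rw [e] at hab
    exact (h.comm_of_one (hAP ha) hab hv).symm
  -- the element `a` with entry 1
  classical
  have hsg : ∀ l ∈ I, ∀ β, ∃ a ∈ A, ActsSL M.e V D a (sg l (up β)) := fun l hl β => by
    obtain ⟨a, ha, hab⟩ := hI2 (Function.update 0 l β) fun j hj => by
      rw [Function.update_of_ne (fun e => hj (by rw [e]; exact hl))]
      rfl
    refine ⟨a, ha, ?_⟩
    have e : (fun j => up (Function.update (0 : Fin k → F) l β j)) = sg l (up β) := by
      funext j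
      by_cases hj : j = l
      · rw [hj, Function.update_self, sg_self]
      · rw [Function.update_of_ne hj, sg_ne hj, Pi.zero_apply, up_zero]
    rwa [e] at hab
  -- `C_V(A)` is in `{e v i 1 = 0}`
  have hcen : ∀ v ∈ V, (∀ a ∈ A, a * v = v * a) → M.e v i 1 = 0 := fun v hv hc => by
    obtain ⟨a, ha, hab⟩ := hsg i hi 1
    have h1 := hab.1 v hv i
    rw [sg_self] at h1
    have h2 : a * v * a⁻¹ = v := by rw [hc a ha]; group
    have h3 := congrFun h1 0
    rw [h2, ap_up_0, one_mul] at h3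
    exact left_eq_add.1 h3
  obtain ⟨w0, hw0, hw0i, hw0l⟩ := Nb.exists_single M i ![0, 1]
  let B := Nb.Ai M A hAP h.VP' i
  have hBA : B ≤ A := fun a ha => ha.1
  -- entries
  have hent : ∀ a ∈ A, ∃ b : Fin k → F, (∀ l, l ∉ I → b l = 0) ∧ ActsSL M.e V D a (fun l => up (b l)) ∧
      M.e (a * w0 * a⁻¹) i 0 = b i := fun a ha => by
    obtain ⟨b, hb, hab⟩ := hI1 a ha
    exact ⟨b, hb, hab, h.up_entry hab hw0 hw0i⟩
  have hBb : ∀ a ∈ A, ∀ b : Fin k → F, ActsSL M.e V D a (fun l => up (b l)) → (a ∈ B ↔ b i = 0) := by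
    intro a ha b hab
    constructor
    · intro haB
      have h1 := haB.2 w0 hw0
      have h2 := h.up_entry hab hw0 hw0i
      rw [h1, hw0i] at h2
      exact h2.symm
    · intro h0
      refine ⟨ha, fun v hv => ?_⟩
      have h1 := hab.1 v hv i
      simp only [h0, up_zero, ap_one] at h1
      exact h1
  have h1B : A ⊓ centralizer (U : Set G) ≤ B := fun a ha => by
    refine ⟨ha.1, fun v hv => ?_⟩
    have h1 : a * v * a⁻¹ = v := by
      rw [← (mem_centralizer_iff.1 ha.2 v (hVU hv))]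
      group
    rw [h1]
  have hBne : B ≠ A := fun e => by
    obtain ⟨a, ha, hab⟩ := hsg i hi 1
    have haB : a ∈ B := by rw [e]; exact ha
    have h1 := haB.2 w0 hw0
    have h2 := hab.1 w0 hw0 i
    rw [h1, sg_self, hw0i] at h2
    have h3 := congrFun h2 0
    rw [ap_up_0] at h3
    simp at h3
  -- `B` centralises the `i`-th summand
  have hBV : ∀ a ∈ B, ∀ v ∈ V, (∀ l, l ≠ i → M.e v l = 0) → a * v = v * a := by
    intro a ha v hv hvl
    obtain ⟨b, hb, hab⟩ := hI1 a ha.1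
    have h0 := (hBb a ha.1 b hab).1 ha
    exact h.dir (hAP ha.1) hab (by simp only [h0, up_zero]) hv hvl
  -- `|A| ≤ |F| |B|`
  have hcA : Nat.card A ≤ Nat.card F * Nat.card B := by
    refine card_le_of_map (fun a => M.e (a * w0 * a⁻¹) i 0) fun a ha a' ha' he => ?_
    obtain ⟨b, hb, hab, hbi⟩ := hent a ha
    obtain ⟨b', hb', hab', hbi'⟩ := hent a' ha'
    have h1 : b i = b' i := by rw [← hbi, ← hbi']; exact he
    have h2 := h.acts_mul (hAP ha') (h.acts_inv (hAP ha) hab) hab'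
    have e : ((fun l => up (b l))⁻¹ * fun l => up (b' l)) = fun l => up (-(b l) + b' l) := by
      funext l
      rw [Pi.mul_apply, Pi.inv_apply, up_inv, up_mul]
    rw [e] at h2
    exact (hBb _ (mul_mem (inv_mem ha) ha') _ h2).2 (by rw [h1, neg_add_cancel])
  -- the elements `w x`
  have hw : ∀ x : F, ∃ w ∈ V, M.e w i = ![0, x] ∧ ∀ l, l ≠ i → M.e w l = 0 := fun x => Nb.exists_single M i _
  choose w hwV hwi hwl using hw
  have hinj : ∀ x c y d, c ∈ U → (∀ a ∈ A, a * c = c * a) → d ∈ U → (∀ a ∈ A, a * d = d * a) →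
      w x * c = w y * d → x = y ∧ c = d := by
    intro x c y d hc hca hd hda e
    have h1 : (w y)⁻¹ * w x = d * c⁻¹ := by
      calc (w y)⁻¹ * w x = (w y)⁻¹ * (w x * c) * c⁻¹ := by group
        _ = (w y)⁻¹ * (w y * d) * c⁻¹ := by rw [e]
        _ = d * c⁻¹ := by group
    have h2 := hcen _ (mul_mem (inv_mem (hwV y)) (hwV x)) (fun a ha => by
      rw [h1]
      exact (show Commute a d from hda a ha).mul_right ((show Commute a c from hca a ha).inv_right))
    rw [M.mul _ (inv_mem (hwV y)) _ (hwV x), h.e_inv (hwV y), Pi.add_apply, Pi.add_apply, hwi, hwi] at h2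
    simp only [Matrix.cons_val_one, Matrix.cons_val_zero] at h2
    have h3 : x = y := by
      rw [add_comm] at h2
      exact CharTwo.add_eq_zero.1 h2
    refine ⟨h3, ?_⟩
    rw [h3] at e
    exact mul_left_cancel e
  have hcU : Nat.card F * Nat.card ↥(U ⊓ centralizer (A : Set G)) ≤ Nat.card ↥(U ⊓ centralizer (B : Set G)) := by
    rw [← Nat.card_prod]
    refine Nat.card_le_card_of_injective
      (fun p : F × ↥(U ⊓ centralizer (A : Set G)) =>
        (⟨w p.1 * p.2, mul_mem ?_ ?_⟩ : ↥(U ⊓ centralizer (B : Set G)))) fun p q e => ?_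
    · exact ⟨hVU (hwV _), mem_centralizer_iff.2 fun a ha => hBV a ha _ (hwV _) (hwl _)⟩
    · exact ⟨p.2.2.1, mem_centralizer_iff.2 fun a ha => mem_centralizer_iff.1 p.2.2.2 a (hBA ha)⟩
    · have h1 := hinj p.1 p.2 q.1 q.2 p.2.2.1 (mem_centralizer_iff.1 p.2.2.2) q.2.2.1
        (mem_centralizer_iff.1 q.2.2.2) (congrArg Subtype.val e)
      exact Prod.ext h1.1 (Subtype.ext h1.2)
  have hBU : B ≤ centralizer (U : Set G) := by
    refine t.cut h1B hBA hBne ?_
    calc Nat.card A * Nat.card ↥(U ⊓ centralizer (A : Set G)) ≤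
        Nat.card F * Nat.card B * Nat.card ↥(U ⊓ centralizer (A : Set G)) := Nat.mul_le_mul_right _ hcA
      _ = Nat.card B * (Nat.card F * Nat.card ↥(U ⊓ centralizer (A : Set G))) := by ring
      _ ≤ _ := Nat.mul_le_mul_left _ hcU
  have hUB : U ⊓ centralizer (B : Set G) = U := inf_eq_left.2 (le_centralizer_iff.1 hBU)
  -- `|U| ≤ |F| |C_U(A)|`
  have hUc : Nat.card U ≤ Nat.card F * Nat.card ↥(U ⊓ centralizer (A : Set G)) := by
    have h1 := t.best h1B hBA
    rw [hUB] at h1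
    have hp : 0 < Nat.card B := Nat.card_pos
    refine Nat.le_of_mul_le_mul_left ?_ hp
    calc Nat.card B * Nat.card U ≤ Nat.card A * Nat.card ↥(U ⊓ centralizer (A : Set G)) := h1
      _ ≤ Nat.card F * Nat.card B * Nat.card ↥(U ⊓ centralizer (A : Set G)) := Nat.mul_le_mul_right _ hcA
      _ = _ := by ring
  have hfull : ∀ u ∈ U, ∃ x c, c ∈ U ∧ (∀ a ∈ A, a * c = c * a) ∧ u = w x * c := by
    let f : F × ↥(U ⊓ centralizer (A : Set G)) → U := fun p => ⟨w p.1 * p.2, mul_mem (hVU (hwV _)) p.2.2.1⟩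
    have hf : Function.Injective f := fun p q e => by
      have h1 := hinj p.1 p.2 q.1 q.2 p.2.2.1 (mem_centralizer_iff.1 p.2.2.2) q.2.2.1
        (mem_centralizer_iff.1 q.2.2.2) (congrArg Subtype.val e)
      exact Prod.ext h1.1 (Subtype.ext h1.2)
    have hb := hf.bijective_of_nat_card_le (by rw [Nat.card_prod]; exact hUc)
    intro u hu
    obtain ⟨p, hp⟩ := hb.2 ⟨u, hu⟩
    exact ⟨p.1, p.2, p.2.2.1, mem_centralizer_iff.1 p.2.2.2, (congrArg Subtype.val hp).symm⟩
  refine ⟨i, fun a ha => ?_, hsg i hi, fun u hu => ?_, fun v hv => ⟨hcen v hv, fun h0 => ?_⟩⟩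
  · -- `I = {i}`
    obtain ⟨b, hb, hab⟩ := hI1 a ha
    refine ⟨b i, ?_⟩
    have e : (fun l => up (b l)) = sg i (up (b i)) := by
      refine eq_sg (A := fun l => up (b l)) fun l hl => ?_
      by_cases hlI : l ∈ I
      · exfalso
        obtain ⟨a', ha', hab'⟩ := hsg l hlI 1
        have haB : a' ∈ B := by
          refine ⟨ha', fun v hv => ?_⟩
          rw [hab'.1 v hv i, sg_ne (fun e => hl e.symm), ap_one]
        obtain ⟨w1, hw1, hw1l, -⟩ := Nb.exists_single M l ![0, 1]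
        have h2 := mem_centralizer_iff.1 (hBU haB) w1 (hVU hw1)
        have h3 : a' * w1 * a'⁻¹ = w1 := by rw [← h2]; group
        have h4 := congrFun (hab'.1 w1 hw1 l) 0
        rw [h3, sg_self, hw1l, ap_up_0] at h4
        simp at h4
      · simp only [hb l hlI, up_zero]
    rwa [e] at hab
  · obtain ⟨x, c, hc, hca, e⟩ := hfull u hu
    exact ⟨w x, hwV x, hwl x, c, hc, hca, e⟩
  · obtain ⟨x, c, hc, hca, e⟩ := hfull v (hVU hv)
    have hcV : c ∈ V := by
      have h1 : c = (w x)⁻¹ * v := by rw [e]; group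
      rw [h1]
      exact mul_mem (inv_mem (hwV x)) hv
    have h1 := hcen c hcV hca
    have h2 := congrFun (congrFun (M.mul _ (hwV x) _ hcV) i) 1
    rw [← e, h0, Pi.add_apply, Pi.add_apply, h1, hwi] at h2
    have h3 : x = 0 := by simpa using h2.symm
    have h4 : w x ∈ D := by
      rw [← M.ker _ (hwV x)]
      funext l
      by_cases hl : l = i
      · rw [hl, hwi, h3]
        refine vec_eq ?_ ?_ <;> simp
      · exact hwl x l hl
    intro a ha
    obtain ⟨b, -, hab⟩ := hI1 a ha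
    rw [e]
    exact (show Commute a (w x) from hab.2 _ h4).mul_right (hca a ha)

end Cfsg.Agent.Omega.NOThreeL.RRed.NS

end

section


/-!
# THEOREM NS (#24102), part (1)

`M : NatKM F S P V D k`, `V ≤ U`, `A ≤ S` a smallest best offender on `U` (`Tt U A`) which acts as the root group of the
block `i` (`One M U A i`).  `Sd S P' U V' A'` : the second parabolic, `A'` a smallest best offender with `U = V' C_U(A')`,
`P' = N' S`, `N' = NC P' A'` the normal closure of `A'` in `P'`.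

* `comm_Y` : all smallest best offenders in `S` centralise `[U, A]`;
* `Sd.cent_comm` **(1)** : `A ≤ C(V')` ⟹ `N'` centralises `[U, A]`;
* `Sd.cent_YY` : then `N'` centralises `YY M j = {w ∈ blk M j : e w j 1 = 0}` for all `j`.
-/

set_option autoImplicit false
set_option linter.unusedSectionVars false

namespace Cfsg.Agent.Omega.NOThreeL.RRed.NS

open Subgroup Cfsg Cfsg.Agent.ZN Cfsg.Agent.ZN.ChoiceBase
open Cfsg.Agent.Omega.FFThm Cfsg.Agent.Lib.SL2Mat
open Cfsg.Agent.Omega.NatPair (ap)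
open Cfsg.Agent.Omega.NO3S.ThmB Cfsg.Agent.Omega.NO3S.KeyRad

universe u

variable {G : Type u} [Group G]

/-- the normal closure of `A` in `P` -/
def NC (P A : Subgroup G) : Subgroup G := closure {x | ∃ g ∈ P, ∃ a ∈ A, x = g * a * g⁻¹}

theorem NC_le {P A : Subgroup G} (h : A ≤ P) : NC P A ≤ P := by
  rw [NC, closure_le]
  rintro _ ⟨g, hg, a, ha, rfl⟩
  exact mul_mem (mul_mem hg (h ha)) (inv_mem hg)

theorem le_NC {P A : Subgroup G} : A ≤ NC P A := fun a ha =>
  subset_closure ⟨1, one_mem _, a, ha, by group⟩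

theorem conj_NC {P A : Subgroup G} {g x : G} (hg : g ∈ P) (hx : x ∈ NC P A) : g * x * g⁻¹ ∈ NC P A := by
  have h1 : NC P A ≤ (NC P A).comap (MulAut.conj g).toMonoidHom := by
    conv_lhs => rw [NC]
    rw [closure_le]
    rintro _ ⟨y, hy, a, ha, rfl⟩
    rw [SetLike.mem_coe, mem_comap]
    exact subset_closure ⟨g * y, mul_mem hg hy, a, ha, by
      change g * (y * a * y⁻¹) * g⁻¹ = _
      group⟩
  exact h1 hx

/-- the second parabolic -/
structure Sd (S P' U V' A' : Subgroup G) : Prop where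
  SP : S ≤ P'
  UN : P' ≤ normalizer (U : Set G)
  U2 : IsElementaryAbelian 2 U
  VU : V' ≤ U
  VN : P' ≤ normalizer (V' : Set G)
  PS : ∀ B ≤ S, B ≤ centralizer (V' : Set G) → ∀ h ∈ P', cj h B ≤ S
  AS : A' ≤ S
  tt : Tt U A'
  full : ∀ u ∈ U, ∃ v ∈ V', ∃ c ∈ U, (∀ a ∈ A', a * c = c * a) ∧ u = v * c
  gen : P' ≤ NC P' A' ⊔ S

section first

variable [Finite G] {F : Type} [Field F] [Finite F] [CharP F 2] {S P V D U : Subgroup G} {k : ℕ}
  {M : NatKM F S P V D k} (h : Nb M)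
include h

omit h in
theorem comm_eq {A : Subgroup G} {i : Fin k} (O : One M U A i) {u a : G} (hu : u ∈ U) (ha : a ∈ A) :
    ∃ v ∈ V, a * u * a⁻¹ * u⁻¹ = a * v * a⁻¹ * v⁻¹ := by
  obtain ⟨v, hv, -, c, -, hca, rfl⟩ := O.full u hu
  refine ⟨v, hv, ?_⟩
  have h1 := hca a ha
  calc a * (v * c) * a⁻¹ * (v * c)⁻¹ = a * v * (c * a⁻¹ * c⁻¹) * v⁻¹ := by group
    _ = a * v * a⁻¹ * v⁻¹ := by
      have h2 : c * a⁻¹ * c⁻¹ = a⁻¹ := by
        calc c * a⁻¹ * c⁻¹ = a⁻¹ * (a * c) * a⁻¹ * c⁻¹ := by group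
          _ = a⁻¹ * (c * a) * a⁻¹ * c⁻¹ := by rw [h1]
          _ = a⁻¹ := by group
      rw [h2]

/-- the members of `EE` act as upper unitriangular families -/
theorem exists_up {B : Subgroup G} (hU2 : IsElementaryAbelian 2 U) (hVU : V ≤ U) (hBS : B ≤ S) (tB : Tt U B) {b : G}
    (hb : b ∈ B) : ∃ f : Fin k → F, ActsSL M.e V D b fun l => up (f l) := by
  by_cases hc : B ≤ centralizer (V : Set G)
  · refine ⟨0, fun v hv i => ?_, fun d hd => (mem_centralizer_iff.1 (hc hb) d (h.DV hd)).symm⟩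
    have e : b * v * b⁻¹ = v := by
      rw [← mem_centralizer_iff.1 (hc hb) v hv]
      group
    rw [e]
    simp only [Pi.zero_apply, up_zero, Cfsg.Agent.Omega.NatPair.ap_one]
  · obtain ⟨I, hI1, -⟩ := M.offM B hBS (tB.offM hU2 hVU hc)
    obtain ⟨f, -, hf⟩ := hI1 b hb
    exact ⟨f, hf⟩

/-- all members of `EE` centralise `[U, A]` -/
theorem comm_Y {A B : Subgroup G} {i : Fin k} (O : One M U A i) (hAS : A ≤ S) (hU2 : IsElementaryAbelian 2 U) (hVU : V ≤ U)
    (hBS : B ≤ S) (tB : Tt U B) {b u a : G} (hb : b ∈ B) (hu : u ∈ U) (ha : a ∈ A) :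
    b * (a * u * a⁻¹ * u⁻¹) = a * u * a⁻¹ * u⁻¹ * b := by
  obtain ⟨v, hv, e⟩ := comm_eq O hu ha
  obtain ⟨f, hf⟩ := exists_up h hU2 hVU hBS tB hb
  rw [e]
  exact h.up_cen hAS O hVU (h.SP' (hBS hb)) hf hv ha

end first

namespace Sd

variable [Finite G] {S P' U V' A' : Subgroup G} (d : Sd S P' U V' A')
include d

theorem cU {x y : G} (hx : x ∈ U) (hy : y ∈ U) : x * y = y * x := elem_comm d.U2 hx hy

theorem memU {g x : G} (hg : g ∈ P') (hx : x ∈ U) : g * x * g⁻¹ ∈ U := conj_mem d.UN hg hx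

theorem memV {g x : G} (hg : g ∈ P') (hx : x ∈ V') : g * x * g⁻¹ ∈ V' := conj_mem d.VN hg hx

theorem NP {g : G} (hg : g ∈ NC P' A') : g ∈ P' := NC_le (d.AS.trans d.SP) hg

/-- `[U, N'] ≤ V'` -/
theorem comm_mem {g u : G} (hg : g ∈ NC P' A') (hu : u ∈ U) : g * u * g⁻¹ * u⁻¹ ∈ V' := by
  have key : ∀ g (_ : g ∈ NC P' A'), ∀ u ∈ U, g * u * g⁻¹ * u⁻¹ ∈ V' := by
    intro g hg
    have hg' : g ∈ closure {x | ∃ g ∈ P', ∃ a ∈ A', x = g * a * g⁻¹} := hg
    induction hg' using closure_induction with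
    | mem x hx =>
      obtain ⟨y, hy, a, ha, rfl⟩ := hx
      intro u hu
      have hu1 : y⁻¹ * u * y ∈ U := by
        have := d.memU (inv_mem hy) hu
        rwa [inv_inv] at this
      obtain ⟨v, hv, c, -, hca, e⟩ := d.full _ hu1
      have haP : a ∈ P' := d.SP (d.AS ha)
      have h1 : a * (y⁻¹ * u * y) * a⁻¹ * (y⁻¹ * u * y)⁻¹ ∈ V' := by
        rw [e]
        have h2 : a * (v * c) * a⁻¹ * (v * c)⁻¹ = a * v * a⁻¹ * (a * c * a⁻¹ * c⁻¹) * v⁻¹ := by group
        rw [h2, hca a ha, mul_inv_cancel_right, mul_inv_cancel, mul_one]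
        exact mul_mem (d.memV haP hv) (inv_mem hv)
      have h2 := d.memV hy h1
      have e2 : y * (a * (y⁻¹ * u * y) * a⁻¹ * (y⁻¹ * u * y)⁻¹) * y⁻¹ = y * a * y⁻¹ * u * (y * a * y⁻¹)⁻¹ * u⁻¹ := by
        group
      rwa [e2] at h2
    | one => intro u hu; simp [one_mem]
    | mul x y hx hy h1 h2 =>
      intro u hu
      have h3 := h1 hx _ (d.memU (d.NP hy) hu)
      have h4 := h2 hy u hu
      have e : x * y * u * (x * y)⁻¹ * u⁻¹ = x * (y * u * y⁻¹) * x⁻¹ * (y * u * y⁻¹)⁻¹ * (y * u * y⁻¹ * u⁻¹) := by group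
      rw [e]
      exact mul_mem h3 h4
    | inv x hx h1 =>
      intro u hu
      have hu1 := d.memU (inv_mem (d.NP hx)) hu
      have h3 := inv_mem (h1 hx _ hu1)
      have e : (x * (x⁻¹ * u * x⁻¹⁻¹) * x⁻¹ * (x⁻¹ * u * x⁻¹⁻¹)⁻¹)⁻¹ = x⁻¹ * u * x⁻¹⁻¹ * u⁻¹ := by group
      rwa [e] at h3
  exact key g hg u hu

variable {F : Type} [Field F] [Finite F] [CharP F 2] {P V D : Subgroup G} {k : ℕ}
  {M : NatKM F S P V D k} (h : Nb M) (hVU : V ≤ U) {A : Subgroup G} {i : Fin k} (O : One M U A i) (hAS : A ≤ S)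
  (t : Tt U A) (hA : A ≤ centralizer (V' : Set G))
include hA

omit [Finite G] [Finite F] [CharP F 2] in
theorem a_comm {a v : G} (ha : a ∈ A) (hv : v ∈ V') : a * v = v * a := (mem_centralizer_iff.1 (hA ha) v hv).symm

/-- `N'` leaves `C_U(A)` invariant -/
theorem cent_conj {g c : G} (hg : g ∈ NC P' A') (hc : c ∈ U) (hca : ∀ a ∈ A, a * c = c * a) {a : G} (ha : a ∈ A) :
    a * (g * c * g⁻¹) = g * c * g⁻¹ * a := by
  have h1 := d.a_comm hA ha (d.comm_mem hg hc)
  have e : g * c * g⁻¹ = g * c * g⁻¹ * c⁻¹ * c := by group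
  rw [e]
  exact (show Commute a _ from h1).mul_right (hca a ha)

include h hVU O hAS t

/-- the conjugates of `A` under `N'` act on `U` as `A` -/
theorem same_conj {g : G} (hg : g ∈ NC P' A') {a : G} (ha : a ∈ A) :
    ∃ b ∈ A, ∀ u ∈ U, a * u * a⁻¹ = g * b * g⁻¹ * u * (g * b * g⁻¹)⁻¹ := by
  have hgP := d.NP hg
  set B : Subgroup G := cj g A with hB
  have hBS : B ≤ S := d.PS A hAS hA g hgP
  have tB : Tt U B := t.cj (d.UN hgP)
  -- `B` centralises `C_U(A)`
  have hBc : ∀ c ∈ U, (∀ a ∈ A, a * c = c * a) → ∀ b ∈ B, b * c = c * b := by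
    intro c hc hca b hb
    obtain ⟨a1, ha1, rfl⟩ := exists_of_mem_cj hb
    have h1 := d.cent_conj hA (inv_mem hg) hc hca ha1
    have h2 := comm_conj (g := g) h1
    have e : g * (g⁻¹ * c * g⁻¹⁻¹) * g⁻¹ = c := by group
    rwa [e] at h2
  have hBc' : ∀ c ∈ U, (∀ b ∈ B, b * c = c * b) → ∀ a ∈ A, a * c = c * a := by
    intro c hc hcb
    have hc1 : g⁻¹ * c * g ∈ U := by
      have := d.memU (inv_mem hgP) hc
      rwa [inv_inv] at this
    have h1 : ∀ a ∈ A, a * (g⁻¹ * c * g) = g⁻¹ * c * g * a := by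
      intro a ha
      have h2 := comm_conj (g := g⁻¹) (hcb _ (mem_cj_of (g := g) ha))
      have e1 : g⁻¹ * (g * a * g⁻¹) * g⁻¹⁻¹ = a := by group
      rw [e1, inv_inv] at h2
      exact h2
    intro a ha
    have h2 := d.cent_conj hA hg hc1 h1 ha
    have e : g * (g⁻¹ * c * g) * g⁻¹ = c := by group
    rwa [e] at h2
  have hBV : ¬ B ≤ centralizer (V : Set G) := by
    intro hBV
    refine tB.ne fun b hb => mem_centralizer_iff.2 fun u hu => ?_
    obtain ⟨v, hv, -, c, hc, hca, rfl⟩ := O.full u hu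
    have h1 : b * v = v * b := (mem_centralizer_iff.1 (hBV hb) v hv).symm
    exact ((show Commute b v from h1).mul_right (hBc c hc hca b hb)).eq.symm
  obtain ⟨j, O'⟩ := tB.one h d.U2 hVU hBS hBV
  have hji : j = i := by
    by_contra hne
    obtain ⟨w, hw, hwi, hwl⟩ := Nb.exists_single M i ![0, 1]
    have h1 : ∀ b ∈ B, b * w = w * b := (O'.cen w hw).2 (by rw [hwl j hne]; rfl)
    have h2 := (O.cen w hw).1 (hBc' w (hVU hw) h1)
    rw [hwi] at h2
    simp at h2
  subst hji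
  obtain ⟨β, hβ⟩ := O.act a ha
  obtain ⟨b, hb, hbβ⟩ := O'.all β
  obtain ⟨a1, ha1, rfl⟩ := exists_of_mem_cj hb
  refine ⟨a1, ha1, fun u hu => ?_⟩
  obtain ⟨v, hv, -, c, hc, hca, rfl⟩ := O.full u hu
  have h1 := h.same (h.SP' (hAS ha)) (h.SP' (hBS hb)) hβ hbβ hv
  have h2 := hca a ha
  have h3 := hBc c hc hca _ hb
  have e1 : ∀ y : G, y * (v * c) * y⁻¹ = y * v * y⁻¹ * (y * c * y⁻¹) := fun y => by group
  rw [e1, e1, h1, h2, h3, mul_inv_cancel_right, mul_inv_cancel_right]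

/-- `A''` and `A` commute on `U` -/
theorem swap_S {B : Subgroup G} (hBS : B ≤ S) (tB : Tt U B) (hBV : ∀ b ∈ B, ∀ u ∈ U, b * u * b⁻¹ * u⁻¹ ∈ V') {a b u : G}
    (ha : a ∈ A) (hb : b ∈ B) (hu : u ∈ U) : b * (a * u * a⁻¹) * b⁻¹ = a * (b * u * b⁻¹) * a⁻¹ := by
  have h1 := comm_Y h O hAS d.U2 hVU hBS tB hb hu ha
  have h2 := d.a_comm hA ha (hBV b hb u hu)
  have haU : a * u * a⁻¹ ∈ U := d.memU (d.SP (hAS ha)) hu
  have hbU : b * u * b⁻¹ ∈ U := d.memU (d.SP (hBS hb)) hu
  calc b * (a * u * a⁻¹) * b⁻¹ = b * (a * u * a⁻¹ * u⁻¹) * u * b⁻¹ := by group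
    _ = a * u * a⁻¹ * u⁻¹ * b * u * b⁻¹ := by rw [h1]
    _ = (a * u * a⁻¹) * (u⁻¹ * (b * u * b⁻¹)) := by group
    _ = (u⁻¹ * (b * u * b⁻¹)) * (a * u * a⁻¹) := d.cU haU (mul_mem (inv_mem hu) hbU)
    _ = ((b * u * b⁻¹) * u⁻¹) * (a * u * a⁻¹) := by rw [d.cU (inv_mem hu) hbU]
    _ = (b * u * b⁻¹ * u⁻¹ * a) * u * a⁻¹ := by group
    _ = (a * (b * u * b⁻¹ * u⁻¹)) * u * a⁻¹ := by rw [h2]
    _ = a * (b * u * b⁻¹) * a⁻¹ := by group

/-- `N'` and `A` commute on `U` -/
theorem swap {n a u : G} (hn : n ∈ NC P' A') (ha : a ∈ A) (hu : u ∈ U) :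
    n * (a * u * a⁻¹) * n⁻¹ = a * (n * u * n⁻¹) * a⁻¹ := by
  have key : ∀ n (_ : n ∈ NC P' A'), ∀ a ∈ A, ∀ u ∈ U, n * (a * u * a⁻¹) * n⁻¹ = a * (n * u * n⁻¹) * a⁻¹ := by
    intro n hn
    have hn' : n ∈ closure {x | ∃ g ∈ P', ∃ a ∈ A', x = g * a * g⁻¹} := hn
    induction hn' using closure_induction with
    | mem x hx =>
      obtain ⟨y, hy, a', ha', rfl⟩ := hx
      intro a ha u hu
      -- `y = m s`
      have hy2 : y ∈ ((NC P' A' ⊔ S : Subgroup G) : Set G) := d.gen hy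
      have hSN : S ≤ normalizer (NC P' A' : Set G) := fun s hs => mem_normalizer_iff.2 fun x =>
        ⟨fun hx => conj_NC (d.SP hs) hx, fun hx => by
          have h1 := conj_NC (inv_mem (d.SP hs)) hx
          have e : s⁻¹ * (s * x * s⁻¹) * s⁻¹⁻¹ = x := by group
          rwa [e] at h1⟩
      rw [coe_mul_of_right_le_normalizer_left _ _ hSN] at hy2
      obtain ⟨m, hm, s, hs, rfl⟩ := hy2
      have hm' : m ∈ NC P' A' := hm
      have hs' : s ∈ S := hs
      have hmP := d.NP hm'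
      set b : G := s * a' * s⁻¹ with hb
      have hbS : cj s A' ≤ S := by
        intro z hz
        obtain ⟨z1, hz1, rfl⟩ := exists_of_mem_cj hz
        exact mul_mem (mul_mem hs' (d.AS hz1)) (inv_mem hs')
      have tb : Tt U (cj s A') := d.tt.cj (d.UN (d.SP hs'))
      have hbV : ∀ b ∈ cj s A', ∀ u ∈ U, b * u * b⁻¹ * u⁻¹ ∈ V' := by
        intro z hz u hu
        obtain ⟨z1, hz1, rfl⟩ := exists_of_mem_cj hz
        exact d.comm_mem (conj_NC (d.SP hs') (le_NC hz1)) hu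
      obtain ⟨a1, ha1, hau⟩ := d.same_conj h hVU O hAS t hA hm' ha
      have hu1 : m⁻¹ * u * m ∈ U := by
        have := d.memU (inv_mem hmP) hu
        rwa [inv_inv] at this
      have h1 := d.swap_S h hVU O hAS t hA hbS tb hbV ha1 (mem_cj_of (g := s) ha') hu1
      have hbP : b ∈ P' := mul_mem (mul_mem (d.SP hs') (d.SP (d.AS ha'))) (inv_mem (d.SP hs'))
      have hxu : m * b * m⁻¹ * u * (m * b * m⁻¹)⁻¹ ∈ U :=
        d.memU (mul_mem (mul_mem hmP hbP) (inv_mem hmP)) hu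
      have e0 : m * s * a' * (m * s)⁻¹ = m * b * m⁻¹ := by rw [hb]; group
      rw [e0, hau u hu, hau _ hxu]
      calc m * b * m⁻¹ * (m * a1 * m⁻¹ * u * (m * a1 * m⁻¹)⁻¹) * (m * b * m⁻¹)⁻¹ =
          m * (b * (a1 * (m⁻¹ * u * m) * a1⁻¹) * b⁻¹) * m⁻¹ := by group
        _ = m * (a1 * (b * (m⁻¹ * u * m) * b⁻¹) * a1⁻¹) * m⁻¹ := by rw [h1]
        _ = _ := by group
    | one => intro a _ u _; group
    | mul x y hx hy h1 h2 =>
      intro a ha u hu
      have h3 := h2 hy a ha u hu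
      have h4 := h1 hx a ha _ (d.memU (d.NP hy) hu)
      calc x * y * (a * u * a⁻¹) * (x * y)⁻¹ = x * (y * (a * u * a⁻¹) * y⁻¹) * x⁻¹ := by group
        _ = x * (a * (y * u * y⁻¹) * a⁻¹) * x⁻¹ := by rw [h3]
        _ = a * (x * (y * u * y⁻¹) * x⁻¹) * a⁻¹ := h4
        _ = _ := by group
    | inv x hx h1 =>
      intro a ha u hu
      have h3 := h1 hx a ha _ (d.memU (inv_mem (d.NP hx)) hu)
      have e : x * (x⁻¹ * u * x⁻¹⁻¹) * x⁻¹ = u := by group
      rw [e] at h3
      rw [← h3]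
      group
  exact key n hn a ha u hu

/-- **(1)** -/
theorem cent_comm {n a u : G} (hn : n ∈ NC P' A') (ha : a ∈ A) (hu : u ∈ U) :
    n * (a * u * a⁻¹ * u⁻¹) = a * u * a⁻¹ * u⁻¹ * n := by
  have h1 := d.swap h hVU O hAS t hA hn ha hu
  have h2 := d.a_comm hA ha (d.comm_mem hn hu)
  have haU : a * u * a⁻¹ ∈ U := d.memU (d.SP (hAS ha)) hu
  have hnU : n * u * n⁻¹ ∈ U := d.memU (d.NP hn) hu
  have h3 : n * (a * u * a⁻¹ * u⁻¹) * n⁻¹ = a * u * a⁻¹ * u⁻¹ := by
    calc n * (a * u * a⁻¹ * u⁻¹) * n⁻¹ = (n * (a * u * a⁻¹) * n⁻¹) * (n * u * n⁻¹)⁻¹ := by group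
      _ = (a * (n * u * n⁻¹) * a⁻¹) * (n * u * n⁻¹)⁻¹ := by rw [h1]
      _ = (a * (n * u * n⁻¹ * u⁻¹)) * u * a⁻¹ * (n * u * n⁻¹)⁻¹ := by group
      _ = (n * u * n⁻¹ * u⁻¹ * a) * u * a⁻¹ * (n * u * n⁻¹)⁻¹ := by rw [h2]
      _ = (n * u * n⁻¹) * (u⁻¹ * (a * u * a⁻¹)) * (n * u * n⁻¹)⁻¹ := by group
      _ = (u⁻¹ * (a * u * a⁻¹)) * (n * u * n⁻¹) * (n * u * n⁻¹)⁻¹ := by
        rw [d.cU hnU (mul_mem (inv_mem hu) haU)]
      _ = u⁻¹ * (a * u * a⁻¹) := by group
      _ = a * u * a⁻¹ * u⁻¹ := d.cU (inv_mem hu) haU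
  exact mul_inv_eq_iff_eq_mul.1 h3

end Sd

end Cfsg.Agent.Omega.NOThreeL.RRed.NS

end

section


/-!
# THEOREM NS (#24102): covered vectors and the comparison of two natural blocks over one offender

`M : NatKM F S P V D k`, `h : Nb M`, `C : Cd M j l g` (coordinates of `blk M j`), `2 < |F|`, `A` the root group of the
`j`-th summand (`One M U A j`), `covs U A = {[a, u]}`.

* `YY M j = {w ∈ blk M j : e w j 1 = 0}`, `DD M j = blk M j ∩ D`, `C.LL` = the torus part of `YY M j`;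
* `covs_iff` : the covered vectors are the `l (β t) g (β t²)`; `YY_eq` : `closure (covs U A) = YY M j`;
* `cov_small`, `cov_big` : `YY - covs = DD - 1`, resp. `(DD ∪ LL) - 1` if `|DD| = |F|`;
* **`compare`** : two natural modules over one `A`.
-/

set_option autoImplicit false
set_option linter.unusedSectionVars false

namespace Cfsg.Agent.Omega.NOThreeL.RRed.NS

open Subgroup Cfsg Cfsg.Agent.ZN Cfsg.Agent.ZN.ChoiceBase
open Cfsg.Agent.Omega.FFThm Cfsg.Agent.Omega.NatPair Cfsg.Agent.Lib.SL2Mat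
open Cfsg.Agent.Omega.NO3S.ThmB Cfsg.Agent.Omega.NO3S.KeyRad

universe u

variable {G : Type u} [Group G] {F : Type} [Field F] {S P V D : Subgroup G} {k : ℕ}

/-- the commutators `[a, u]`, `a ∈ A`, `u ∈ U` -/
def covs (U A : Subgroup G) : Set G := {w | ∃ a ∈ A, ∃ u ∈ U, a * u * a⁻¹ * u⁻¹ = w}

/-- `D_j = blk M j ∩ D` -/
def DD (M : NatKM F S P V D k) (j : Fin k) : Subgroup G := blk M j ⊓ D

section defs

variable {M : NatKM F S P V D k} (h : Nb M)
include h

/-- `Y_j = {w ∈ blk M j : e w j 1 = 0}` -/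
def YY (j : Fin k) : Subgroup G where
  carrier := {w | w ∈ blk M j ∧ M.e w j 1 = 0}
  one_mem' := ⟨one_mem _, by rw [Nb.e_one (M := M)]; rfl⟩
  mul_mem' := by
    rintro a b ⟨ha, ha0⟩ ⟨hb, hb0⟩
    refine ⟨mul_mem ha hb, ?_⟩
    rw [M.mul a (blk_le h j ha) b (blk_le h j hb), Pi.add_apply, Pi.add_apply, ha0, hb0, add_zero]
  inv_mem' := by
    rintro a ⟨ha, ha0⟩
    exact ⟨inv_mem ha, by rw [h.e_inv (blk_le h j ha), ha0]⟩

theorem mem_YY {j : Fin k} {w : G} : w ∈ YY h j ↔ w ∈ blk M j ∧ M.e w j 1 = 0 := Iff.rfl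

theorem YY_le (j : Fin k) : YY h j ≤ blk M j := fun _ hw => hw.1

theorem YY_le_V (j : Fin k) : YY h j ≤ V := (YY_le h j).trans (blk_le h j)

theorem DD_le_YY (j : Fin k) : DD M j ≤ YY h j := fun w hw => ⟨hw.1, by
  have h1 := (M.ker w (h.DV hw.2)).2 hw.2
  rw [h1]; rfl⟩

theorem mem_DD [CharP F 2] {j : Fin k} {w : G} (hw : w ∈ blk M j) : w ∈ DD M j ↔ M.e w j = 0 := by
  constructor
  · intro h1
    rw [(M.ker w (h.DV h1.2)).2 h1.2]; rfl
  · intro h1
    refine ⟨hw, (M.ker w (blk_le h j hw)).1 ?_⟩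
    funext i
    by_cases hi : i = j
    · rw [hi, h1]; rfl
    · exact e_blk h hi hw

end defs

namespace Cd

variable {M : NatKM F S P V D k} {j : Fin k} {l g : F → G} (C : Cd M j l g)
include C

theorem l_zero : l 0 = 1 := by
  have h := C.la 0 0
  rw [add_zero] at h
  exact left_eq_mul.1 h

theorem g_zero : g 0 = 1 := by
  have h := C.ga 0 0
  rw [add_zero] at h
  exact left_eq_mul.1 h

theorem l_inj {s t : F} (hst : l s = l t) : s = t := by
  have h1 := C.le s
  rw [hst, C.le t] at h1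
  exact (congrFun h1 0).symm

variable (h : Nb M) [CharP F 2]
include h

theorem lV (s : F) : l s ∈ V := blk_le h j (C.lm s)

theorem gV (s : F) : g s ∈ V := blk_le h j (C.gm s)

theorem lY (s : F) : l s ∈ YY h j := ⟨C.lm s, by rw [C.le s]; rfl⟩

theorem gDD (x : F) : g x ∈ DD M j := ⟨C.gm x, C.gD x⟩

theorem gY (x : F) : g x ∈ YY h j := DD_le_YY h j (C.gDD h x)

theorem e_lg (s x : F) : M.e (l s * g x) j = ![s, 0] := by
  rw [M.mul _ (C.lV h s) _ (C.gV h x), Pi.add_apply, C.le s, (mem_DD h (C.gm x)).1 (C.gDD h x), add_zero]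

theorem exists_eq {w : G} (hw : w ∈ YY h j) : ∃ s x, w = l s * g x := by
  obtain ⟨hwb, hw0⟩ := hw
  have h1 : (l (M.e w j 0))⁻¹ * w ∈ blk M j := mul_mem (inv_mem (C.lm _)) hwb
  have h2 : M.e ((l (M.e w j 0))⁻¹ * w) j = 0 := by
    rw [M.mul _ (inv_mem (C.lV h _)) _ (blk_le h j hwb), Pi.add_apply, h.e_inv (C.lV h _), C.le]
    funext i
    fin_cases i
    · change M.e w j 0 + M.e w j 0 = 0
      exact CharTwo.add_self_eq_zero _
    · change 0 + M.e w j 1 = 0
      rw [hw0, add_zero]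
  obtain ⟨x, hx⟩ := C.gs _ h1 ((mem_DD h h1).2 h2).2
  refine ⟨M.e w j 0, x, ?_⟩
  rw [hx, mul_inv_cancel_left]

theorem lg_inj {s t x y : F} (hst : l s * g x = l t * g y) : s = t ∧ g x = g y := by
  have h1 := C.e_lg h s x
  rw [hst, C.e_lg h t y] at h1
  have h2 : s = t := (congrFun h1 0).symm
  refine ⟨h2, ?_⟩
  rw [h2] at hst
  exact mul_left_cancel hst

theorem lg_mem_DD {s x : F} : l s * g x ∈ DD M j ↔ s = 0 := by
  rw [mem_DD h (mul_mem (C.lm s) (C.gm x)), C.e_lg h]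
  constructor
  · intro h1
    exact congrFun h1 0
  · rintro rfl
    funext i
    fin_cases i <;> rfl

/-- the torus part of `Y_j` -/
def LL : Subgroup G where
  carrier := {w | ∃ s, l s = w}
  one_mem' := ⟨0, C.l_zero⟩
  mul_mem' := by
    rintro _ _ ⟨s, rfl⟩ ⟨t, rfl⟩
    exact ⟨s + t, C.la s t⟩
  inv_mem' := by
    rintro _ ⟨s, rfl⟩
    exact ⟨s, (h.inv_eq (C.lV h s)).symm⟩

theorem mem_LL {w : G} : w ∈ C.LL h ↔ ∃ s, l s = w := Iff.rfl

theorem LL_le : C.LL h ≤ YY h j := by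
  rintro _ ⟨s, rfl⟩
  exact C.lY h s

theorem lg_mem_LL {s x : F} : l s * g x ∈ C.LL h ↔ g x = 1 := by
  constructor
  · rintro ⟨t, ht⟩
    have h1 : l t * g 0 = l s * g x := by rw [C.g_zero, mul_one, ht]
    exact ((C.lg_inj h h1).2).symm.trans C.g_zero
  · intro h1
    exact ⟨s, by rw [h1, mul_one]⟩

theorem DD_inf_LL : DD M j ⊓ C.LL h = ⊥ := by
  rw [eq_bot_iff]
  rintro _ ⟨h1, s, rfl⟩
  have h2 : l s * g 0 ∈ DD M j := by rw [C.g_zero, mul_one]; exact h1
  rw [(C.lg_mem_DD h).1 h2, C.l_zero]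
  exact one_mem _

theorem card_LL : Nat.card (C.LL h) = Nat.card F := by
  refine (Nat.card_congr (Equiv.ofBijective (fun s : F => (⟨l s, s, rfl⟩ : C.LL h)) ⟨?_, ?_⟩)).symm
  · intro s t hst
    exact C.l_inj (congrArg Subtype.val hst)
  · rintro ⟨_, s, rfl⟩
    exact ⟨s, rfl⟩

theorem card_DD_le [Finite F] : Nat.card (DD M j) ≤ Nat.card F := by
  refine Nat.card_le_card_of_surjective (fun s : F => (⟨g s, C.gDD h s⟩ : DD M j)) ?_
  rintro ⟨d, hd⟩
  obtain ⟨x, hx⟩ := C.gs d hd.1 hd.2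
  exact ⟨x, Subtype.ext hx⟩

/-- `|D_j| < |F|` : `g` has a kernel -/
theorem exists_ker [Finite F] (hc : Nat.card (DD M j) < Nat.card F) : ∃ y, y ≠ 0 ∧ g y = 1 := by
  by_contra hcon
  push Not at hcon
  refine absurd hc (not_lt.2 ?_)
  have hfin : Finite (DD M j) := Nat.finite_of_card_ne_zero (by
    intro h0
    have : Infinite (DD M j) := by
      rcases Nat.card_eq_zero.1 h0 with h1 | h1
      · exact absurd (one_mem (DD M j)) (fun h2 => h1.false ⟨1, h2⟩)
      · exact h1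
    have h3 : Function.Surjective (fun s : F => (⟨g s, C.gDD h s⟩ : DD M j)) := by
      rintro ⟨d, hd⟩
      obtain ⟨x, hx⟩ := C.gs d hd.1 hd.2
      exact ⟨x, Subtype.ext hx⟩
    exact not_finite_iff_infinite.2 this (Finite.of_surjective _ h3))
  refine Nat.card_le_card_of_injective (fun s : F => (⟨g s, C.gDD h s⟩ : DD M j)) ?_
  intro s t hst
  have h1 : g s = g t := congrArg Subtype.val hst
  by_contra hne
  refine hcon (s + t) (fun h0 => hne ?_) ?_
  · have h2 := CharTwo.add_self_eq_zero t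
    have h3 : s + t = t + t := by rw [h0, h2]
    exact add_right_cancel h3
  · rw [C.ga, h1]
    exact h.sq (C.gV h t)

/-- `|D_j| = |F|` : `g` is injective -/
theorem g_inj [Finite F] (hc : Nat.card (DD M j) = Nat.card F) {s t : F} (hst : g s = g t) : s = t := by
  have hsur : Function.Surjective (fun s : F => (⟨g s, C.gDD h s⟩ : DD M j)) := by
    rintro ⟨d, hd⟩
    obtain ⟨x, hx⟩ := C.gs d hd.1 hd.2
    exact ⟨x, Subtype.ext hx⟩
  have : Finite (DD M j) := Finite.of_surjective _ hsur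
  have hb := (Nat.bijective_iff_surjective_and_card (fun s : F => (⟨g s, C.gDD h s⟩ : DD M j))).2 ⟨hsur, hc.symm⟩
  exact hb.1 (Subtype.ext hst)

end Cd

section one

variable {M : NatKM F S P V D k} (h : Nb M) [CharP F 2] {U A : Subgroup G} {j : Fin k} {l g : F → G}
  (C : Cd M j l g) (O : One M U A j) (hAP : A ≤ P) (hVU : V ≤ U)
include h C O hAP hVU

/-- **the covered vectors** -/
theorem covs_iff {w : G} : w ∈ covs U A ↔ ∃ β t, w = l (β * t) * g (β * t ^ 2) := by
  constructor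
  · rintro ⟨a, ha, u, hu, rfl⟩
    obtain ⟨β, hβ⟩ := O.act a ha
    obtain ⟨v, hv, -, c, -, hc, rfl⟩ := O.full u hu
    refine ⟨β, M.e v j 1, ?_⟩
    rw [← C.cm a (hAP ha) β hβ v hv]
    have h1 := hc a ha
    calc a * (v * c) * a⁻¹ * (v * c)⁻¹ = a * v * (c * a⁻¹) * c⁻¹ * v⁻¹ := by group
      _ = a * v * (a⁻¹ * c) * c⁻¹ * v⁻¹ := by
        have h2 : c * a⁻¹ = a⁻¹ * c := by
          rw [eq_inv_mul_iff_mul_eq, ← mul_assoc, h1, mul_inv_cancel_right]
        rw [h2]
      _ = a * v * a⁻¹ * v⁻¹ := by group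
  · rintro ⟨β, t, rfl⟩
    obtain ⟨a, ha, hβ⟩ := O.all β
    obtain ⟨v, hv, hvj, -⟩ := Nb.exists_single M j ![0, t]
    refine ⟨a, ha, v, hVU hv, ?_⟩
    rw [C.cm a (hAP ha) β hβ v hv, hvj]
    rfl

theorem covs_lg {s x : F} : l s * g x ∈ covs U A ↔ l s * g x = 1 ∨ (s ≠ 0 ∧ ∃ y, y ≠ 0 ∧ g y = g x) := by
  rw [covs_iff h C O hAP hVU]
  constructor
  · rintro ⟨β, t, hw⟩
    obtain ⟨h1, h2⟩ := C.lg_inj h hw
    by_cases hs : s = 0
    · left
      rw [hs] at h1
      rcases mul_eq_zero.1 h1.symm with h3 | h3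
      · rw [hs, C.l_zero, h2, h3, zero_mul, C.g_zero, one_mul]
      · rw [hs, C.l_zero, h2, h3]
        rw [zero_pow two_ne_zero, mul_zero, C.g_zero, one_mul]
    · right
      refine ⟨hs, β * t ^ 2, ?_, h2.symm⟩
      rw [h1] at hs
      have h3 := left_ne_zero_of_mul hs
      have h4 := right_ne_zero_of_mul hs
      exact mul_ne_zero h3 (pow_ne_zero 2 h4)
  · rintro (h1 | ⟨hs, y, hy, hyx⟩)
    · exact ⟨0, 0, by rw [h1, zero_mul, zero_mul, C.l_zero, C.g_zero, one_mul]⟩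
    · refine ⟨s ^ 2 / y, y / s, ?_⟩
      have e1 : s ^ 2 / y * (y / s) = s := by field_simp
      have e2 : s ^ 2 / y * (y / s) ^ 2 = y := by field_simp
      rw [e1, e2, hyx]

theorem covs_sub {w : G} (hw : w ∈ covs U A) : w ∈ YY h j := by
  obtain ⟨β, t, rfl⟩ := (covs_iff h C O hAP hVU).1 hw
  exact mul_mem (C.lY h _) (C.gY h _)

/-- **`[U, A] = Y_j`** -/
theorem YY_eq [Finite F] (hF : 2 < Nat.card F) : closure (covs U A) = YY h j := by
  apply le_antisymm
  · rw [closure_le]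
    exact fun w hw => covs_sub h C O hAP hVU hw
  · intro w hw
    obtain ⟨s, x, rfl⟩ := C.exists_eq h hw
    have key : ∀ s : F, ∃ a b : F, a ≠ 0 ∧ b ≠ 0 ∧ s = a + b := by
      intro s
      obtain ⟨a, ha0, has⟩ : ∃ a : F, a ≠ 0 ∧ a ≠ s := by
        by_contra hcon
        push Not at hcon
        have hs : (Set.univ : Set F) ⊆ {0, s} := by
          intro x _
          rcases eq_or_ne x 0 with h | h
          · exact Or.inl h
          · exact Or.inr (hcon x h)
        have h3 := Set.ncard_le_ncard hs (Set.toFinite _)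
        have h4 := Set.ncard_insert_le (0 : F) {s}
        rw [Set.ncard_univ] at h3
        rw [Set.ncard_singleton] at h4
        omega
      exact ⟨a, s - a, ha0, fun h0 => has (sub_eq_zero.1 h0).symm, by ring⟩
    obtain ⟨s1, s2, hs1, hs2, rfl⟩ := key s
    obtain ⟨x1, x2, hx1, hx2, rfl⟩ := key x
    have h1 : l s1 * g x1 ∈ covs U A := (covs_lg h C O hAP hVU).2 (Or.inr ⟨hs1, x1, hx1, rfl⟩)
    have h2 : l s2 * g x2 ∈ covs U A := (covs_lg h C O hAP hVU).2 (Or.inr ⟨hs2, x2, hx2, rfl⟩)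
    have h3 : l (s1 + s2) * g (x1 + x2) = l s1 * g x1 * (l s2 * g x2) := by
      rw [C.la, C.ga]
      have h4 := h.cm (C.lV h s2) (C.gV h x1)
      calc l s1 * l s2 * (g x1 * g x2) = l s1 * (l s2 * g x1) * g x2 := by group
        _ = l s1 * (g x1 * l s2) * g x2 := by rw [h4]
        _ = _ := by group
    rw [h3]
    exact mul_mem (subset_closure h1) (subset_closure h2)

theorem cov_small [Finite F] (hc : Nat.card (DD M j) < Nat.card F) {w : G} (hw : w ∈ YY h j) :
    w ∈ covs U A ↔ w = 1 ∨ w ∉ DD M j := by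
  obtain ⟨s, x, rfl⟩ := C.exists_eq h hw
  rw [covs_lg h C O hAP hVU, C.lg_mem_DD h]
  refine or_congr Iff.rfl ⟨fun h1 => h1.1, fun h1 => ⟨h1, ?_⟩⟩
  by_cases hx : x = 0
  · obtain ⟨y, hy, hy1⟩ := C.exists_ker h hc
    exact ⟨y, hy, by rw [hy1, hx, C.g_zero]⟩
  · exact ⟨x, hx, rfl⟩

theorem cov_big [Finite F] (hc : Nat.card (DD M j) = Nat.card F) {w : G} (hw : w ∈ YY h j) :
    w ∈ covs U A ↔ w = 1 ∨ (w ∉ DD M j ∧ w ∉ C.LL h) := by
  obtain ⟨s, x, rfl⟩ := C.exists_eq h hw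
  rw [covs_lg h C O hAP hVU, C.lg_mem_DD h, C.lg_mem_LL h]
  refine or_congr Iff.rfl (and_congr Iff.rfl ⟨?_, fun h1 => ⟨x, ?_, rfl⟩⟩)
  · rintro ⟨y, hy, hyx⟩ h1
    rw [h1, ← C.g_zero] at hyx
    exact hy (C.g_inj h hc hyx)
  · rintro rfl
    exact h1 C.g_zero

end one

namespace Cd

variable {M : NatKM F S P V D k} {j : Fin k} {l g : F → G} (C : Cd M j l g) (h : Nb M) [CharP F 2]
include C h

theorem card_YY : Nat.card (YY h j) = Nat.card F * Nat.card (DD M j) := by
  rw [← Nat.card_prod]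
  refine (Nat.card_congr (Equiv.ofBijective
    (fun p : F × DD M j => (⟨l p.1 * (p.2 : G), mul_mem (C.lY h p.1) (DD_le_YY h j p.2.2)⟩ : YY h j)) ⟨?_, ?_⟩)).symm
  · rintro ⟨s, d, hd⟩ ⟨t, d', hd'⟩ hst
    have h1 : l s * d = l t * d' := congrArg Subtype.val hst
    obtain ⟨x, rfl⟩ := C.gs d hd.1 hd.2
    obtain ⟨y, rfl⟩ := C.gs d' hd'.1 hd'.2
    obtain ⟨h2, h3⟩ := C.lg_inj h h1
    exact Prod.ext h2 (Subtype.ext h3)
  · rintro ⟨w, hw⟩
    obtain ⟨s, x, rfl⟩ := C.exists_eq h hw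
    exact ⟨⟨s, g x, C.gDD h x⟩, rfl⟩

end Cd

/-- a subgroup in the union of two -/
theorem le_or_le_of_union {A B C : Subgroup G} (h : ∀ x ∈ A, x ∈ B ∨ x ∈ C) : A ≤ B ∨ A ≤ C := by
  by_contra hcon
  push Not at hcon
  obtain ⟨h1, h2⟩ := hcon
  obtain ⟨x, hx, hxB⟩ := SetLike.not_le_iff_exists.1 h1
  obtain ⟨y, hy, hyC⟩ := SetLike.not_le_iff_exists.1 h2
  have hxC : x ∈ C := (h x hx).resolve_left hxB
  have hyB : y ∈ B := (h y hy).resolve_right hyC
  rcases h (x * y) (mul_mem hx hy) with h3 | h3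
  · exact hxB ((mul_mem_cancel_right hyB).1 h3)
  · exact hyC ((mul_mem_cancel_left hxC).1 h3)

section cmp

variable {F' : Type} [Field F'] {S' P' V' D' : Subgroup G} {k' : ℕ}

theorem card_le_of_one [Finite F'] {M : NatKM F S P V D k} {M' : NatKM F' S' P' V' D' k'} (h' : Nb M')
    {U A : Subgroup G} {j : Fin k} {j' : Fin k'} (O : One M U A j) (O' : One M' U A j') (hAP' : A ≤ P')
    (hVU : V ≤ U) : Nat.card F ≤ Nat.card F' := by
  choose a haA ha using O.all
  choose b hb using fun β : F => O'.act (a β) (haA β)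
  refine Nat.card_le_card_of_injective b fun β₁ β₂ hβ => ?_
  have h1 : ∀ u ∈ U, a β₁ * u * (a β₁)⁻¹ = a β₂ * u * (a β₂)⁻¹ := by
    intro u hu
    obtain ⟨v, hv, -, c, -, hc, rfl⟩ := O'.full u hu
    have h2 := h'.same (hAP' (haA β₁)) (hAP' (haA β₂)) (hb β₁) (by rw [hβ]; exact hb β₂) hv
    have h3 : ∀ x ∈ A, x * (v * c) * x⁻¹ = x * v * x⁻¹ * c := by
      intro x hx
      have h4 := hc x⁻¹ (inv_mem hx)
      calc x * (v * c) * x⁻¹ = x * v * (c * x⁻¹) := by group
        _ = x * v * (x⁻¹ * c) := by rw [h4]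
        _ = _ := by group
    rw [h3 _ (haA β₁), h3 _ (haA β₂), h2]
  obtain ⟨v, hv, hvj, -⟩ := Nb.exists_single M j ![0, 1]
  have h2 := (ha β₁).1 v hv j
  have h3 := (ha β₂).1 v hv j
  rw [h1 v (hVU hv), h3, sg_self, sg_self, hvj] at h2
  have h4 := congrFun h2 0
  rw [ap_up_0, ap_up_0] at h4
  simpa using h4.symm

/-- **The comparison of two natural blocks over one offender.** -/
theorem compare [Finite G] [Finite F] [Finite F'] [CharP F 2] [CharP F' 2] {M : NatKM F S P V D k}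
    {M' : NatKM F' S' P' V' D' k'} (h : Nb M) (h' : Nb M') {U A : Subgroup G} {j : Fin k} {j' : Fin k'}
    {l g : F → G} {l' g' : F' → G} (C : Cd M j l g) (C' : Cd M' j' l' g') (O : One M U A j) (O' : One M' U A j')
    (hAP : A ≤ P) (hAP' : A ≤ P') (hVU : V ≤ U) (hVU' : V' ≤ U) (hF : 2 < Nat.card F) :
    Nat.card F = Nat.card F' ∧ YY h j = YY h' j' ∧ Nat.card (DD M j) = Nat.card (DD M' j') ∧
      (DD M j = DD M' j' ∨
        (Nat.card (DD M j) = Nat.card F ∧ DD M' j' = C.LL h ∧ C'.LL h' = DD M j)) := by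
  have hcF : Nat.card F = Nat.card F' :=
    le_antisymm (card_le_of_one h' O O' hAP' hVU) (card_le_of_one h O' O hAP hVU')
  have hF' : 2 < Nat.card F' := hcF ▸ hF
  have hY : YY h j = YY h' j' := by
    rw [← YY_eq h C O hAP hVU hF, ← YY_eq h' C' O' hAP' hVU' hF']
  have hcD : Nat.card (DD M j) = Nat.card (DD M' j') := by
    have h1 := C.card_YY h
    rw [hY, C'.card_YY h', ← hcF] at h1
    exact (Nat.eq_of_mul_eq_mul_left (by omega) h1).symm
  refine ⟨hcF, hY, hcD, ?_⟩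
  rcases lt_or_eq_of_le (C.card_DD_le h) with hlt | heq
  · left
    have hlt' : Nat.card (DD M' j') < Nat.card F' := by rw [← hcD, ← hcF]; exact hlt
    ext w
    by_cases hw : w ∈ YY h j
    · have h1 := cov_small h C O hAP hVU hlt hw
      have h2 := cov_small h' C' O' hAP' hVU' hlt' (hY ▸ hw)
      rw [h1] at h2
      by_cases hw1 : w = 1
      · rw [hw1]; exact ⟨fun _ => one_mem _, fun _ => one_mem _⟩
      · simp only [hw1, false_or] at h2
        exact not_iff_not.1 h2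
    · constructor
      · intro h3
        exact absurd (DD_le_YY h j h3) hw
      · intro h3
        rw [hY] at hw
        exact absurd (DD_le_YY h' j' h3) hw
  · have heq' : Nat.card (DD M' j') = Nat.card F' := by rw [← hcD, ← hcF]; exact heq
    have hun : ∀ w, (w ∈ DD M' j' ∨ w ∈ C'.LL h') → (w ∈ DD M j ∨ w ∈ C.LL h) := by
      intro w hw
      have hwY : w ∈ YY h' j' := by
        rcases hw with hw | hw
        · exact DD_le_YY h' j' hw
        · exact C'.LL_le h' hw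
      by_cases hw1 : w = 1
      · left
        rw [hw1]; exact one_mem _
      have h1 := cov_big h C O hAP hVU heq (w := w) (by rw [hY]; exact hwY)
      have h2 := cov_big h' C' O' hAP' hVU' heq' hwY
      rw [h1] at h2
      simp only [hw1, false_or] at h2
      by_contra hcon
      push Not at hcon
      rcases hw with hw | hw
      · exact (h2.1 hcon).1 hw
      · exact (h2.1 hcon).2 hw
    have hcL : Nat.card (C.LL h) = Nat.card (DD M' j') := by rw [C.card_LL h, heq', hcF]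
    have hcL' : Nat.card (C'.LL h') = Nat.card (DD M j) := by rw [C'.card_LL h', heq, hcF]
    rcases le_or_le_of_union fun w hw => hun w (Or.inl hw) with h1 | h1
    · left
      exact (eq_of_le_of_card_ge h1 hcD.le).symm
    · right
      have h2 : DD M' j' = C.LL h := eq_of_le_of_card_ge h1 hcL.le
      refine ⟨heq, h2, ?_⟩
      rcases le_or_le_of_union fun w hw => hun w (Or.inr hw) with h3 | h3
      · exact eq_of_le_of_card_ge h3 hcL'.ge
      · exfalso
        have h4 : C'.LL h' ≤ ⊥ := by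
          rw [← C'.DD_inf_LL h', h2]
          exact le_inf h3 le_rfl
        have h5 := C'.card_LL h'
        rw [le_bot_iff.1 h4, Subgroup.card_bot] at h5
        omega

end cmp

end Cfsg.Agent.Omega.NOThreeL.RRed.NS

end

section


/-!
# THEOREM NS (#24102): consequences of (1)

`M : NatKM F S P V D k`, `h : Nb M`, `2 < |F|`, `V ≤ U`, `P ≤ N(U)`.

* `not_le_of_one` : `One M U A i` ⟹ `A ≰ C(V)`;
* `exists_cj` : the conjugates under `S` of a member of `EE` which moves `V` act on all blocks;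
* `YY_conj`, `DD_conj` : they permute the `YY h j` and `DD M j`;
* `Gd S P' U V'` : a parabolic of arbitrary type, `Gd.sd`;
* `Gd.cent_YY` : some member of `EE` moves `V'` and some `A ∈ EE` moves `V`, not `V'` ⟹ `N'` centralises all `YY h j`;
* `Gd.fix` **(1)** : then `P'` fixes every `x ∈ ⨆ DD M j` which is fixed by `S`;
* `Gd.moves` : so, if `P'` moves such an `x`, every member of `EE` which moves `V` moves `V'`.
-/

set_option autoImplicit false
set_option linter.unusedSectionVars false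

namespace Cfsg.Agent.Omega.NOThreeL.RRed.NS

open Subgroup Cfsg Cfsg.Agent.ZN Cfsg.Agent.ZN.ChoiceBase
open Cfsg.Agent.Omega.FFThm Cfsg.Agent.Lib.SL2Mat
open Cfsg.Agent.Omega.NatPair (ap)
open Cfsg.Agent.Omega.NO3S.ThmB Cfsg.Agent.Omega.NO3S.KeyRad

universe u

variable {G : Type u} [Group G]

theorem covs_cj {U A : Subgroup G} {s : G} (hs : s ∈ normalizer (U : Set G)) {w : G} :
    w ∈ covs U (cj s A) ↔ s⁻¹ * w * s ∈ covs U A := by
  constructor
  · rintro ⟨a, ha, u, hu, rfl⟩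
    obtain ⟨b, hb, rfl⟩ := exists_of_mem_cj ha
    have h1 : s⁻¹ * u * s ∈ U := by
      have := (mem_normalizer_iff.1 (inv_mem hs) u).1 hu
      rwa [inv_inv] at this
    exact ⟨b, hb, _, h1, by group⟩
  · rintro ⟨b, hb, u, hu, e⟩
    refine ⟨s * b * s⁻¹, mem_cj_of hb, s * u * s⁻¹, (mem_normalizer_iff.1 hs u).1 hu, ?_⟩
    have e2 : w = s * (s⁻¹ * w * s) * s⁻¹ := by group
    rw [e2, ← e]
    group

theorem closure_covs_cj {U A : Subgroup G} {s : G} (hs : s ∈ normalizer (U : Set G)) :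
    closure (covs U (cj s A)) = cj s (closure (covs U A)) := by
  apply le_antisymm
  · rw [closure_le]
    intro w hw
    rw [SetLike.mem_coe, mem_cj]
    exact subset_closure ((covs_cj hs).1 hw)
  · rw [cj_le_iff, closure_le]
    intro w hw
    rw [SetLike.mem_coe, mem_cj, inv_inv]
    refine subset_closure ((covs_cj hs).2 ?_)
    have e : s⁻¹ * (s * w * s⁻¹) * s = w := by group
    rw [e]
    exact hw

section first

variable [Finite G] {F : Type} [Field F] [Finite F] [CharP F 2] {S P V D U : Subgroup G} {k : ℕ}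
  {M : NatKM F S P V D k} (h : Nb M)

omit [Finite G] [Finite F] in
theorem not_le_of_one {A : Subgroup G} {i : Fin k} (O : One M U A i) : ¬ A ≤ centralizer (V : Set G) := by
  intro hA
  obtain ⟨w, hw, hwi, -⟩ := Nb.exists_single M i ![0, 1]
  obtain ⟨a, ha, hab⟩ := O.all 1
  have h1 : a * w * a⁻¹ = w := by
    rw [← mem_centralizer_iff.1 (hA ha) w hw]
    group
  have h2 := congrFun (hab.1 w hw i) 0
  rw [h1, sg_self, ap_up_0, hwi] at h2
  simp at h2

include h

/-- the conjugates of a member of `EE` act on all blocks -/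
theorem exists_cj (hU2 : IsElementaryAbelian 2 U) (hVU : V ≤ U) (hPU : P ≤ normalizer (U : Set G)) {A : Subgroup G}
    (hAS : A ≤ S) (t : Tt U A) {i : Fin k} (O : One M U A i) (j : Fin k) :
    ∃ s ∈ S, cj s A ≤ S ∧ Tt U (cj s A) ∧ One M U (cj s A) j := by
  obtain ⟨s, hs, hsj⟩ := M.trans i j
  have hsP := h.SP' hs
  have h1 : cj s A ≤ S := by
    have := cj_mono s hAS
    rwa [cj_eq_of_mem_normalizer (le_normalizer hs)] at this
  have h2 : Tt U (cj s A) := t.cj (hPU hsP)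
  have h3 : ¬ cj s A ≤ centralizer (V : Set G) := by
    intro h4
    rw [cj_le_iff, cj_centralizer, cj_eq_of_mem_normalizer (inv_mem (h.VP' hsP))] at h4
    exact not_le_of_one O h4
  obtain ⟨j', O'⟩ := h2.one h hU2 hVU h1 h3
  have h4 := h.idx_conj O hs hsj O'
  subst h4
  exact ⟨s, hs, h1, h2, O'⟩

/-- the conjugates of the root line -/
theorem YY_conj (hF : 2 < Nat.card F) (hVU : V ≤ U) (hPU : P ≤ normalizer (U : Set G)) {A : Subgroup G}
    (hAS : A ≤ S) {i j : Fin k} (O : One M U A i) {s : G} (hs : s ∈ S) (O' : One M U (cj s A) j) :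
    cj s (YY h i) = YY h j := by
  obtain ⟨l, g, C⟩ := exists_cd h hF i
  obtain ⟨l', g', C'⟩ := exists_cd h hF j
  have h1 : cj s A ≤ S := by
    have := cj_mono s hAS
    rwa [cj_eq_of_mem_normalizer (le_normalizer hs)] at this
  rw [← YY_eq h C O (hAS.trans h.SP') hVU hF, ← YY_eq h C' O' (h1.trans h.SP') hVU hF,
    closure_covs_cj (hPU (h.SP' hs))]

omit [Finite G] [Finite F] [CharP F 2] in
theorem DD_eq (j : Fin k) : DD M j = YY h j ⊓ D :=
  le_antisymm (le_inf (DD_le_YY h j) inf_le_right) (inf_le_inf_right _ (YY_le h j))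

theorem DD_conj (hF : 2 < Nat.card F) (hVU : V ≤ U) (hPU : P ≤ normalizer (U : Set G)) {A : Subgroup G}
    (hAS : A ≤ S) {i j : Fin k} (O : One M U A i) {s : G} (hs : s ∈ S) (O' : One M U (cj s A) j) :
    cj s (DD M i) = DD M j := by
  rw [DD_eq h, DD_eq h, cj_inf, YY_conj h hF hVU hPU hAS O hs O', cj_eq_of_mem_normalizer (h.DP' (h.SP' hs))]

end first

/-- the second parabolic, arbitrary type -/
structure Gd (S P' U V' : Subgroup G) : Prop where
  SP : S ≤ P'
  UN : P' ≤ normalizer (U : Set G)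
  U2 : IsElementaryAbelian 2 U
  VU : V' ≤ U
  VN : P' ≤ normalizer (V' : Set G)
  PS : ∀ B ≤ S, B ≤ centralizer (V' : Set G) → ∀ h ∈ P', cj h B ≤ S
  full : ∀ A ≤ S, Tt U A → ¬ A ≤ centralizer (V' : Set G) → ∀ u ∈ U, ∃ v ∈ V', ∃ c ∈ U,
    (∀ a ∈ A, a * c = c * a) ∧ u = v * c
  gen : ∀ A ≤ S, ¬ A ≤ centralizer (V' : Set G) → P' ≤ NC P' A ⊔ S

theorem Gd.sd {S P' U V' A : Subgroup G} (g : Gd S P' U V') (hA : A ≤ S) (t : Tt U A)
    (hne : ¬ A ≤ centralizer (V' : Set G)) : Sd S P' U V' A :=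
  ⟨g.SP, g.UN, g.U2, g.VU, g.VN, g.PS, hA, t, g.full A hA t hne, g.gen A hA hne⟩

section one

variable [Finite G] {F : Type} [Field F] [Finite F] [CharP F 2] {S P V D U : Subgroup G} {k : ℕ}
  {M : NatKM F S P V D k} (h : Nb M) (hF : 2 < Nat.card F) (hVU : V ≤ U) (hPU : P ≤ normalizer (U : Set G))
  {P' V' : Subgroup G} (g : Gd S P' U V')
include h hF hVU hPU g

theorem Gd.cent_YY {A' : Subgroup G} (hA'S : A' ≤ S) (t' : Tt U A') (hne' : ¬ A' ≤ centralizer (V' : Set G))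
    {A : Subgroup G} (hAS : A ≤ S) (t : Tt U A) (hne : ¬ A ≤ centralizer (V : Set G))
    (hA : A ≤ centralizer (V' : Set G)) (j : Fin k) {n w : G} (hn : n ∈ NC P' A') (hw : w ∈ YY h j) :
    n * w = w * n := by
  obtain ⟨i, O⟩ := t.one h g.U2 hVU hAS hne
  obtain ⟨s, hs, hsS, ts, Os⟩ := exists_cj h g.U2 hVU hPU hAS t O j
  have d := g.sd hA'S t' hne'
  have hsC : cj s A ≤ centralizer (V' : Set G) := by
    rw [cj_le_iff, cj_centralizer, cj_eq_of_mem_normalizer (inv_mem (g.VN (g.SP hs)))]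
    exact hA
  obtain ⟨l, f, C⟩ := exists_cd h hF j
  have h1 : closure (covs U (cj s A)) ≤ centralizer ({n} : Set G) := by
    rw [closure_le]
    rintro _ ⟨a, ha, u, hu, rfl⟩
    rw [SetLike.mem_coe, mem_centralizer_singleton_iff]
    exact (d.cent_comm h hVU Os hsS ts hsC hn ha hu).symm
  rw [YY_eq h C Os (hsS.trans h.SP') hVU hF] at h1
  exact (mem_centralizer_singleton_iff.1 (h1 hw)).symm

/-- **(1)** -/
theorem Gd.fix {A' : Subgroup G} (hA'S : A' ≤ S) (t' : Tt U A') (hne' : ¬ A' ≤ centralizer (V' : Set G))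
    {A : Subgroup G} (hAS : A ≤ S) (t : Tt U A) (hne : ¬ A ≤ centralizer (V : Set G))
    (hA : A ≤ centralizer (V' : Set G)) {x : G} (hx : x ∈ ⨆ j, DD M j) (hxS : ∀ s ∈ S, s * x = x * s) :
    ∀ y ∈ P', y * x = x * y := by
  have d := g.sd hA'S t' hne'
  have h1 : NC P' A' ≤ centralizer ({x} : Set G) := by
    intro n hn
    have h2 : (⨆ j, DD M j) ≤ centralizer ({n} : Set G) := by
      refine iSup_le fun j w hw => ?_
      rw [mem_centralizer_singleton_iff]
      exact (g.cent_YY h hF hVU hPU hA'S t' hne' hAS t hne hA j hn (DD_le_YY h j hw)).symm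
    rw [mem_centralizer_singleton_iff]
    exact (mem_centralizer_singleton_iff.1 (h2 hx)).symm
  have h2 : S ≤ centralizer ({x} : Set G) := fun s hs => by
    rw [mem_centralizer_singleton_iff]
    exact hxS s hs
  intro y hy
  exact mem_centralizer_singleton_iff.1 ((sup_le h1 h2) (d.gen hy))

/-- if `P'` moves `x ∈ D₀ ∩ Z`, then every member of `EE` which moves `V` moves `V'` -/
theorem Gd.moves {A' : Subgroup G} (hA'S : A' ≤ S) (t' : Tt U A') (hne' : ¬ A' ≤ centralizer (V' : Set G))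
    {x : G} (hx : x ∈ ⨆ j, DD M j) (hxS : ∀ s ∈ S, s * x = x * s) {y : G} (hy : y ∈ P') (hyx : y * x ≠ x * y)
    {A : Subgroup G} (hAS : A ≤ S) (t : Tt U A) (hne : ¬ A ≤ centralizer (V : Set G)) :
    ¬ A ≤ centralizer (V' : Set G) := fun hA =>
  hyx (g.fix h hF hVU hPU hA'S t' hne' hAS t hne hA hx hxS y hy)

end one

end Cfsg.Agent.Omega.NOThreeL.RRed.NS

end
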