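import Cfsg.Agent.Mrg.Omega.NOThreeL.RRed.NS.Blk


/-!
# THEOREM NS (#24102): the root group `A` and its conjugate `A^p` on the block `blk M j`

`p ∈ P` acts as the Weyl element `wm 1` on the `j`-th summand: `A^p` acts as the lower root group.
-/

set_option autoImplicit false
set_option linter.unusedSectionVars false

namespace Cfsg.Agent.Omega.NOThreeL.RRed.NS

open Subgroup Cfsg Cfsg.Agent.ZN Cfsg.Agent.ZN.ChoiceBase
open Cfsg.Agent.Omega.FFThm Cfsg.Agent.Omega.NatPair Cfsg.Agent.Lib.SL2Mat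
open Cfsg.Agent.Omega.NO3S.ThmB Cfsg.Agent.Omega.NO3S.KeyRad
open scoped Pointwise

universe u

variable {G : Type u} [Group G] {F : Type} [Field F] {S P V D : Subgroup G} {k : ℕ}

/-- the Weyl element -/
abbrev wl (F : Type) [Field F] : Matrix.SpecialLinearGroup (Fin 2) F := wm 1 one_ne_zero

theorem wl_up (c : F) : wl F * up c * (wl F)⁻¹ = lo (-c) := by
  rw [wm_up, mul_inv_cancel_right, one_pow, div_one]

theorem exists_p (M : NatKM F S P V D k) (j : Fin k) : ∃ p ∈ P, ActsSL M.e V D p (sg j (wl F)) := M.lift _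

section

variable {M : NatKM F S P V D k} (h : Nb M) [CharP F 2] {U A : Subgroup G} {j : Fin k} {p : G}
include h

/-- elements acting on the `j`-th summand normalise `blk M j` -/
theorem conj_blk {c : G} (hc : c ∈ P) {B : Matrix.SpecialLinearGroup (Fin 2) F}
    (hB : ActsSL M.e V D c (sg j B)) {w : G} (hw : w ∈ blk M j) : c * w * c⁻¹ ∈ blk M j := by
  have e : c * w * c⁻¹ = c * w * c⁻¹ * w⁻¹ * w := by group
  rw [e]
  exact mul_mem (mem_blk hc hB (blk_le h j hw)) hw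

theorem e_conj_blk {c : G} {B : Matrix.SpecialLinearGroup (Fin 2) F}
    (hB : ActsSL M.e V D c (sg j B)) {w : G} (hw : w ∈ blk M j) : M.e (c * w * c⁻¹) j = ap B (M.e w j) := by
  rw [hB.1 w (blk_le h j hw) j, sg_self]

/-- **(card)** -/
theorem card_blk : Nat.card (blk M j) = Nat.card F ^ 2 * Nat.card (DD M j) := by
  choose s hs hse using exists_blk_e (M := M) h j
  have h1 : Nat.card (Fin 2 → F) = Nat.card F ^ 2 := by
    rw [Nat.card_fun, Nat.card_fin]
  rw [← h1, ← Nat.card_prod]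
  refine (Nat.card_congr (Equiv.ofBijective
    (fun x : (Fin 2 → F) × DD M j => (⟨s x.1 * (x.2 : G), mul_mem (hs x.1) x.2.2.1⟩ : blk M j)) ⟨?_, ?_⟩)).symm
  · rintro ⟨x, d, hd⟩ ⟨y, d', hd'⟩ hxy
    have h2 : s x * d = s y * d' := congrArg Subtype.val hxy
    have h3 : M.e (s x * d) j = M.e (s y * d') j := by rw [h2]
    rw [M.mul _ (blk_le h j (hs x)) _ (blk_le h j hd.1), M.mul _ (blk_le h j (hs y)) _ (blk_le h j hd'.1),
      Pi.add_apply, Pi.add_apply, (mem_DD h hd.1).1 hd, (mem_DD h hd'.1).1 hd', add_zero, add_zero, hse, hse] at h3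
    subst h3
    exact Prod.ext rfl (Subtype.ext (mul_left_cancel h2))
  · rintro ⟨w, hw⟩
    have h2 : (s (M.e w j))⁻¹ * w ∈ blk M j := mul_mem (inv_mem (hs _)) hw
    have h3 : (s (M.e w j))⁻¹ * w ∈ DD M j := by
      rw [mem_DD h h2, M.mul _ (inv_mem (blk_le h j (hs _))) _ (blk_le h j hw), Pi.add_apply,
        h.e_inv (blk_le h j (hs _)), hse]
      funext i
      exact CharTwo.add_self_eq_zero _
    exact ⟨⟨M.e w j, _, h3⟩, Subtype.ext (mul_inv_cancel_left _ _)⟩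

variable (O : One M U A j) (hAP : A ≤ P)
include O hAP

/-- **(cent)** `A` centralises all `Y_c` -/
theorem cent_YY {a : G} (ha : a ∈ A) {c : Fin k} {y : G} (hy : y ∈ YY h c) : a * y = y * a := by
  by_cases hc : c = j
  · subst hc
    exact (O.cen y (YY_le_V h _ hy)).2 hy.2 a ha
  · obtain ⟨β, hβ⟩ := O.act a ha
    exact h.dir (hAP ha) hβ (sg_ne hc _) (YY_le_V h _ hy) fun l hl => e_blk h hl hy.1

/-- **(index)** -/
theorem relIndex_le [Finite F] : (centralizer (A : Set G)).relIndex U ≤ Nat.card F := by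
  classical
  choose v hv hvl c hc hcA hvc using O.full
  rw [relIndex, index]
  refine Nat.card_le_card_of_injective
    (fun x : U ⧸ (centralizer (A : Set G)).subgroupOf U => M.e (v (x.out : G) x.out.2) j 1) ?_
  intro x y hxy
  simp only at hxy
  rw [← Quotient.out_eq' x, ← Quotient.out_eq' y]
  refine QuotientGroup.eq.2 ?_
  change (x.out)⁻¹ * y.out ∈ (centralizer (A : Set G)).subgroupOf U
  rw [mem_subgroupOf, mem_centralizer_iff]
  intro a ha
  set vx := v (x.out : G) x.out.2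
  set vy := v (y.out : G) y.out.2
  have hvx : vx ∈ V := hv _ _
  have hvy : vy ∈ V := hv _ _
  have h1 : a * (vx⁻¹ * vy) = vx⁻¹ * vy * a := by
    refine (O.cen _ (mul_mem (inv_mem hvx) hvy)).2 ?_ a ha
    rw [M.mul _ (inv_mem hvx) _ hvy, h.e_inv hvx, Pi.add_apply, Pi.add_apply, hxy]
    exact CharTwo.add_self_eq_zero _
  have h2 : Commute a (vx⁻¹ * vy) := h1
  have h3 : Commute a (c (x.out : G) x.out.2) := hcA _ _ a ha
  have h4 : Commute a (c (y.out : G) y.out.2) := hcA _ _ a ha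
  have e : (((x.out)⁻¹ * y.out : U) : G) = (c (x.out : G) x.out.2)⁻¹ * (vx⁻¹ * vy) * c (y.out : G) y.out.2 := by
    rw [coe_mul, coe_inv]
    conv_lhs => rw [hvc (x.out : G) x.out.2, hvc (y.out : G) y.out.2]
    group
    rfl
  rw [e]
  exact (h3.inv_right.mul_right h2).mul_right h4

variable (hp : p ∈ P) (hpA : ActsSL M.e V D p (sg j (wl F)))
include hp hpA

omit O hAP in
theorem acts_conj_of {a : G} (ha : a ∈ P) {β : F} (hβ : ActsSL M.e V D a (sg j (up β))) :
    ActsSL M.e V D (p * a * p⁻¹) (sg j (lo (-β))) := by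
  have h1 := h.acts_mul ha hpA hβ
  have h2 := h.acts_mul (inv_mem hp) h1 (h.acts_inv hp hpA)
  have h3 : sg j (wl F) * sg j (up β) * (sg j (wl F))⁻¹ = (sg j (lo (-β)) : Fin k → _) := by
    rw [mul_inv_eq_iff_eq_mul, ← sg_mul, ← sg_mul, ← wl_up, inv_mul_cancel_right]
  rwa [h3] at h2

omit h O hAP hp hpA in
theorem mem_conj_iff {x : G} : x ∈ MulAut.conj p • A ↔ p⁻¹ * x * p ∈ A := by
  rw [Subgroup.mem_pointwise_smul_iff_inv_smul_mem, ← map_inv, MulAut.smul_def, MulAut.conj_apply, inv_inv]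

theorem acts_conj {x : G} (hx : x ∈ MulAut.conj p • A) : ∃ β, ActsSL M.e V D x (sg j (lo β)) := by
  rw [mem_conj_iff] at hx
  obtain ⟨β, hβ⟩ := O.act _ hx
  have h1 := acts_conj_of h hp hpA (hAP hx) hβ
  have e : p * (p⁻¹ * x * p) * p⁻¹ = x := by group
  rw [e] at h1
  exact ⟨_, h1⟩

theorem all_conj (β : F) : ∃ x ∈ MulAut.conj p • A, ActsSL M.e V D x (sg j (lo β)) := by
  obtain ⟨a, ha, hβ⟩ := O.all (-β)
  refine ⟨p * a * p⁻¹, ?_, ?_⟩
  · rw [mem_conj_iff]
    have e : p⁻¹ * (p * a * p⁻¹) * p = a := by group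
    rwa [e]
  · have h1 := acts_conj_of h hp hpA (hAP ha) hβ
    rwa [neg_neg] at h1

omit h O hpA in
theorem conj_le_P : MulAut.conj p • A ≤ P := by
  intro x hx
  rw [mem_conj_iff] at hx
  have e : x = p * (p⁻¹ * x * p) * p⁻¹ := by group
  rw [e]
  exact mul_mem (mul_mem hp (hAP hx)) (inv_mem hp)

/-- **(fE)** -/
theorem mem_DD_of_fixed {v : G} (hv : v ∈ blk M j) (h1 : ∀ a ∈ A, a * v * a⁻¹ = v)
    (h2 : ∀ a ∈ MulAut.conj p • A, a * v * a⁻¹ = v) : v ∈ DD M j := by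
  have hvV := blk_le h j hv
  rw [mem_DD h hv]
  obtain ⟨x, hx, hxl⟩ := all_conj h O hAP hp hpA 1
  have h3 : M.e v j 1 = 0 := (O.cen v hvV).1 fun a ha => mul_inv_eq_iff_eq_mul.1 (h1 a ha)
  have h4 := e_conj_blk h hxl hv
  rw [h2 x hx] at h4
  have h5 := congrFun h4 1
  rw [ap_lo_1, h3, one_mul, add_zero] at h5
  exact ext2 h5.symm h3

/-- **(Ef)** -/
theorem fix_D {d a : G} (hd : d ∈ D) (ha : a ∈ MulAut.conj p • A) : a * d * a⁻¹ = d := by
  obtain ⟨β, hβ⟩ := acts_conj h O hAP hp hpA ha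
  rw [hβ.2 d hd, mul_inv_cancel_right]

/-- **(tr)** -/
theorem exists_YY {v : G} (hv : v ∈ blk M j) : ∃ x ∈ A ⊔ MulAut.conj p • A, x * v * x⁻¹ ∈ YY h j := by
  by_cases h1 : M.e v j 1 = 0
  · exact ⟨1, one_mem _, by rw [one_mul, inv_one, mul_one]; exact ⟨hv, h1⟩⟩
  by_cases h0 : M.e v j 0 = 0
  · obtain ⟨a, ha, haA⟩ := O.all 1
    obtain ⟨x, hx, hxl⟩ := all_conj h O hAP hp hpA 1
    have hxP := conj_le_P hAP hp hx
    refine ⟨x * a, mul_mem (mem_sup_right hx) (mem_sup_left ha), ?_⟩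
    have e : x * a * v * (x * a)⁻¹ = x * (a * v * a⁻¹) * x⁻¹ := by group
    have h2 := conj_blk h (hAP ha) haA hv
    rw [e]
    refine ⟨conj_blk h hxP hxl h2, ?_⟩
    rw [e_conj_blk h hxl h2, ap_lo_1, e_conj_blk h haA hv, ap_up_0, ap_up_1, h0, one_mul, one_mul, zero_add]
    exact CharTwo.add_self_eq_zero _
  · obtain ⟨x, hx, hxl⟩ := all_conj h O hAP hp hpA (M.e v j 1 / M.e v j 0)
    have hxP := conj_le_P hAP hp hx
    refine ⟨x, mem_sup_right hx, conj_blk h hxP hxl hv, ?_⟩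
    rw [e_conj_blk h hxl hv, ap_lo_1, div_mul_cancel₀ _ h0]
    exact CharTwo.add_self_eq_zero _

/-- **(mv)** -/
theorem exists_not_mem_YY {l g : F → G} (C : Cd M j l g) {s : F} (hs : s ≠ 0) :
    ∃ a ∈ MulAut.conj p • A, a * l s * a⁻¹ ∉ YY h j := by
  obtain ⟨x, hx, hxl⟩ := all_conj h O hAP hp hpA 1
  refine ⟨x, hx, fun h1 => hs ?_⟩
  have h2 := h1.2
  rw [e_conj_blk h hxl (C.lm s), ap_lo_1, C.le s] at h2
  simpa using h2

/-- **(cent')** -/
theorem cent_conj {a : G} (ha : a ∈ MulAut.conj p • A) {c : Fin k} (hc : c ≠ j) {y : G} (hy : y ∈ blk M c) :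
    a * y * a⁻¹ = y := by
  obtain ⟨β, hβ⟩ := acts_conj h O hAP hp hpA ha
  rw [h.dir (conj_le_P hAP hp ha) hβ (sg_ne hc _) (blk_le h c hy) fun l hl => e_blk h hl hy, mul_inv_cancel_right]

/-- `A^p` has the same index -/
theorem relIndex_conj_le [Finite F] (hU : ∀ u ∈ U, p * u * p⁻¹ ∈ U) (hU' : ∀ u ∈ U, p⁻¹ * u * p ∈ U) :
    (centralizer ((MulAut.conj p • A : Subgroup G) : Set G)).relIndex U ≤ Nat.card F := by
  have e1 : (MulAut.conj p • U : Subgroup G) = U := by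
    ext x
    rw [mem_conj_iff]
    refine ⟨fun hx => ?_, fun hx => hU' x hx⟩
    have := hU _ hx
    have e : p * (p⁻¹ * x * p) * p⁻¹ = x := by group
    rwa [e] at this
  have e2 : centralizer ((MulAut.conj p • A : Subgroup G) : Set G) = MulAut.conj p • centralizer (A : Set G) := by
    ext x
    rw [mem_conj_iff, mem_centralizer_iff, mem_centralizer_iff]
    constructor
    · intro hx a ha
      have h1 := hx (p * a * p⁻¹) (by
        rw [SetLike.mem_coe, mem_conj_iff]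
        have e : p⁻¹ * (p * a * p⁻¹) * p = a := by group
        rwa [e])
      calc a * (p⁻¹ * x * p) = p⁻¹ * (p * a * p⁻¹ * x) * p := by group
        _ = p⁻¹ * (x * (p * a * p⁻¹)) * p := by rw [h1]
        _ = _ := by group
    · intro hx a ha
      rw [SetLike.mem_coe, mem_conj_iff] at ha
      have h1 := hx _ ha
      calc a * x = p * (p⁻¹ * a * p * (p⁻¹ * x * p)) * p⁻¹ := by group
        _ = p * (p⁻¹ * x * p * (p⁻¹ * a * p)) * p⁻¹ := by rw [h1]
        _ = _ := by group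
  rw [e2]
  conv_lhs => rw [← e1]
  rw [relIndex_pointwise_smul]
  exact relIndex_le h O hAP

end

end Cfsg.Agent.Omega.NOThreeL.RRed.NS
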