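import Mathlib

section


/-!
# NO-3L, box R: THEOREM NS (helper777, #24102), step (3)

`H` (= `X₂ = ⟨P, P'⟩`) acts on `M` (= `V*`, additive), `S` Sylow 2, `EE` a set of 2-subgroups of `S` (closed under
`H`-conjugation into `S`), `J` normal in `H`, blocks `Y b = [M, A]` (`A ∈ EE` of type `b`); for one block `b` there are
`D, l ≤ Y b` such that `Y b` minus the commutators of `A` is `D ∪ l`.

* `Frame S J EE Y`, `Bl S J EE Y b D l`;
* `Frame.card_le` : `S ∩ G_b` has the order of a Sylow group of `G_b = C_H(Y_c : c ≠ b)`;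
* `Frame.mem_D` : a vector `k x ∈ Y_b C(K)` lies in `D_b`;
* **`Frame.false_of`** : contradiction.
-/

set_option autoImplicit false
set_option linter.unusedSectionVars false

namespace Cfsg.Agent.Omega.NOThreeL.RRed.NS

open Subgroup
open scoped Pointwise

universe u v w

variable {H : Type u} {M : Type v} {ι : Type w} [Group H] [AddCommGroup M] [DistribMulAction H M]

/-- the fixed points of `A` -/
def fxd (A : Subgroup H) : AddSubgroup M where
  carrier := {m | ∀ a ∈ A, a • m = m}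
  zero_mem' := fun a _ => smul_zero a
  add_mem' := fun {x y} hx hy a ha => by rw [smul_add, hx a ha, hy a ha]
  neg_mem' := fun {x} hx a ha => by rw [smul_neg, hx a ha]

theorem mem_fxd {A : Subgroup H} {m : M} : m ∈ (fxd A : AddSubgroup M) ↔ ∀ a ∈ A, a • m = m := Iff.rfl

/-- `[M, A]` -/
def brk (M : Type v) [AddCommGroup M] [DistribMulAction H M] (A : Subgroup H) : AddSubgroup M :=
  AddSubgroup.closure {m | ∃ a ∈ A, ∃ v : M, a • v - v = m}

/-- `G_b = C_H(Y_c : c ≠ b)` -/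
def GB (Y : ι → AddSubgroup M) (b : ι) : Subgroup H where
  carrier := {g | ∀ c, c ≠ b → ∀ y ∈ Y c, g • y = y}
  one_mem' := fun c _ y _ => one_smul _ _
  mul_mem' := fun {x y} hx hy c hc z hz => by rw [mul_smul, hy c hc z hz, hx c hc z hz]
  inv_mem' := fun {x} hx c hc z hz => by
    rw [inv_smul_eq_iff]
    exact (hx c hc z hz).symm

theorem mem_GB {Y : ι → AddSubgroup M} {b : ι} {g : H} :
    g ∈ (GB Y b : Subgroup H) ↔ ∀ c, c ≠ b → ∀ y ∈ Y c, g • y = y := Iff.rfl

/-- The frame of THEOREM NS (3). -/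
structure Frame (S : Sylow 2 H) (J : Subgroup H) (EE : Set (Subgroup H)) (Y : ι → AddSubgroup M) : Prop where
  JN : J.Normal
  EES : ∀ A ∈ EE, A ≤ S
  EEc : ∀ A ∈ EE, ∀ h : H, MulAut.conj h • A ≤ S → MulAut.conj h • A ∈ EE
  typ : ∀ A ∈ EE, ¬ A ≤ J → ∃ b, brk M A = Y b
  ex : ∀ b, ∃ A ∈ EE, ¬ A ≤ J ∧ brk M A = Y b
  cent : ∀ A ∈ EE, ∀ c, ∀ y ∈ Y c, ∀ a ∈ A, a • y = y
  inj : ∀ b c, Y b = Y c → b = c

/-- The two subgroups `D`, `l` of the block `b`. -/
structure Bl (S : Sylow 2 H) (J : Subgroup H) (EE : Set (Subgroup H)) (Y : ι → AddSubgroup M) (b : ι)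
    (D l : AddSubgroup M) : Prop where
  DY : D ≤ Y b
  lY : l ≤ Y b
  Dl : D ⊓ l = ⊥
  SD : ∀ s ∈ S, s • Y b = Y b → s • D = D
  cov : ∀ A ∈ EE, ¬ A ≤ J → brk M A = Y b → ∀ m ∈ Y b,
    (∃ a ∈ A, ∃ v : M, a • v - v = m) ↔ m = 0 ∨ (m ∉ D ∧ m ∉ l)

/-! ### pure lemmas -/

theorem mem_conj {x y : H} {A : Subgroup H} : y ∈ MulAut.conj x • A ↔ x⁻¹ * y * x ∈ A := by
  rw [Subgroup.mem_pointwise_smul_iff_inv_smul_mem, ← map_inv, MulAut.smul_def, MulAut.conj_apply, inv_inv]

theorem conj_mem' {x a : H} {A : Subgroup H} (ha : a ∈ A) : x * a * x⁻¹ ∈ MulAut.conj x • A := by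
  rw [mem_conj]
  have e1 : x⁻¹ * (x * a * x⁻¹) * x = a := by group
  rwa [e1]

theorem conj_conj (x y : H) (A : Subgroup H) : MulAut.conj x • MulAut.conj y • A = MulAut.conj (x * y) • A := by
  rw [smul_smul, ← map_mul]

theorem conj_one (A : Subgroup H) : MulAut.conj (1 : H) • A = A := by rw [map_one, one_smul]

theorem conj_inv_conj (x : H) (A : Subgroup H) : MulAut.conj x⁻¹ • MulAut.conj x • A = A := by
  rw [conj_conj, inv_mul_cancel, conj_one]

theorem conj_conj_inv (x : H) (A : Subgroup H) : MulAut.conj x • MulAut.conj x⁻¹ • A = A := by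
  rw [conj_conj, mul_inv_cancel, conj_one]

theorem conj_le_iff {x : H} {A B : Subgroup H} : MulAut.conj x • A ≤ MulAut.conj x • B ↔ A ≤ B :=
  Subgroup.pointwise_smul_le_pointwise_smul_iff

theorem conj_eq_of_mem {x : H} {A : Subgroup H} (hx : x ∈ A) : MulAut.conj x • A = A :=
  Subgroup.conj_smul_eq_self_of_mem hx

theorem card_conj (x : H) (A : Subgroup H) : Nat.card (MulAut.conj x • A : Subgroup H) = Nat.card A :=
  (Nat.card_congr (Subgroup.equivSMul (MulAut.conj x) A).toEquiv).symm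

theorem isPGroup_conj {p : ℕ} (x : H) {A : Subgroup H} (h : IsPGroup p A) :
    IsPGroup p (MulAut.conj x • A : Subgroup H) :=
  h.of_equiv (Subgroup.equivSMul (MulAut.conj x) A)

theorem conj_normal {J : Subgroup H} (hJ : J.Normal) (g : H) : MulAut.conj g • J = J := by
  ext x
  rw [mem_conj]
  constructor
  · intro h
    have h1 := hJ.conj_mem _ h g
    have e1 : g * (g⁻¹ * x * g) * g⁻¹ = x := by group
    rwa [e1] at h1
  · intro h
    have h1 := hJ.conj_mem _ h g⁻¹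
    rwa [inv_inv] at h1

theorem le_normalizer_of {A B : Subgroup H} (h : ∀ a ∈ A, ∀ b ∈ B, a * b * a⁻¹ ∈ B) :
    A ≤ normalizer (B : Set H) := by
  intro a ha
  rw [Subgroup.mem_normalizer_iff]
  intro b
  refine ⟨h a ha b, fun hb => ?_⟩
  have h1 := h a⁻¹ (inv_mem ha) _ hb
  have e1 : a⁻¹ * (a * b * a⁻¹) * a⁻¹⁻¹ = b := by group
  rwa [e1] at h1

/-- A 2-subgroup of `C ≥ T` is `C`-conjugate into `T`, if `T` is a 2-subgroup of `C` of maximal order. -/
theorem conj_le_of_card [Finite H] {C T A : Subgroup H} (hT : IsPGroup 2 T) (hTC : T ≤ C) (hA : IsPGroup 2 A)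
    (hAC : A ≤ C) (hmax : ∀ R ≤ C, IsPGroup 2 R → Nat.card R ≤ Nat.card T) :
    ∃ c ∈ C, MulAut.conj c • A ≤ T := by
  have : Fact (Nat.Prime 2) := ⟨Nat.prime_two⟩
  have hT' : IsPGroup 2 (T.subgroupOf C) := hT.comap_of_injective C.subtype C.subtype_injective
  have hA' : IsPGroup 2 (A.subgroupOf C) := hA.comap_of_injective C.subtype C.subtype_injective
  obtain ⟨T₁, hT₁⟩ := hT'.exists_le_sylow
  obtain ⟨A₁, hA₁⟩ := hA'.exists_le_sylow
  have h1 : (T₁ : Subgroup C).map C.subtype = T := by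
    symm
    have hle : T ≤ (T₁ : Subgroup C).map C.subtype := by
      intro t ht
      exact ⟨⟨t, hTC ht⟩, hT₁ (mem_subgroupOf.2 ht), rfl⟩
    refine Subgroup.eq_of_le_of_card_ge hle (hmax _ ?_ (T₁.isPGroup'.map _))
    rintro _ ⟨y, -, rfl⟩
    exact y.2
  obtain ⟨c, hc⟩ := MulAction.exists_smul_eq C A₁ T₁
  refine ⟨c, c.2, ?_⟩
  intro y hy
  rw [mem_conj] at hy
  have h2 : (⟨(c : H)⁻¹ * y * c, hAC hy⟩ : C) ∈ (A₁ : Subgroup C) := hA₁ (mem_subgroupOf.2 hy)
  have h3 : c * (⟨(c : H)⁻¹ * y * c, hAC hy⟩ : C) * c⁻¹ ∈ (T₁ : Subgroup C) := by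
    rw [← hc, Sylow.coe_subgroup_smul, mem_conj]
    have e1 : c⁻¹ * (c * (⟨(c : H)⁻¹ * y * c, hAC hy⟩ : C) * c⁻¹) * c = ⟨(c : H)⁻¹ * y * c, hAC hy⟩ := by group
    rw [e1]
    exact h2
  rw [← h1]
  refine ⟨_, h3, ?_⟩
  simp only [coe_subtype, coe_mul, coe_inv]
  group

/-- A 2-subgroup of `C ≥ S` is in a `C`-conjugate of `S`. -/
theorem exists_conj_le [Finite H] (S : Sylow 2 H) {C Q : Subgroup H} (hSC : (S : Subgroup H) ≤ C)
    (hQ : IsPGroup 2 Q) (hQC : Q ≤ C) : ∃ m ∈ C, Q ≤ MulAut.conj m • (S : Subgroup H) := by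
  have : Fact (Nat.Prime 2) := ⟨Nat.prime_two⟩
  obtain ⟨c, hc, h⟩ := conj_le_of_card (C := C) (T := S) S.isPGroup' hSC hQ hQC (by
    intro R _ hR
    obtain ⟨T, hT⟩ := hR.exists_le_sylow
    refine (Nat.card_le_card_of_injective _ (Subgroup.inclusion_injective hT)).trans ?_
    exact le_of_eq (Nat.card_congr (Sylow.equiv T S).toEquiv))
  refine ⟨c⁻¹, inv_mem hc, ?_⟩
  have h1 := (conj_le_iff (x := c⁻¹)).2 h
  rwa [conj_inv_conj] at h1

/-- an additive subgroup in the union of two -/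
theorem le_or_le {A B C : AddSubgroup M} (h : ∀ x ∈ A, x ∈ B ∨ x ∈ C) : A ≤ B ∨ A ≤ C := by
  by_contra hcon
  push Not at hcon
  obtain ⟨h1, h2⟩ := hcon
  obtain ⟨x, hx, hxB⟩ := SetLike.not_le_iff_exists.1 h1
  obtain ⟨y, hy, hyC⟩ := SetLike.not_le_iff_exists.1 h2
  have hxC : x ∈ C := (h x hx).resolve_left hxB
  have hyB : y ∈ B := (h y hy).resolve_right hyC
  rcases h (x + y) (add_mem hx hy) with h3 | h3
  · exact hxB (by simpa using sub_mem h3 hyB)
  · exact hyC (by simpa using sub_mem h3 hxC)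

theorem mem_smul' {h : H} {A : AddSubgroup M} {m : M} : m ∈ h • A ↔ h⁻¹ • m ∈ A :=
  AddSubgroup.mem_pointwise_smul_iff_inv_smul_mem

theorem card_smul' (h : H) (A : AddSubgroup M) : Nat.card (h • A : AddSubgroup M) = Nat.card A := by
  refine Nat.card_congr ⟨fun x => ⟨h⁻¹ • (x : M), mem_smul'.1 x.2⟩, fun x => ⟨h • (x : M), ?_⟩, fun x => ?_, fun x => ?_⟩
  · rw [mem_smul', inv_smul_smul]; exact x.2
  · exact Subtype.ext (smul_inv_smul h _)
  · exact Subtype.ext (inv_smul_smul h _)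

theorem smul_eq_of_le [Finite M] {h : H} {A : AddSubgroup M} (hA : h • A ≤ A) : h • A = A :=
  AddSubgroup.eq_of_le_of_card_ge hA (card_smul' h A).ge

theorem smul_le_smul' {h : H} {A B : AddSubgroup M} (hAB : h • A ≤ h • B) : A ≤ B := by
  intro x hx
  have h1 : h • x ∈ h • A := by rw [mem_smul', inv_smul_smul]; exact hx
  have h2 := hAB h1
  rwa [mem_smul', inv_smul_smul] at h2

theorem smul_mono' {h : H} {A B : AddSubgroup M} (hAB : A ≤ B) : h • A ≤ h • B := by
  intro x hx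
  rw [mem_smul'] at hx ⊢
  exact hAB hx

theorem smul_bot' (h : H) : h • (⊥ : AddSubgroup M) = ⊥ := by
  rw [eq_bot_iff]
  intro x hx
  rw [mem_smul', AddSubgroup.mem_bot, inv_smul_eq_iff, smul_zero] at hx
  exact AddSubgroup.mem_bot.2 hx

/-- the two subgroups are preserved or interchanged -/
theorem pair_of_union [Finite M] {h : H} {D l : AddSubgroup M} (hDl : D ⊓ l = ⊥)
    (hp : ∀ m, m ∈ D ∨ m ∈ l → h • m ∈ D ∨ h • m ∈ l) :
    (h • D = D ∧ h • l = l) ∨ (h • D = l ∧ h • l = D) := by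
  have h1 : h • D ≤ D ∨ h • D ≤ l := le_or_le fun x hx => by
    have := hp _ (Or.inl (mem_smul'.1 hx))
    rwa [smul_inv_smul] at this
  have h2 : h • l ≤ D ∨ h • l ≤ l := le_or_le fun x hx => by
    have := hp _ (Or.inr (mem_smul'.1 hx))
    rwa [smul_inv_smul] at this
  rcases h1 with h1 | h1
  · have e1 := smul_eq_of_le h1
    rcases h2 with h2 | h2
    · rw [← e1] at h2
      have h3 := smul_le_smul' h2
      have h4 : l = ⊥ := by rw [← hDl, inf_eq_right.2 h3]
      exact Or.inl ⟨e1, by rw [h4, smul_bot']⟩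
    · exact Or.inl ⟨e1, smul_eq_of_le h2⟩
  · rcases h2 with h2 | h2
    · refine Or.inr ⟨AddSubgroup.eq_of_le_of_card_ge h1 ?_, AddSubgroup.eq_of_le_of_card_ge h2 ?_⟩
      · rw [card_smul']
        have := Nat.card_le_card_of_injective _ (AddSubgroup.inclusion_injective h2)
        rwa [card_smul'] at this
      · rw [card_smul']
        have := Nat.card_le_card_of_injective _ (AddSubgroup.inclusion_injective h1)
        rwa [card_smul'] at this
    · have e2 := smul_eq_of_le h2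
      rw [← e2] at h1
      have h3 := smul_le_smul' h1
      have h4 : D = ⊥ := by rw [← hDl, inf_eq_left.2 h3]
      exact Or.inl ⟨by rw [h4, smul_bot'], e2⟩

theorem smul_brk (h : H) (A : Subgroup H) : h • brk M A = brk M (MulAut.conj h • A) := by
  apply le_antisymm
  · intro x hx
    rw [mem_smul'] at hx
    have h1 : ∀ y ∈ brk M A, h • y ∈ brk M (MulAut.conj h • A) := by
      intro y hy
      induction hy using AddSubgroup.closure_induction with
      | mem y hy =>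
        obtain ⟨a, ha, v, rfl⟩ := hy
        refine AddSubgroup.subset_closure ⟨h * a * h⁻¹, conj_mem' ha, h • v, ?_⟩
        rw [smul_sub, mul_smul, mul_smul, inv_smul_smul]
      | zero => rw [smul_zero]; exact zero_mem _
      | add x y _ _ h1 h2 => rw [smul_add]; exact add_mem h1 h2
      | neg x _ h1 => rw [smul_neg]; exact neg_mem h1
    have h2 := h1 _ hx
    rwa [smul_inv_smul] at h2
  · rw [brk, AddSubgroup.closure_le]
    rintro _ ⟨a, ha, v, rfl⟩
    rw [mem_conj] at ha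
    rw [SetLike.mem_coe, mem_smul']
    refine AddSubgroup.subset_closure ⟨_, ha, h⁻¹ • v, ?_⟩
    rw [smul_sub, mul_smul, mul_smul, smul_inv_smul]

/-! ### the Sylow group of `G_b` -/

namespace Frame

variable [Finite H] [Finite M] {S : Sylow 2 H} {J : Subgroup H} {EE : Set (Subgroup H)} {Y : ι → AddSubgroup M}
  (F : Frame S J EE Y)
include F

theorem le_GB {A : Subgroup H} (hA : A ∈ EE) (b : ι) : A ≤ GB Y b := fun a ha c _ y hy => F.cent A hA c y hy a ha

/-- a conjugation which maps `EE` into `EE` has its inverse mapping `EE` into `EE` -/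
theorem inv_EE {g : H} (h : ∀ A ∈ EE, MulAut.conj g • A ∈ EE) : ∀ A ∈ EE, MulAut.conj g⁻¹ • A ∈ EE := by
  intro A hA
  have hinj : Function.Injective (fun B : EE => (⟨MulAut.conj g • (B : Subgroup H), h B B.2⟩ : EE)) := by
    intro B C hBC
    have h1 := congrArg Subtype.val hBC
    exact Subtype.ext (smul_left_cancel _ h1)
  obtain ⟨B, hB⟩ := (Finite.injective_iff_surjective.1 hinj) ⟨A, hA⟩
  have h1 : MulAut.conj g • (B : Subgroup H) = A := congrArg Subtype.val hB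
  rw [← h1, conj_inv_conj]
  exact B.2

/-- an element mapping `EE` into `EE` permutes the `Y b` -/
theorem exists_Y {g : H} (h : ∀ A ∈ EE, MulAut.conj g • A ∈ EE) (c : ι) : ∃ d, g • Y c = Y d := by
  obtain ⟨A, hA, hJ, ht⟩ := F.ex c
  obtain ⟨d, hd⟩ := F.typ _ (h A hA) fun hle => hJ (by
    have h1 : MulAut.conj g⁻¹ • MulAut.conj g • A ≤ MulAut.conj g⁻¹ • J := conj_le_iff.2 hle
    rw [conj_inv_conj] at h1
    have h2 : MulAut.conj g⁻¹ • J = J := conj_normal F.JN g⁻¹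
    rwa [h2] at h1)
  exact ⟨d, by rw [← ht, smul_brk, hd]⟩

theorem S_EE {s : H} (hs : s ∈ S) {A : Subgroup H} (hA : A ∈ EE) : MulAut.conj s • A ∈ EE := by
  refine F.EEc A hA s ?_
  have h1 := (conj_le_iff (x := s)).2 (F.EES A hA)
  rwa [conj_eq_of_mem hs] at h1

/-- `t ∈ G_b` which permutes the `Y c` normalises `Y b` -/
theorem fix_Y {b : ι} {g : H} (hg : g ∈ (GB Y b : Subgroup H)) {d : ι} (h : g • Y b = Y d) : d = b := by
  by_contra hd
  have h1 : g • Y d = Y d := by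
    apply le_antisymm
    · intro y hy
      rw [mem_smul'] at hy
      have h2 := hg d hd _ hy
      rw [smul_inv_smul] at h2
      rw [h2]; exact hy
    · intro y hy
      rw [mem_smul']
      have h2 := hg d hd _ hy
      rw [← h2, inv_smul_smul]; exact hy
  have h2 : Y b = Y d := smul_left_cancel g (h.trans h1.symm)
  exact hd (F.inj _ _ h2.symm)

/-- **`S ∩ G_b` is Sylow in `G_b`.** -/
theorem card_le (b : ι) {R : Subgroup H} (hR : R ≤ GB Y b) (h2 : IsPGroup 2 R) :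
    Nat.card R ≤ Nat.card ((S : Subgroup H) ⊓ GB Y b : Subgroup H) := by
  have : Fact (Nat.Prime 2) := ⟨Nat.prime_two⟩
  -- WLOG `S ∩ G_b ≤ R`
  set T := (S : Subgroup H) ⊓ GB Y b with hT
  have key : ∀ R : Subgroup H, R ≤ GB Y b → IsPGroup 2 R → T ≤ R → Nat.card R ≤ Nat.card T := by
    intro R hR h2 hTR
    -- `R` normalises `EE`
    obtain ⟨g, -, hg⟩ := exists_conj_le S (C := ⊤) le_top h2 le_top
    have h3 : ∀ A ∈ EE, MulAut.conj g⁻¹ • A ∈ EE := by
      intro A hA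
      refine F.EEc A hA _ ?_
      have h4 : A ≤ MulAut.conj g • (S : Subgroup H) := (le_inf (F.EES A hA) (F.le_GB hA b)).trans (hTR.trans hg)
      have h5 := (conj_le_iff (x := g⁻¹)).2 h4
      rwa [conj_inv_conj] at h5
    have h4 : ∀ A ∈ EE, MulAut.conj g • A ∈ EE := by
      have := F.inv_EE h3
      simpa using this
    have h5 : ∀ r ∈ R, ∀ A ∈ EE, MulAut.conj r • A ∈ EE := by
      intro r hr A hA
      have h6 := hg hr
      rw [mem_conj] at h6
      have h7 := h4 _ (F.S_EE h6 (h3 A hA))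
      rw [conj_conj, conj_conj] at h7
      have e1 : g * (g⁻¹ * r * g) * g⁻¹ = r := by group
      rwa [e1] at h7
    -- `Γ₁`
    let Γ : Subgroup H :=
      { carrier := {x | (∀ A ∈ EE, MulAut.conj x • A ∈ EE) ∧ ∀ c, x • Y c = Y c}
        one_mem' := ⟨fun A hA => by rw [conj_one]; exact hA, fun c => one_smul _ _⟩
        mul_mem' := fun {x y} hx hy => ⟨fun A hA => by
          rw [← conj_conj]; exact hx.1 _ (hy.1 A hA), fun c => by rw [mul_smul, hy.2, hx.2]⟩
        inv_mem' := fun {x} hx => ⟨F.inv_EE hx.1, fun c => by rw [inv_smul_eq_iff, hx.2]⟩ }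
    have hRΓ : R ≤ Γ := by
      intro r hr
      refine ⟨h5 r hr, fun c => ?_⟩
      by_cases hc : c = b
      · subst hc
        obtain ⟨d, hd⟩ := F.exists_Y (h5 r hr) c
        rw [hd, F.fix_Y (hR hr) hd]
      · apply le_antisymm
        · intro y hy
          rw [mem_smul'] at hy
          have h6 := hR hr c hc _ hy
          rw [smul_inv_smul] at h6
          rw [h6]; exact hy
        · intro y hy
          rw [mem_smul']
          have h6 := hR hr c hc _ hy
          rw [← h6, inv_smul_smul]; exact hy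
    have hSΓ : (S : Subgroup H) ≤ normalizer (Γ : Set H) := by
      refine le_normalizer_of fun s hs x hx => ⟨fun A hA => ?_, fun c => ?_⟩
      · rw [← conj_conj, ← conj_conj]
        exact F.S_EE hs (hx.1 _ (F.S_EE (inv_mem hs) hA))
      · obtain ⟨d, hd⟩ := F.exists_Y (fun A hA => F.S_EE (inv_mem hs) hA) c
        rw [mul_smul, mul_smul, hd, hx.2, ← hd, smul_inv_smul]
    obtain ⟨m, hm, hmR⟩ := exists_conj_le S (C := Γ ⊔ S) le_sup_right h2 (hRΓ.trans le_sup_left)
    have hm' : m ∈ ((Γ ⊔ S : Subgroup H) : Set H) := hm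
    rw [coe_mul_of_right_le_normalizer_left _ _ hSΓ] at hm'
    obtain ⟨γ, hγ, s, hs, rfl⟩ := Set.mem_mul.1 hm'
    rw [← conj_conj, conj_eq_of_mem hs] at hmR
    have h6 : MulAut.conj γ⁻¹ • R ≤ T := by
      refine le_inf ?_ ?_
      · have h7 := (conj_le_iff (x := γ⁻¹)).2 hmR
        rwa [conj_inv_conj] at h7
      · intro y hy c hc z hz
        rw [mem_conj, inv_inv] at hy
        have h7 : γ • z ∈ Y c := by
          rw [← hγ.2 c, mem_smul', inv_smul_smul]; exact hz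
        have h8 := hR hy c hc _ h7
        rw [mul_smul, inv_smul_smul, mul_smul] at h8
        exact smul_left_cancel _ h8
    rw [← card_conj γ⁻¹ R]
    exact Nat.card_le_card_of_injective _ (Subgroup.inclusion_injective h6)
  have hTp : IsPGroup 2 T := S.isPGroup'.to_le inf_le_left
  have hT' : IsPGroup 2 (T.subgroupOf (GB Y b)) :=
    hTp.comap_of_injective (GB Y b).subtype (GB Y b).subtype_injective
  have hR' : IsPGroup 2 (R.subgroupOf (GB Y b)) :=
    h2.comap_of_injective (GB Y b).subtype (GB Y b).subtype_injective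
  obtain ⟨T₁, hT₁⟩ := hT'.exists_le_sylow
  obtain ⟨R₁, hR₁⟩ := hR'.exists_le_sylow
  have h3 : Nat.card ((T₁ : Subgroup (GB Y b : Subgroup H)).map (GB Y b).subtype) ≤ Nat.card T := by
    refine key _ ?_ (T₁.isPGroup'.map _) ?_
    · rintro _ ⟨y, -, rfl⟩
      exact y.2
    · intro t ht
      exact ⟨⟨t, (mem_inf.1 ht).2⟩, hT₁ (mem_subgroupOf.2 ht), rfl⟩
  have h4 : Nat.card ((T₁ : Subgroup (GB Y b : Subgroup H)).map (GB Y b).subtype) = Nat.card T₁ :=
    Nat.card_congr (Subgroup.equivMapOfInjective (T₁ : Subgroup (GB Y b : Subgroup H)) _ (GB Y b).subtype_injective).symm.toEquiv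
  have h5 : Nat.card R₁ = Nat.card T₁ := Nat.card_congr (Sylow.equiv R₁ T₁).toEquiv
  have h6 : Nat.card R = Nat.card (R.subgroupOf (GB Y b)) :=
    Nat.card_congr (Subgroup.subgroupOfEquivOfLe hR).symm.toEquiv
  calc Nat.card R = Nat.card (R.subgroupOf (GB Y b)) := h6
    _ ≤ Nat.card (R₁ : Subgroup (GB Y b : Subgroup H)) := Nat.card_le_card_of_injective _ (Subgroup.inclusion_injective hR₁)
    _ = Nat.card T₁ := h5
    _ ≤ Nat.card T := h4 ▸ h3

/-! ### the two classes -/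

/-- elements of `S ∩ G_b` fix `Y_b` -/
theorem T_Y {b : ι} {t : H} (ht : t ∈ (S : Subgroup H) ⊓ GB Y b) : t • Y b = Y b := by
  obtain ⟨d, hd⟩ := F.exists_Y (fun A hA => F.S_EE (mem_inf.1 ht).1 hA) b
  rw [hd, F.fix_Y (mem_inf.1 ht).2 hd]

theorem conj_not_le {A : Subgroup H} (hJ : ¬ A ≤ J) (h : H) : ¬ MulAut.conj h • A ≤ J := fun hle => hJ (by
  have h4 := (conj_le_iff (x := h⁻¹)).2 hle
  rwa [conj_inv_conj, conj_normal F.JN] at h4)

variable {b : ι} {D l : AddSubgroup M} (B : Bl S J EE Y b D l)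
include B

/-- `h Y_b = Y_b` and `A, A^h` of type `b`: `h` preserves the pair `{D_b, l_b}` -/
theorem pair {A : Subgroup H} {h : H} (hA : A ∈ EE) (hJ : ¬ A ≤ J) (hAt : brk M A = Y b)
    (hA' : MulAut.conj h • A ∈ EE) (hY : h • Y b = Y b) : (h • D = D ∧ h • l = l) ∨ (h • D = l ∧ h • l = D) := by
  have hJ' := F.conj_not_le hJ h
  have hAt' : brk M (MulAut.conj h • A) = Y b := by rw [← smul_brk, hAt, hY]
  refine pair_of_union B.Dl fun m hm => ?_
  have hmY : m ∈ Y b := hm.elim (fun h => B.DY h) fun h => B.lY h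
  have hmY' : h • m ∈ Y b := by
    rw [← hY, mem_smul', inv_smul_smul]; exact hmY
  by_contra hcon
  push Not at hcon
  obtain ⟨a, ha, v, hv⟩ := (B.cov _ hA' hJ' hAt' _ hmY').2 (Or.inr hcon)
  rw [mem_conj] at ha
  have h1 : ∃ a ∈ A, ∃ v : M, a • v - v = m := by
    refine ⟨_, ha, h⁻¹ • v, ?_⟩
    rw [mul_smul, mul_smul, smul_inv_smul, ← smul_sub, hv, inv_smul_smul]
  rcases (B.cov _ hA hJ hAt _ hmY).1 h1 with h2 | h2
  · rw [h2, smul_zero] at hcon
    exact hcon.1 (zero_mem _)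
  · exact hm.elim h2.1 h2.2

theorem T_l {t : H} (ht : t ∈ (S : Subgroup H) ⊓ GB Y b) : t • D = D ∧ t • l = l := by
  have h1 := F.T_Y ht
  have h2 := B.SD t (mem_inf.1 ht).1 h1
  obtain ⟨A, hA, hJ, hAt⟩ := F.ex b
  have h3 := F.S_EE (mem_inf.1 ht).1 hA
  rcases F.pair B hA hJ hAt h3 h1 with h5 | h5
  · exact h5
  · refine ⟨h2, ?_⟩
    have h6 : D = l := h2.symm.trans h5.1
    rw [← h6, h2]

omit [Finite H] [Finite M] F B in
/-- `N₂` -/
def NTwo (Y : ι → AddSubgroup M) (b : ι) (D l : AddSubgroup M) : Subgroup H where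
  carrier := {g | g ∈ (GB Y b : Subgroup H) ∧
    ((g • D = D ∧ g • l = l) ∨ (g • D = l ∧ g • l = D))}
  one_mem' := ⟨one_mem _, Or.inl ⟨one_smul _ _, one_smul _ _⟩⟩
  mul_mem' := by
    rintro x y ⟨hx, hx'⟩ ⟨hy, hy'⟩
    refine ⟨mul_mem hx hy, ?_⟩
    rcases hx' with ⟨h1, h2⟩ | ⟨h1, h2⟩ <;> rcases hy' with ⟨h3, h4⟩ | ⟨h3, h4⟩
    · exact Or.inl ⟨by rw [mul_smul, h3, h1], by rw [mul_smul, h4, h2]⟩
    · exact Or.inr ⟨by rw [mul_smul, h3, h2], by rw [mul_smul, h4, h1]⟩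
    · exact Or.inr ⟨by rw [mul_smul, h3, h1], by rw [mul_smul, h4, h2]⟩
    · exact Or.inl ⟨by rw [mul_smul, h3, h2], by rw [mul_smul, h4, h1]⟩
  inv_mem' := by
    rintro x ⟨hx, hx'⟩
    refine ⟨inv_mem hx, ?_⟩
    rcases hx' with ⟨h1, h2⟩ | ⟨h1, h2⟩
    · exact Or.inl ⟨by rw [inv_smul_eq_iff, h1], by rw [inv_smul_eq_iff, h2]⟩
    · exact Or.inr ⟨by rw [inv_smul_eq_iff, h2], by rw [inv_smul_eq_iff, h1]⟩

/-- **`N₂` normalises `D_b`.** -/
theorem NTwo_D (hD : D ≠ ⊥) {g : H} (hg : g ∈ (NTwo Y b D l : Subgroup H)) : g • D = D := by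
  by_contra hcon
  have hne : D ≠ l := fun h => hD (by
    have := B.Dl
    rwa [← h, inf_idem] at this)
  have hsw : g • D = l ∧ g • l = D := hg.2.resolve_left fun h => hcon h.1
  -- odd powers of `g` swap
  have hodd : ∀ n : ℕ, (g ^ (2 * n + 1)) • D = l ∧ (g ^ (2 * n + 1)) • l = D := by
    intro n
    induction n with
    | zero => simpa using hsw
    | succ n ih =>
      have e1 : g ^ (2 * (n + 1) + 1) = g * (g * g ^ (2 * n + 1)) := by
        rw [← pow_succ', ← pow_succ']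
        congr 1
      rw [e1, mul_smul, mul_smul, mul_smul, mul_smul, ih.1, ih.2, hsw.1, hsw.2, hsw.1]
      exact ⟨rfl, rfl⟩
  obtain ⟨k, n, hn, hkn⟩ := Nat.exists_eq_two_pow_mul_odd (orderOf_pos g).ne'
  obtain ⟨r, rfl⟩ := hn
  obtain ⟨h1, h2⟩ := hodd r
  set x := g ^ (2 * r + 1) with hx
  have hx2 : x ^ 2 ^ k = 1 := by
    rw [hx, ← pow_mul, mul_comm, ← hkn, pow_orderOf_eq_one]
  have hxp : IsPGroup 2 (zpowers x) := by
    rintro ⟨y, hy⟩
    obtain ⟨j, rfl⟩ := mem_zpowers_iff.1 hy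
    refine ⟨k, Subtype.ext ?_⟩
    rw [SubmonoidClass.mk_pow]
    change (x ^ j) ^ 2 ^ k = 1
    rw [← zpow_natCast, ← zpow_mul, mul_comm, zpow_mul, zpow_natCast, hx2, one_zpow]
  obtain ⟨c, hc, hcx⟩ := conj_le_of_card (C := NTwo Y b D l) (T := (S : Subgroup H) ⊓ GB Y b) (A := zpowers x)
    (S.isPGroup'.to_le inf_le_left) (fun t ht => ⟨(mem_inf.1 ht).2, Or.inl (F.T_l B ht)⟩) hxp
    (by rw [zpowers_le]; exact pow_mem hg _) fun R hR h2 => F.card_le b (fun y hy => (hR hy).1) h2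
  have h3 : c * x * c⁻¹ ∈ (S : Subgroup H) ⊓ GB Y b := hcx (conj_mem' (mem_zpowers x))
  have h4 := (F.T_l B h3).1
  have hcc := hc.2
  rcases hcc with ⟨h5, h6⟩ | ⟨h5, h6⟩
  · have h7 : c⁻¹ • D = D := by rw [inv_smul_eq_iff, h5]
    rw [mul_smul, mul_smul, h7, h1, h6] at h4
    exact hne h4.symm
  · have h7 : c⁻¹ • D = l := by rw [inv_smul_eq_iff, h6]
    rw [mul_smul, mul_smul, h7, h2, h5] at h4
    exact hne h4.symm

/-- **`k x ∈ Y_b C(K)` implies `k x ∈ D_b`.** -/
theorem mem_D {x : M} {A : Subgroup H} {K : Subgroup H} (hA : A ∈ EE) (hAJ : ¬ A ≤ J)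
    (hAt : brk M A = Y b) (hAK : A ≤ K) (hK : K ≤ GB Y b) (hx : x ∈ D) (hx0 : x ≠ 0)
    (hxT : ∀ t ∈ (S : Subgroup H) ⊓ GB Y b, t • x = x) (hYK : Y b ⊓ fxd K = ⊥) {k : H} (hk : k ∈ K) {y c : M}
    (hy : y ∈ Y b) (hc : c ∈ (fxd K : AddSubgroup M)) (h : k • x = y + c) : k • x ∈ D := by
  set y₁ := k • x with hy₁
  let C : Subgroup H :=
    { carrier := {g | g ∈ (GB Y b : Subgroup H) ∧ g • y₁ = y₁}
      one_mem' := ⟨one_mem _, one_smul _ _⟩
      mul_mem' := fun {p q} hp hq => ⟨mul_mem hp.1 hq.1, by rw [mul_smul, hq.2, hp.2]⟩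
      inv_mem' := fun {p} hp => ⟨inv_mem hp.1, by rw [inv_smul_eq_iff, hp.2]⟩ }
  have hAC : A ≤ C := by
    intro a ha
    refine ⟨hK (hAK ha), ?_⟩
    rw [h, smul_add, F.cent A hA b y hy a ha, hc a (hAK ha)]
  have hTC : MulAut.conj k • ((S : Subgroup H) ⊓ GB Y b) ≤ C := by
    intro t ht
    rw [mem_conj] at ht
    refine ⟨?_, ?_⟩
    · have h1 := mul_mem (mul_mem (hK hk) (mem_inf.1 ht).2) (inv_mem (hK hk))
      have e1 : k * (k⁻¹ * t * k) * k⁻¹ = t := by group
      rwa [e1] at h1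
    · have h1 := hxT _ ht
      rw [mul_smul, mul_smul, inv_smul_eq_iff] at h1
      exact h1
  have hTp : IsPGroup 2 ((S : Subgroup H) ⊓ GB Y b : Subgroup H) := S.isPGroup'.to_le inf_le_left
  obtain ⟨c₁, hc₁, hcA⟩ := conj_le_of_card (C := C) (T := MulAut.conj k • ((S : Subgroup H) ⊓ GB Y b)) (A := A)
    (isPGroup_conj k hTp) hTC (S.isPGroup'.to_le (F.EES A hA)) hAC fun R hR h2 => by
      rw [card_conj]
      exact F.card_le b (fun z hz => (hR hz).1) h2
  set g := k⁻¹ * c₁ with hg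
  have hgG : g ∈ (GB Y b : Subgroup H) := mul_mem (inv_mem (hK hk)) hc₁.1
  have h1 : MulAut.conj g • A ≤ (S : Subgroup H) ⊓ GB Y b := by
    have h2 := (conj_le_iff (x := k⁻¹)).2 hcA
    rwa [conj_inv_conj, conj_conj] at h2
  have h2 := F.EEc A hA g (h1.trans inf_le_left)
  obtain ⟨d, hd⟩ := F.typ _ h2 (F.conj_not_le hAJ g)
  have h3 : g • Y b = Y d := by rw [← hAt, smul_brk, hd]
  obtain rfl := F.fix_Y hgG h3
  have hD0 : D ≠ ⊥ := fun h0 => hx0 (by
    rw [h0] at hx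
    exact (AddSubgroup.mem_bot.1 hx))
  have h4 : g • D = D := F.NTwo_D B hD0 ⟨hgG, F.pair B hA hAJ hAt h2 h3⟩
  have h5 : g • y₁ = x := by rw [hg, mul_smul, hc₁.2, hy₁, inv_smul_smul]
  have h6 : g • c ∈ Y d := by
    have h7 : g • c = x - g • y := by
      rw [← h5, h, smul_add]; abel
    rw [h7]
    refine sub_mem (B.DY hx) ?_
    rw [← h3, mem_smul', inv_smul_smul]
    exact hy
  have h7 : c ∈ Y d := by
    have h8 : g • c ∈ g • Y d := by rw [h3]; exact h6
    rwa [mem_smul', inv_smul_smul] at h8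
  have h8 : c = 0 := by
    have h9 : c ∈ Y d ⊓ fxd K := AddSubgroup.mem_inf.2 ⟨h7, hc⟩
    rw [hYK] at h9
    exact AddSubgroup.mem_bot.1 h9
  have h9 : y₁ = g⁻¹ • x := by rw [← h5, inv_smul_smul]
  have h10 : g⁻¹ • D = D := by rw [inv_smul_eq_iff, h4]
  rw [h9, ← h10, mem_smul', inv_inv, smul_inv_smul]
  exact hx

/-- **THEOREM NS (3).** -/
theorem false_of {x : M} {A A₁ A₂ : Subgroup H} {V : AddSubgroup M} {q : ℕ} (hA : A ∈ EE) (hAJ : ¬ A ≤ J)
    (hAt : brk M A = Y b) (h₁ : A₁ ≤ GB Y b) (h₂ : A₂ ≤ GB Y b) (hx : x ∈ D) (hx0 : x ≠ 0)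
    (hxT : ∀ t ∈ (S : Subgroup H) ⊓ GB Y b, t • x = x) (hi : (fxd A : AddSubgroup M).index ≤ q)
    (hi₁ : (fxd A₁ : AddSubgroup M).index ≤ q) (hi₂ : (fxd A₂ : AddSubgroup M).index ≤ q)
    (hV : q ^ 3 ≤ Nat.card V) (hYV : Y b ≤ V)
    (fE : ∀ v ∈ V, v ∈ (fxd A : AddSubgroup M) → v ∈ (fxd A₁ : AddSubgroup M) → v ∈ D)
    (Ef : ∀ d ∈ D, ∀ a ∈ A₁, a • d = d) (tr : ∀ v ∈ V, ∃ g ∈ A ⊔ A₁, g • v ∈ Y b)
    (mv : ∀ d ∈ D, d ≠ 0 → ∃ a ∈ A₂, a • d ∉ D) : False := by
  set K : Subgroup H := A ⊔ A₁ ⊔ A₂ with hK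
  have hKG : K ≤ GB Y b := sup_le (sup_le (F.le_GB hA b) h₁) h₂
  have hfx : (fxd K : AddSubgroup M) = fxd A ⊓ fxd A₁ ⊓ fxd A₂ := by
    apply le_antisymm
    · exact fun m hm => ⟨⟨fun a ha => hm a (le_sup_left (α := Subgroup H) (le_sup_left (α := Subgroup H) ha)),
        fun a ha => hm a (le_sup_left (α := Subgroup H) (le_sup_right (α := Subgroup H) ha))⟩,
        fun a ha => hm a (le_sup_right (α := Subgroup H) ha)⟩
    · rintro m ⟨⟨h1, h2⟩, h3⟩
      have h4 : K ≤ MulAction.stabilizer H m := sup_le (sup_le (fun a ha => h1 a ha) fun a ha => h2 a ha)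
        fun a ha => h3 a ha
      exact fun a ha => h4 ha
  have hVK : V ⊓ fxd K = ⊥ := by
    rw [eq_bot_iff]
    rintro v ⟨hv, hvK⟩
    rw [hfx] at hvK
    obtain ⟨⟨h1, h2⟩, h3⟩ := hvK
    have h4 := fE v hv h1 h2
    by_contra h0
    obtain ⟨a, ha, h5⟩ := mv v h4 fun h => h0 (AddSubgroup.mem_bot.2 h)
    exact h5 (by rw [h3 a ha]; exact h4)
  have hidx : (fxd K : AddSubgroup M).index ≤ q ^ 3 := by
    rw [hfx]
    calc (fxd A ⊓ fxd A₁ ⊓ fxd A₂ : AddSubgroup M).index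
        ≤ (fxd A ⊓ fxd A₁ : AddSubgroup M).index * (fxd A₂ : AddSubgroup M).index := AddSubgroup.index_inf_le
      _ ≤ ((fxd A : AddSubgroup M).index * (fxd A₁ : AddSubgroup M).index) * (fxd A₂ : AddSubgroup M).index :=
          Nat.mul_le_mul_right _ AddSubgroup.index_inf_le
      _ ≤ (q * q) * q := Nat.mul_le_mul (Nat.mul_le_mul hi hi₁) hi₂
      _ = q ^ 3 := by ring
  have hsup : V ⊔ fxd K = ⊤ := by
    rw [← AddSubgroup.index_eq_one]
    have h1 : (fxd K : AddSubgroup M).relIndex (V ⊔ fxd K) = Nat.card V := by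
      rw [AddSubgroup.relIndex_sup_right]
      have h2 : (fxd K : AddSubgroup M).relIndex V = ((fxd K : AddSubgroup M) ⊓ V).relIndex V :=
        (AddSubgroup.inf_relIndex_right _ _).symm
      rw [h2, inf_comm, hVK, AddSubgroup.relIndex_bot_left]
    have h2 : (fxd K : AddSubgroup M).relIndex (V ⊔ fxd K) * (V ⊔ fxd K).index = (fxd K : AddSubgroup M).index :=
      AddSubgroup.relIndex_mul_index le_sup_right
    rw [h1] at h2
    have h3 : 0 < Nat.card V := Nat.card_pos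
    have h4 : (V ⊔ fxd K : AddSubgroup M).index ≠ 0 := AddSubgroup.index_ne_zero_of_finite
    have h5 : Nat.card V * (V ⊔ fxd K : AddSubgroup M).index ≤ Nat.card V * 1 := by
      rw [h2, mul_one]
      exact hidx.trans hV
    have h6 := Nat.le_of_mul_le_mul_left h5 h3
    omega
  have hYK : Y b ⊓ fxd K = ⊥ := by
    rw [eq_bot_iff, ← hVK]
    exact inf_le_inf_right _ hYV
  have hmain : ∀ k ∈ K, k • x ∈ D := by
    intro k hk
    have h1 : k • x ∈ V ⊔ fxd K := by rw [hsup]; exact AddSubgroup.mem_top _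
    obtain ⟨v, hv, c, hc, h2⟩ := AddSubgroup.mem_sup.1 h1
    obtain ⟨g, hg, h3⟩ := tr v hv
    have hgK : g ∈ K := (le_sup_left : A ⊔ A₁ ≤ K) hg
    have h4 : (g * k) • x = g • v + c := by
      rw [mul_smul, ← h2, smul_add, hc g hgK]
    have h5 := F.mem_D B hA hAJ hAt ((le_sup_left : A ≤ A ⊔ A₁).trans le_sup_left) hKG hx hx0 hxT hYK
      (mul_mem hgK hk) h3 hc h4
    have h6 : ∀ d ∈ D, g • d = d := by
      intro d hd
      have h7 : A ⊔ A₁ ≤ MulAction.stabilizer H d := sup_le (fun a ha => F.cent A hA b d (B.DY hd) a ha)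
        fun a ha => Ef d hd a ha
      exact h7 hg
    have h7 : k • x = g⁻¹ • ((g * k) • x) := by rw [mul_smul, inv_smul_smul]
    rw [h7]
    have h8 : g⁻¹ • ((g * k) • x) = (g * k) • x := by rw [inv_smul_eq_iff, h6 _ h5]
    rw [h8]
    exact h5
  obtain ⟨a, ha, h1⟩ := mv x hx hx0
  exact h1 (hmain a (le_sup_right (α := Subgroup H) ha))

end Frame

end Cfsg.Agent.Omega.NOThreeL.RRed.NS

end

section


/-!
# NO-3L, box R: THEOREM TYPES (helper797, #24779), abstract part: (T0), (T1), (T3)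

`X` acts faithfully on the elementary abelian 2-group `M`, `|F| ≤ |M : C_M(F)|` for all elementary abelian `F ≤ X`
(`Sit X`).

* `Sit.eq_of_le` (T0) : an exact `D ≤ F`, `C_M(D) ≤ C_M(F)` implies `F = D`;
* `Sit.cent` (T1) : `D` exact and quadratic, `[M, K] ≤ C_M(D)`, `K` generated by `K`-conjugates of groups which commute
  with `D`: `K` centralises `D` and `[M, D]`;
* `Sit.keep`, `Sit.kill` (T3) : `M = N × C`, `τ` is trivial on `C`, without fixed points on `N`, normalises the exact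
  group `D`, `C_M(D) = R × C`; `B` exact, commutes with `D`, `[M, B] ≤ C_M(D)`, `R ≤ C_M(B)`, `R ∩ [M, B] = 0`. Then `B`
  normalises `C`; if moreover `[M, B] ≤ C`, then `B` centralises `N`.
-/

set_option autoImplicit false
set_option linter.unusedSectionVars false

namespace Cfsg.Agent.Omega.NOThreeL.RRed.Blk.Types

open Subgroup
open scoped Pointwise
open Cfsg.Agent.Omega.NOThreeL.RRed.NS (fxd brk mem_fxd)

universe u v

variable {H : Type u} {M : Type v} [Group H] [AddCommGroup M] [DistribMulAction H M]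

/-- `X` is faithful on the elementary abelian 2-group `M`, without over-offenders. -/
structure Sit (M : Type v) [AddCommGroup M] [DistribMulAction H M] (X : Subgroup H) : Prop where
  faith : ∀ h ∈ X, (∀ m : M, h • m = m) → h = 1
  ch : ∀ m : M, m + m = 0
  no : ∀ F ≤ X, (∀ x ∈ F, x * x = 1) → (∀ x ∈ F, ∀ y ∈ F, x * y = y * x) →
    Nat.card F * Nat.card (fxd F : AddSubgroup M) ≤ Nat.card M

/-- elementary abelian -/
structure El (F : Subgroup H) : Prop where
  sq : ∀ x ∈ F, x * x = 1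
  cm : ∀ x ∈ F, ∀ y ∈ F, x * y = y * x

theorem sub_mem_brk {A : Subgroup H} {a : H} (ha : a ∈ A) (m : M) : a • m - m ∈ brk M A :=
  AddSubgroup.subset_closure ⟨a, ha, m, rfl⟩

theorem brk_le {A : Subgroup H} {W : AddSubgroup M} (h : ∀ a ∈ A, ∀ m : M, a • m - m ∈ W) : brk M A ≤ W := by
  unfold brk
  rw [AddSubgroup.closure_le]
  rintro m ⟨a, ha, v, rfl⟩
  exact h a ha v

theorem mem_cj {x y : H} {A : Subgroup H} : y ∈ MulAut.conj x • A ↔ x⁻¹ * y * x ∈ A := by
  rw [Subgroup.mem_pointwise_smul_iff_inv_smul_mem, ← map_inv, MulAut.smul_def, MulAut.conj_apply, inv_inv]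

theorem card_cj (x : H) (A : Subgroup H) : Nat.card ↥(MulAut.conj x • A) = Nat.card A :=
  (Nat.card_congr (Subgroup.equivSMul (MulAut.conj x) A).toEquiv).symm

theorem fxd_cj (x : H) (A : Subgroup H) {m : M} : m ∈ (fxd (MulAut.conj x • A) : AddSubgroup M) ↔ x⁻¹ • m ∈ fxd A := by
  rw [mem_fxd, mem_fxd]
  constructor
  · intro h a ha
    have h1 := h (x * a * x⁻¹) (by rw [mem_cj]; convert ha using 1; group)
    rw [mul_smul, mul_smul] at h1
    rw [eq_inv_smul_iff]; exact h1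
  · intro h a ha
    have h1 := h _ (mem_cj.1 ha)
    rw [mul_smul, mul_smul, smul_inv_smul, inv_smul_eq_iff, smul_inv_smul] at h1
    exact h1

theorem brk_cj {x : H} {A : Subgroup H} {m : M} (h : m ∈ brk M (MulAut.conj x • A)) : x⁻¹ • m ∈ brk M A := by
  have h1 : brk M (MulAut.conj x • A) ≤ (brk M A).comap (DistribSMul.toAddMonoidHom M x⁻¹) := by
    apply brk_le
    intro a ha v
    rw [AddSubgroup.mem_comap, DistribSMul.toAddMonoidHom_apply, smul_sub]
    have h2 := sub_mem_brk (M := M) (mem_cj.1 ha) (x⁻¹ • v)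
    rw [mul_smul, mul_smul, smul_inv_smul] at h2
    exact h2
  exact h1 h

theorem El.cj {A : Subgroup H} (h : El A) (x : H) : El (MulAut.conj x • A) where
  sq := fun a ha => by
    have h1 := h.sq _ (mem_cj.1 ha)
    have e : x⁻¹ * a * x * (x⁻¹ * a * x) = x⁻¹ * (a * a) * x := by group
    rw [e] at h1
    have h2 : a * a = x * 1 * x⁻¹ := by rw [← h1]; group
    rw [h2]; group
  cm := fun a ha b hb => by
    have h1 := h.cm _ (mem_cj.1 ha) _ (mem_cj.1 hb)
    have e1 : x⁻¹ * a * x * (x⁻¹ * b * x) = x⁻¹ * (a * b) * x := by group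
    have e2 : x⁻¹ * b * x * (x⁻¹ * a * x) = x⁻¹ * (b * a) * x := by group
    rw [e1, e2] at h1
    exact mul_left_cancel (mul_right_cancel h1)

/-- The product of two commuting elementary abelian groups. -/
theorem mem_sup_comm {A B : Subgroup H} (hAB : ∀ a ∈ A, ∀ b ∈ B, a * b = b * a) {x : H} :
    x ∈ A ⊔ B ↔ ∃ a ∈ A, ∃ b ∈ B, a * b = x := by
  constructor
  · intro hx
    have h1 : A ≤ normalizer (B : Set H) := fun a ha => by
      rw [mem_normalizer_iff]
      intro b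
      constructor
      · intro hb
        rw [hAB a ha b hb, mul_inv_cancel_right]; exact hb
      · intro hb
        have h2 := hAB a ha _ hb
        have h3 : b = a * b * a⁻¹ := by
          have e : a * (a * b * a⁻¹) = a * b := by rw [h2]; group
          exact (mul_left_cancel e).symm
        rw [h3]; exact hb
    have h2 : x ∈ ((A ⊔ B : Subgroup H) : Set H) := hx
    rw [coe_mul_of_left_le_normalizer_right _ _ h1] at h2
    obtain ⟨a, ha, b, hb, e⟩ := h2
    exact ⟨a, ha, b, hb, e⟩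
  · rintro ⟨a, ha, b, hb, rfl⟩
    exact mul_mem (mem_sup_left ha) (mem_sup_right hb)

theorem El.sup {A B : Subgroup H} (hA : El A) (hB : El B) (hAB : ∀ a ∈ A, ∀ b ∈ B, a * b = b * a) : El (A ⊔ B) where
  sq := fun x hx => by
    obtain ⟨a, ha, b, hb, rfl⟩ := (mem_sup_comm hAB).1 hx
    calc a * b * (a * b) = a * (b * a) * b := by group
      _ = a * (a * b) * b := by rw [hAB a ha b hb]
      _ = (a * a) * (b * b) := by group
      _ = 1 := by rw [hA.sq a ha, hB.sq b hb, one_mul]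
  cm := fun x hx y hy => by
    obtain ⟨a, ha, b, hb, rfl⟩ := (mem_sup_comm hAB).1 hx
    obtain ⟨c, hc, d, hd, rfl⟩ := (mem_sup_comm hAB).1 hy
    calc a * b * (c * d) = a * (b * c) * d := by group
      _ = a * (c * b) * d := by rw [hAB c hc b hb]
      _ = (a * c) * (b * d) := by group
      _ = (c * a) * (d * b) := by rw [hA.cm a ha c hc, hB.cm b hb d hd]
      _ = c * (a * d) * b := by group
      _ = c * (d * a) * b := by rw [hAB a ha d hd]
      _ = c * d * (a * b) := by group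

theorem mem_fxd_sup {A B : Subgroup H} {m : M} (hA : m ∈ (fxd A : AddSubgroup M)) (hB : m ∈ (fxd B : AddSubgroup M)) :
    m ∈ (fxd (A ⊔ B) : AddSubgroup M) := by
  rw [mem_fxd] at hA hB ⊢
  intro x hx
  have h1 : A ⊔ B ≤ MulAction.stabilizer H m :=
    sup_le (fun a ha => MulAction.mem_stabilizer_iff.2 (hA a ha)) fun b hb => MulAction.mem_stabilizer_iff.2 (hB b hb)
  exact MulAction.mem_stabilizer_iff.1 (h1 hx)

theorem El.smul_smul {A : Subgroup H} (h : El A) {a : H} (ha : a ∈ A) (m : M) : a • a • m = m := by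
  rw [← mul_smul, h.sq a ha, one_smul]

namespace Sit

variable {X : Subgroup H} (S : Sit M X)
include S

theorem neg_eq (m : M) : -m = m := by
  rw [neg_eq_iff_add_eq_zero]; exact S.ch m

theorem sub_eq (m n : M) : m - n = m + n := by rw [sub_eq_add_neg, S.neg_eq]

theorem comm_of {x y : H} (hx : x ∈ X) (hy : y ∈ X) (h1 : ∀ m : M, y • (x • m - m) = x • m - m)
    (h2 : ∀ m : M, x • (y • m - m) = y • m - m) : x * y = y * x := by
  have h : (x * y)⁻¹ * (y * x) = 1 := by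
    refine S.faith _ (mul_mem (inv_mem (mul_mem hx hy)) (mul_mem hy hx)) fun m => ?_
    rw [mul_smul, inv_smul_eq_iff, mul_smul, mul_smul]
    have e1 := h1 m
    have e2 := h2 m
    rw [smul_sub, sub_eq_iff_eq_add] at e1 e2
    rw [e1, e2]
    abel
  exact (inv_mul_eq_one.1 h)

/-- **(T0)** -/
theorem eq_of_le [Finite H] [Finite M] {D F : Subgroup H} (hF : F ≤ X) (hFe : El F) (hDF : D ≤ F)
    (hD : Nat.card M ≤ Nat.card D * Nat.card (fxd D : AddSubgroup M))
    (hle : (fxd D : AddSubgroup M) ≤ fxd F) : F = D := by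
  have h1 := S.no F hF hFe.sq hFe.cm
  have h2 : Nat.card (fxd D : AddSubgroup M) ≤ Nat.card (fxd F : AddSubgroup M) := AddSubgroup.card_le_of_le hle
  have h3 : 0 < Nat.card (fxd D : AddSubgroup M) := Nat.card_pos
  have h4 : Nat.card F ≤ Nat.card D := by
    have h5 : Nat.card F * Nat.card (fxd D : AddSubgroup M) ≤ Nat.card D * Nat.card (fxd D : AddSubgroup M) :=
      (Nat.mul_le_mul_left _ h2).trans (h1.trans hD)
    exact Nat.le_of_mul_le_mul_right h5 h3
  exact (Subgroup.eq_of_le_of_card_ge hDF h4).symm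

/-- Two exact quadratic groups with the same centraliser coincide. -/
theorem eq_of_fxd [Finite H] [Finite M] {D D' : Subgroup H} (hDX : D ≤ X) (hDX' : D' ≤ X) (hDe : El D) (hDe' : El D')
    (hD : Nat.card M ≤ Nat.card D * Nat.card (fxd D : AddSubgroup M)) (hq : brk M D ≤ fxd D)
    (hq' : brk M D' ≤ fxd D) (hf : (fxd D : AddSubgroup M) ≤ fxd D') (hc : Nat.card D' = Nat.card D) : D' = D := by
  have hcm : ∀ a ∈ D, ∀ b ∈ D', a * b = b * a := by
    intro a ha b hb'
    refine S.comm_of (hDX ha) (hDX' hb') (fun m => ?_) fun m => ?_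
    · exact (mem_fxd.1 (hf (hq (sub_mem_brk ha m)))) b hb'
    · exact (mem_fxd.1 (hq' (sub_mem_brk hb' m))) a ha
  have he := hDe.sup hDe' hcm
  have h1 : D ⊔ D' = D :=
    S.eq_of_le (sup_le hDX hDX') he le_sup_left hD fun m hm => mem_fxd_sup hm (hf hm)
  have h2 : D' ≤ D := h1 ▸ le_sup_right
  exact Subgroup.eq_of_le_of_card_ge h2 hc.ge

theorem cj_le {g : H} (hg : g ∈ X) {D : Subgroup H} (hDX : D ≤ X) : MulAut.conj g • D ≤ X := fun x hx => by
  have h1 := hDX (mem_cj.1 hx)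
  have e : x = g * (g⁻¹ * x * g) * g⁻¹ := by group
  rw [e]; exact mul_mem (mul_mem hg h1) (inv_mem hg)

theorem cj_eq [Finite H] [Finite M] {D : Subgroup H} (hDX : D ≤ X) (hDe : El D)
    (hD : Nat.card M ≤ Nat.card D * Nat.card (fxd D : AddSubgroup M)) (hq : brk M D ≤ fxd D) {g : H} (hg : g ∈ X)
    (hfx : ∀ m : M, m ∈ (fxd D : AddSubgroup M) ↔ g⁻¹ • m ∈ (fxd D : AddSubgroup M)) :
    MulAut.conj g • D = D := by
  refine S.eq_of_fxd hDX (S.cj_le hg hDX) hDe (hDe.cj g) hD hq ?_ ?_ (card_cj g D)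
  · exact fun m hm => (hfx m).2 (hq (brk_cj hm))
  · exact fun m hm => (fxd_cj g D).2 ((hfx m).1 hm)

/-- **(T1)** -/
theorem cent [Finite H] [Finite M] {D K : Subgroup H} (hDX : D ≤ X) (hDe : El D)
    (hD : Nat.card M ≤ Nat.card D * Nat.card (fxd D : AddSubgroup M)) (hq : brk M D ≤ fxd D) (hK : K ≤ X)
    (hKD : brk M K ≤ fxd D)
    (gen : K ≤ closure {x | ∃ g ∈ K, ∃ b, (∀ d ∈ D, b * d = d * b) ∧ x = g * b * g⁻¹}) :
    (∀ k ∈ K, ∀ d ∈ D, k * d = d * k) ∧ brk M D ≤ fxd K := by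
  have hn : ∀ g ∈ K, MulAut.conj g • D = D := by
    intro g hg
    refine S.cj_eq hDX hDe hD hq (hK hg) fun m => ?_
    have key : ∀ x ∈ K, ∀ n : M, n ∈ (fxd D : AddSubgroup M) → x • n ∈ (fxd D : AddSubgroup M) := by
      intro x hx n hn
      have e : x • n = (x • n - n) + n := by abel
      rw [e]
      exact add_mem (hKD (sub_mem_brk hx n)) hn
    constructor
    · exact fun h => key _ (inv_mem hg) m h
    · intro h
      have := key _ hg _ h
      rwa [smul_inv_smul] at this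
  have h0 : K ≤ centralizer (D : Set H) := by
    refine gen.trans ((closure_le _).2 ?_)
    rintro x ⟨g, hg, b, hb, rfl⟩
    rw [SetLike.mem_coe, mem_centralizer_iff]
    intro d hd
    have h2 : g⁻¹ * d * g ∈ D := by
      have h3 : d ∈ MulAut.conj g • D := by rw [hn g hg]; exact hd
      exact mem_cj.1 h3
    have h3 := hb _ h2
    symm
    calc g * b * g⁻¹ * d = g * (b * (g⁻¹ * d * g)) * g⁻¹ := by group
      _ = g * (g⁻¹ * d * g * b) * g⁻¹ := by rw [h3]
      _ = d * (g * b * g⁻¹) := by group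
  have h1 : ∀ k ∈ K, ∀ d ∈ D, k * d = d * k := fun k hk d hd => (mem_centralizer_iff.1 (h0 hk) d hd).symm
  refine ⟨h1, brk_le fun d hd m => ?_⟩
  rw [mem_fxd]
  intro k hk
  have e1 : k • d • m = d • k • m := by rw [← mul_smul, h1 k hk d hd, mul_smul]
  have e2 : k • m = (k • m - m) + m := by abel
  have e3 := mem_fxd.1 (hKD (sub_mem_brk hk m)) d hd
  rw [smul_sub, e1]
  conv_lhs => rw [e2]
  rw [smul_add, e3]
  abel

omit S in
theorem index_le [Finite M] {D : Subgroup H}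
    (hD : Nat.card M ≤ Nat.card D * Nat.card (fxd D : AddSubgroup M)) :
    (fxd D : AddSubgroup M).index ≤ Nat.card D := by
  have h1 := (fxd D : AddSubgroup M).card_mul_index
  have h3 : 0 < Nat.card (fxd D : AddSubgroup M) := Nat.card_pos
  refine Nat.le_of_mul_le_mul_right ?_ h3
  rw [mul_comm, h1]; exact hD

omit S in
theorem card_sup [Finite H] {D B : Subgroup H} (hDB : ∀ d ∈ D, ∀ b ∈ B, d * b = b * d) (h : D ⊓ B = ⊥) :
    Nat.card ↥(D ⊔ B) = Nat.card D * Nat.card B := by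
  have h1 : Function.Bijective (fun p : D × B => (⟨p.1 * p.2, mul_mem (mem_sup_left p.1.2) (mem_sup_right p.2.2)⟩ :
      ↥(D ⊔ B))) := by
    constructor
    · rintro ⟨a, b⟩ ⟨c, d⟩ e
      have e1 : (a : H) * b = c * d := congrArg Subtype.val e
      have e2 : (c : H)⁻¹ * a = d * (b : H)⁻¹ := by
        calc (c : H)⁻¹ * a = (c : H)⁻¹ * (a * b) * (b : H)⁻¹ := by group
          _ = (c : H)⁻¹ * (c * d) * (b : H)⁻¹ := by rw [e1]
          _ = d * (b : H)⁻¹ := by group
      have e3 : (c : H)⁻¹ * a ∈ D ⊓ B :=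
        mem_inf.2 ⟨mul_mem (inv_mem c.2) a.2, e2 ▸ mul_mem d.2 (inv_mem b.2)⟩
      rw [h, mem_bot] at e3
      have e4 : (c : H) = a := inv_mul_eq_one.1 e3
      have e5 : (d : H) = b := by
        rw [e3] at e2
        exact (mul_inv_eq_one.1 e2.symm)
      exact Prod.ext (Subtype.ext e4.symm) (Subtype.ext e5.symm)
    · rintro ⟨x, hx⟩
      obtain ⟨a, ha, b, hb, e⟩ := (mem_sup_comm hDB).1 hx
      exact ⟨(⟨a, ha⟩, ⟨b, hb⟩), Subtype.ext e⟩
  rw [← Nat.card_prod]
  exact (Nat.card_congr (Equiv.ofBijective _ h1)).symm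

omit S in
theorem exact_sup [Finite H] [Finite M] {D B : Subgroup H} (hDB : ∀ d ∈ D, ∀ b ∈ B, d * b = b * d) (h : D ⊓ B = ⊥)
    (hD : Nat.card M ≤ Nat.card D * Nat.card (fxd D : AddSubgroup M))
    (hB : Nat.card M ≤ Nat.card B * Nat.card (fxd B : AddSubgroup M)) :
    Nat.card M ≤ Nat.card ↥(D ⊔ B) * Nat.card (fxd (D ⊔ B) : AddSubgroup M) := by
  have h1 : ((fxd D : AddSubgroup M) ⊓ fxd B).index ≤ Nat.card ↥(D ⊔ B) := by
    rw [card_sup hDB h]
    exact (AddSubgroup.index_inf_le).trans (Nat.mul_le_mul (index_le hD) (index_le hB))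
  have h2 : Nat.card ↥((fxd D : AddSubgroup M) ⊓ fxd B) ≤ Nat.card (fxd (D ⊔ B) : AddSubgroup M) :=
    AddSubgroup.card_le_of_le fun m hm => mem_fxd_sup (AddSubgroup.mem_inf.1 hm).1 (AddSubgroup.mem_inf.1 hm).2
  rw [← ((fxd D : AddSubgroup M) ⊓ fxd B).card_mul_index, mul_comm]
  exact Nat.mul_le_mul h1 h2

end Sit

/-- The data of (T3): the exact group `D` of `P`, `M = N × C`, the torus element `τ`. -/
structure Dt (X D : Subgroup H) (N C : AddSubgroup M) (τ : H) : Prop where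
  DX : D ≤ X
  el : El D
  ex : Nat.card M ≤ Nat.card D * Nat.card (fxd D : AddSubgroup M)
  qd : brk M D ≤ fxd D
  fD : (fxd D : AddSubgroup M) ≤ brk M D ⊔ C
  CD : C ≤ fxd D
  RN : brk M D ≤ N
  τX : τ ∈ X
  τD : MulAut.conj τ • D = D
  τC : ∀ c ∈ C, τ • c = c
  τN : ∀ n ∈ N, τ • n ∈ N
  fp : ∀ n ∈ N, τ • n = n → n = 0

/-- The data of (T3): the exact group `B` of a conjugate of `P'`. -/
structure Bd (X D B : Subgroup H) (M : Type v) [AddCommGroup M] [DistribMulAction H M] : Prop where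
  BX : B ≤ X
  el : El B
  ex : Nat.card M ≤ Nat.card B * Nat.card (fxd B : AddSubgroup M)
  qd : brk M B ≤ fxd B
  cm : ∀ d ∈ D, ∀ b ∈ B, d * b = b * d
  BD : brk M B ≤ fxd D
  DB : brk M D ≤ fxd B
  tr : ∀ y ∈ brk M B, y ∈ brk M D → y = 0

namespace Dt

variable {X D : Subgroup H} {N C : AddSubgroup M} {τ : H} (S : Sit M X) (T : Dt X D N C τ)
include T

theorem τR {r : M} (hr : r ∈ brk M D) : τ • r ∈ brk M D := by
  have h : τ • r ∈ brk M (MulAut.conj τ • D) := by
    have h1 : brk M D ≤ (brk M (MulAut.conj τ • D)).comap (DistribSMul.toAddMonoidHom M τ) := by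
      apply brk_le
      intro a ha v
      rw [AddSubgroup.mem_comap, DistribSMul.toAddMonoidHom_apply, smul_sub]
      have h2 : τ * a * τ⁻¹ ∈ MulAut.conj τ • D := by rw [mem_cj]; convert ha using 1; group
      have h3 := sub_mem_brk (M := M) h2 (τ • v)
      have e : (τ * a * τ⁻¹) • τ • v = τ • a • v := by rw [← mul_smul, ← mul_smul]; congr 1; group
      rw [e] at h3
      exact h3
    exact h1 hr
  rwa [T.τD] at h

theorem τR' {r : M} (hr : r ∈ brk M D) : τ⁻¹ • r ∈ brk M D := by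
  rw [← T.τD] at hr
  exact brk_cj hr

theorem τF {m : M} (hm : m ∈ (fxd D : AddSubgroup M)) : τ • m ∈ (fxd D : AddSubgroup M) := by
  rw [← T.τD, fxd_cj, inv_smul_smul]; exact hm

theorem τC' {c : M} (hc : c ∈ C) : τ⁻¹ • c = c := by rw [inv_smul_eq_iff, T.τC c hc]

theorem key {B : Subgroup H} (hB : Bd X D B M) {x : M} (hx : x ∈ (fxd D : AddSubgroup M)) (hxB : x ∈ (fxd B : AddSubgroup M)) :
    τ • x ∈ (fxd B : AddSubgroup M) ∧ τ⁻¹ • x ∈ (fxd B : AddSubgroup M) := by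
  obtain ⟨r, hr, c, hc, rfl⟩ := AddSubgroup.mem_sup.1 (T.fD hx)
  have h1 : τ • (r + c) = (r + c) + (τ • r - r) := by rw [smul_add, T.τC c hc]; abel
  have h2 : τ⁻¹ • (r + c) = (r + c) + (τ⁻¹ • r - r) := by rw [smul_add, T.τC' hc]; abel
  rw [h1, h2]
  exact ⟨add_mem hxB (sub_mem (hB.DB (T.τR hr)) (hB.DB hr)),
    add_mem hxB (sub_mem (hB.DB (T.τR' hr)) (hB.DB hr))⟩

theorem brk_cjB {B : Subgroup H} (hB : Bd X D B M) {y : M} (hy : y ∈ brk M (MulAut.conj τ • B)) :
    y ∈ (fxd B : AddSubgroup M) ∧ y ∈ (fxd D : AddSubgroup M) := by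
  have h1 := brk_cj hy
  have e : y = τ • τ⁻¹ • y := (smul_inv_smul _ _).symm
  rw [e]
  exact ⟨(T.key hB (hB.BD h1) (hB.qd h1)).1, T.τF (hB.BD h1)⟩

include S

/-- `B` and `B^τ` commute. -/
theorem commB {B : Subgroup H} (hB : Bd X D B M) : ∀ b ∈ B, ∀ b' ∈ MulAut.conj τ • B, b * b' = b' * b := by
  intro b hb b' hb'
  refine S.comm_of (hB.BX hb) (S.cj_le T.τX hB.BX hb') (fun m => ?_) fun m => ?_
  · have h1 := sub_mem_brk (M := M) hb m
    have h2 := (T.key hB (hB.BD h1) (hB.qd h1)).2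
    exact mem_fxd.1 ((fxd_cj τ B).2 h2) b' hb'
  · exact mem_fxd.1 (T.brk_cjB hB (sub_mem_brk hb' m)).1 b hb

theorem commD {B : Subgroup H} (hB : Bd X D B M) : ∀ d ∈ D, ∀ b' ∈ MulAut.conj τ • B, d * b' = b' * d := by
  intro d hd b' hb'
  have h1 : τ⁻¹ * d * τ ∈ D := by
    have h2 : d ∈ MulAut.conj τ • D := by rw [T.τD]; exact hd
    exact mem_cj.1 h2
  have h3 := hB.cm _ h1 _ (mem_cj.1 hb')
  calc d * b' = τ * (τ⁻¹ * d * τ * (τ⁻¹ * b' * τ)) * τ⁻¹ := by group
    _ = τ * (τ⁻¹ * b' * τ * (τ⁻¹ * d * τ)) * τ⁻¹ := by rw [h3]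
    _ = b' * d := by group

theorem inf_eq {B : Subgroup H} (hB : Bd X D B M) : D ⊓ B = ⊥ := by
  rw [eq_bot_iff]
  intro x hx
  rw [mem_bot]
  refine S.faith x (T.DX (mem_inf.1 hx).1) fun m => ?_
  exact sub_eq_zero.1 (hB.tr _ (sub_mem_brk (mem_inf.1 hx).2 m) (sub_mem_brk (mem_inf.1 hx).1 m))

/-- `B^τ ≤ D B` -/
theorem cj_le [Finite H] [Finite M] {B : Subgroup H} (hB : Bd X D B M) : MulAut.conj τ • B ≤ D ⊔ B := by
  have h1 : El (D ⊔ B) := T.el.sup hB.el hB.cm
  have h2 : ∀ x ∈ D ⊔ B, ∀ b' ∈ MulAut.conj τ • B, x * b' = b' * x := by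
    intro x hx b' hb'
    obtain ⟨d, hd, b, hb, rfl⟩ := (mem_sup_comm hB.cm).1 hx
    calc d * b * b' = d * (b * b') := by group
      _ = d * (b' * b) := by rw [commB S T hB b hb b' hb']
      _ = (d * b') * b := by group
      _ = (b' * d) * b := by rw [commD S T hB d hd b' hb']
      _ = b' * (d * b) := by group
  have h3 : (D ⊔ B) ⊔ MulAut.conj τ • B = D ⊔ B := by
    refine S.eq_of_le (sup_le (sup_le T.DX hB.BX) (S.cj_le T.τX hB.BX)) (h1.sup (hB.el.cj τ) h2) le_sup_left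
      (Sit.exact_sup hB.cm (inf_eq S T hB) T.ex hB.ex) ?_
    intro m hm
    refine mem_fxd_sup hm ?_
    have hmD : m ∈ (fxd D : AddSubgroup M) := mem_fxd.2 fun d hd => mem_fxd.1 hm d (mem_sup_left hd)
    have hmB : m ∈ (fxd B : AddSubgroup M) := mem_fxd.2 fun b hb => mem_fxd.1 hm b (mem_sup_right hb)
    exact (fxd_cj τ B).2 (T.key hB hmD hmB).2
  rw [← h3]; exact le_sup_right

/-- **(T3), first half.** `B` normalises `C`. -/
theorem keep [Finite H] [Finite M] {B : Subgroup H} (hB : Bd X D B M) {b : H} (hb : b ∈ B) {c : M} (hc : c ∈ C) :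
    b • c ∈ C := by
  have h1 : τ * b * τ⁻¹ ∈ D ⊔ B := by
    refine cj_le S T hB ?_
    rw [mem_cj]; convert hb using 1; group
  obtain ⟨d, hd, b₁, hb₁, e⟩ := (mem_sup_comm hB.cm).1 h1
  have hy := sub_mem_brk (M := M) hb c
  obtain ⟨r, hr, c₀, hc₀, ey⟩ := AddSubgroup.mem_sup.1 (T.fD (hB.BD hy))
  have h2 : τ • (b • c - c) = b₁ • c - c := by
    have e1 : τ • (b • c) = (τ * b * τ⁻¹) • c := by
      rw [mul_smul, mul_smul, T.τC' hc]
    rw [smul_sub, T.τC c hc, e1, ← e, mul_smul]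
    congr 1
    have h3 : b₁ • c ∈ (fxd D : AddSubgroup M) := by
      have e2 : b₁ • c = (b₁ • c - c) + c := by abel
      rw [e2]
      exact add_mem (hB.BD (sub_mem_brk hb₁ c)) (T.CD hc)
    exact mem_fxd.1 h3 d hd
  have h4 : τ • r - r = 0 := by
    apply hB.tr
    · have e3 : τ • r - r = (b₁ • c - c) - (b • c - c) := by
        rw [← h2, ← ey, smul_add, T.τC c₀ hc₀]; abel
      rw [e3]
      exact sub_mem (sub_mem_brk hb₁ c) hy
    · exact sub_mem (T.τR hr) hr
  have h5 : r = 0 := T.fp r (T.RN hr) (sub_eq_zero.1 h4)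
  rw [h5, zero_add] at ey
  have e4 : b • c = (b • c - c) + c := by abel
  rw [e4, ← ey]
  exact add_mem hc₀ hc

/-- **(T3), second half.** If `[M, B] ≤ C`, then `B` centralises `N`. -/
theorem kill [Finite H] [Finite M] {B : Subgroup H} (hB : Bd X D B M) (hBC : brk M B ≤ C) {b : H} (hb : b ∈ B) {n : M}
    (hn : n ∈ N) : b • n = n := by
  have hb' : τ * b * τ⁻¹ ∈ MulAut.conj τ • B := by rw [mem_cj]; convert hb using 1; group
  have hcb := commB S T hB b hb _ hb'
  -- `u` commutes with `D`, fixes `fxd D`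
  have hfix : ∀ m ∈ (fxd D : AddSubgroup M), b • (τ * b * τ⁻¹) • m = m := by
    intro m hm
    obtain ⟨r, hr, c, hc, rfl⟩ := AddSubgroup.mem_sup.1 (T.fD hm)
    have e1 : (τ * b * τ⁻¹) • r = r := by
      rw [mul_smul, mul_smul, mem_fxd.1 (hB.DB (T.τR' hr)) b hb, smul_inv_smul]
    have e2 : (τ * b * τ⁻¹) • c = b • c := by
      rw [mul_smul, mul_smul, T.τC' hc]
      exact T.τC _ (keep S T hB hb hc)
    rw [smul_add, e1, e2, smul_add, mem_fxd.1 (hB.DB hr) b hb, hB.el.smul_smul hb]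
  have hzu : b * (τ * b * τ⁻¹) ∈ D := by
    have hel : El (zpowers (b * (τ * b * τ⁻¹))) := by
      have hsq : b * (τ * b * τ⁻¹) * (b * (τ * b * τ⁻¹)) = 1 := by
        calc b * (τ * b * τ⁻¹) * (b * (τ * b * τ⁻¹)) = b * ((τ * b * τ⁻¹) * b) * (τ * b * τ⁻¹) := by group
          _ = b * (b * (τ * b * τ⁻¹)) * (τ * b * τ⁻¹) := by rw [hcb]
          _ = (b * b) * (τ * (b * b) * τ⁻¹) := by group
          _ = 1 := by rw [hB.el.sq b hb]; group
      constructor
      · rintro x ⟨k, rfl⟩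
        calc (b * (τ * b * τ⁻¹)) ^ k * (b * (τ * b * τ⁻¹)) ^ k = (b * (τ * b * τ⁻¹) * (b * (τ * b * τ⁻¹))) ^ k := by
              rw [← zpow_add, ← pow_two, ← zpow_natCast, ← zpow_mul]; congr 1; push_cast; ring
          _ = 1 := by rw [hsq, one_zpow]
      · rintro x ⟨k, rfl⟩ y ⟨l, rfl⟩
        exact ((Commute.refl _).zpow_zpow k l).eq
    have hcd : ∀ d ∈ D, ∀ x ∈ zpowers (b * (τ * b * τ⁻¹)), d * x = x * d := by
      rintro d hd x ⟨k, rfl⟩
      have h1 : Commute d (b * (τ * b * τ⁻¹)) :=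
        Commute.mul_right (hB.cm d hd b hb) (commD S T hB d hd _ hb')
      exact (h1.zpow_right k).eq
    have h1 : D ⊔ zpowers (b * (τ * b * τ⁻¹)) = D := by
      refine S.eq_of_le (sup_le T.DX ?_) (T.el.sup hel hcd) le_sup_left T.ex ?_
      · rw [zpowers_le]
        exact mul_mem (hB.BX hb) (S.cj_le T.τX hB.BX hb')
      · intro m hm
        refine mem_fxd_sup hm (mem_fxd.2 ?_)
        rintro x ⟨k, rfl⟩
        have h2 : b * (τ * b * τ⁻¹) ∈ MulAction.stabilizer H m := by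
          rw [MulAction.mem_stabilizer_iff, mul_smul]; exact hfix m hm
        exact MulAction.mem_stabilizer_iff.1 (zpow_mem h2 k)
    rw [← h1]
    exact mem_sup_right (mem_zpowers _)
  have hu1 : b * (τ * b * τ⁻¹) = 1 := by
    refine S.faith _ (T.DX hzu) fun m => ?_
    rw [← sub_eq_zero]
    refine hB.tr _ ?_ (sub_mem_brk hzu m)
    have h1 := sub_mem_brk (M := M) hb (((τ * b * τ⁻¹)) • m)
    have h2 := brk_cj (sub_mem_brk (M := M) hb' m)
    have h3 : (τ * b * τ⁻¹) • m - m ∈ brk M B := by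
      have e : (τ * b * τ⁻¹) • m - m = τ • τ⁻¹ • ((τ * b * τ⁻¹) • m - m) := (smul_inv_smul _ _).symm
      rw [e, T.τC _ (hBC h2)]; exact h2
    have e : (b * (τ * b * τ⁻¹)) • m - m = (b • (τ * b * τ⁻¹) • m - (τ * b * τ⁻¹) • m) + ((τ * b * τ⁻¹) • m - m) := by
      rw [mul_smul b]; abel
    rw [e]
    exact add_mem h1 h3
  have hcomm : τ * b = b * τ := by
    have h1 : τ * b * τ⁻¹ = b := by
      have h2 : b * (τ * b * τ⁻¹) = b * b := by rw [hu1, hB.el.sq b hb]
      exact mul_left_cancel h2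
    calc τ * b = (τ * b * τ⁻¹) * τ := by group
      _ = b * τ := by rw [h1]
  have hz : ∀ m ∈ N, b • (τ • m - m) = τ • m - m := by
    intro m _
    have e1 : b • τ • m - τ • m = τ • (b • m - m) := by
      rw [smul_sub, ← mul_smul, ← mul_smul, hcomm]
    rw [T.τC _ (hBC (sub_mem_brk hb m))] at e1
    rw [smul_sub]
    have e2 : b • τ • m = τ • m + (b • m - m) := by rw [← e1]; abel
    rw [e2]; abel
  -- `τ - 1` is onto on `N`
  have hsur : Function.Surjective (fun m : N => (⟨τ • (m : M) - m, sub_mem (T.τN _ m.2) m.2⟩ : N)) := by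
    refine Finite.surjective_of_injective ?_
    rintro ⟨x, hx⟩ ⟨y, hy⟩ e
    have e1 : τ • x - x = τ • y - y := congrArg Subtype.val e
    have e2 : τ • (x - y) = x - y := by
      rw [smul_sub, sub_eq_sub_iff_add_eq_add]
      rw [sub_eq_sub_iff_add_eq_add] at e1
      rw [e1]; abel
    have e3 := T.fp _ (sub_mem hx hy) e2
    exact Subtype.ext (sub_eq_zero.1 e3)
  obtain ⟨m, hm⟩ := hsur ⟨n, hn⟩
  have hm' : τ • (m : M) - m = n := congrArg Subtype.val hm
  rw [← hm']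
  exact hz _ m.2

end Dt

end Cfsg.Agent.Omega.NOThreeL.RRed.Blk.Types

end

section


/-!
# NO-3L, box R: THEOREM TYPES (helper797, #24779), step (T4), abstract

`X` acts faithfully on `V` (additive, `v + v = 0`), no over-offender (`NO`).  `Bk e f C up lo` : a natural block
`N = e(F) ⊕ f(F)` over the field `F` (`|F| ≥ 4`), `V = N ⊕ C`, with root elements `up t : f x ↦ f x + e (t x)`,
`lo t : e x ↦ e x + f (t x)`, trivial on `C`.  `rt up` = the root group.

* **`Bk.gam`** : an element which is trivial on `e(F)`, on `(e(F) + C)/e(F)` and on `V/(e(F) + C)` is in `rt up`.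
* `Bk.eq` (two blocks with the same root group have the same `N` and `C`): in `TypesEq.lean`.
-/

set_option autoImplicit false
set_option linter.unusedSectionVars false

namespace Cfsg.Agent.Omega.NOThreeL.RRed.Blk.TypesGam

open Cfsg.Agent.Omega.NOThreeL.RRed.NS (fxd mem_fxd)

universe u v w w'

variable {X : Type u} {V : Type v} [Group X] [AddCommGroup V] [DistribMulAction X V]

/-- no over-offender -/
def NO (X : Type u) (V : Type v) [Group X] [AddCommGroup V] [DistribMulAction X V] : Prop :=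
  ∀ W : Subgroup X, (∀ x ∈ W, ∀ y ∈ W, x * y = y * x) → (∀ x ∈ W, x * x = 1) →
    Nat.card W ≤ (fxd W : AddSubgroup V).index

/-- a natural block -/
structure Bk {F : Type w} [Field F] (e f : F →+ V) (C : AddSubgroup V) (up lo : F → X) : Prop where
  dec : ∀ v : V, ∃ x y, ∃ c ∈ C, v = e x + f y + c
  ind : ∀ x y, e x + f y ∈ C → x = 0 ∧ y = 0
  up_e : ∀ t x, up t • e x = e x
  up_f : ∀ t x, up t • f x = f x + e (t * x)
  up_c : ∀ t, ∀ c ∈ C, up t • c = c
  lo_e : ∀ t x, lo t • e x = e x + f (t * x)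
  lo_f : ∀ t x, lo t • f x = f x
  lo_c : ∀ t, ∀ c ∈ C, lo t • c = c

section

variable {F : Type w} [Field F] {e f : F →+ V} {C : AddSubgroup V} {up lo : F → X}

theorem Bk.swap (h : Bk e f C up lo) : Bk f e C lo up where
  dec := by
    intro v
    obtain ⟨x, y, c, hc, e1⟩ := h.dec v
    exact ⟨y, x, c, hc, by rw [e1]; abel⟩
  ind := by
    intro x y hm
    rw [add_comm] at hm
    exact (h.ind y x hm).symm
  up_e := h.lo_f
  up_f := h.lo_e
  up_c := h.lo_c
  lo_e := h.up_f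
  lo_f := h.up_e
  lo_c := h.up_c

/-- uniqueness of the components -/
theorem Bk.uniq (h : Bk e f C up lo) {x y x' y' : F} {c c' : V} (hc : c ∈ C) (hc' : c' ∈ C)
    (e1 : e x + f y + c = e x' + f y' + c') : x = x' ∧ y = y' ∧ c = c' := by
  have e2 : e (x - x') + f (y - y') = c' - c := by
    rw [map_sub, map_sub]
    have e3 : e x + f y = e x' + f y' + c' - c := by rw [← e1]; abel
    have e4 : e x - e x' + (f y - f y') = (e x + f y) - (e x' + f y') := by abel
    rw [e4, e3]; abel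
  obtain ⟨h1, h2⟩ := h.ind _ _ (e2 ▸ C.sub_mem hc' hc)
  have h3 := sub_eq_zero.1 h1
  have h4 := sub_eq_zero.1 h2
  subst h3 h4
  exact ⟨rfl, rfl, add_left_cancel e1⟩

/-- the projections -/
theorem Bk.proj' (h : Bk e f C up lo) :
    ∃ (px py : V →+ F) (pc : V →+ V), (∀ v, v = e (px v) + f (py v) + pc v) ∧ ∀ v, pc v ∈ C := by
  choose px py pc hpc hv using h.dec
  refine ⟨AddMonoidHom.mk' px ?_, AddMonoidHom.mk' py ?_, AddMonoidHom.mk' pc ?_, hv, hpc⟩
  all_goals
    intro a b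
    have e1 : e (px (a + b)) + f (py (a + b)) + pc (a + b)
        = e (px a + px b) + f (py a + py b) + (pc a + pc b) := by
      rw [← hv (a + b), map_add, map_add]
      conv_lhs => rw [hv a, hv b]
      abel
    obtain ⟨h1, h2, h3⟩ := h.uniq (hpc _) (C.add_mem (hpc a) (hpc b)) e1
    first | exact h1 | exact h2 | exact h3

theorem Bk.proj (h : Bk e f C up lo) :
    ∃ (px py : V →+ F) (pc : V →+ V), (∀ v, v = e (px v) + f (py v) + pc v) ∧ (∀ v, pc v ∈ C) ∧
      ∀ a b, ∀ c ∈ C, px (e a + f b + c) = a ∧ py (e a + f b + c) = b ∧ pc (e a + f b + c) = c := by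
  obtain ⟨px, py, pc, hv, hpc⟩ := h.proj'
  exact ⟨px, py, pc, hv, hpc, fun a b c hc => h.uniq (hpc _) hc (hv _).symm⟩

variable (h : Bk e f C up lo) (h2 : ∀ v : V, v + v = 0) (hf : ∀ x : X, (∀ v : V, x • v = v) → x = 1)
include h h2 hf

omit h2 in
/-- two elements which agree on the three parts are equal -/
theorem Bk.ext {x y : X} (he : ∀ z, x • e z = y • e z) (hff : ∀ z, x • f z = y • f z)
    (hc : ∀ c ∈ C, x • c = y • c) : x = y := by
  have h1 : y⁻¹ * x = 1 := by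
    refine hf _ fun v => ?_
    obtain ⟨a, b, c, hcc, rfl⟩ := h.dec v
    have e1 : x • (e a + f b + c) = y • (e a + f b + c) := by
      rw [smul_add, smul_add, smul_add, smul_add, he, hff, hc c hcc]
    rw [mul_smul, e1, inv_smul_smul]
  exact (inv_mul_eq_one.1 h1).symm

omit hf in
theorem Bk.two (x : F) : x + x = 0 := by
  refine (h.ind (x + x) 0 ?_).1
  rw [map_add, map_zero, h2, add_zero]
  exact C.zero_mem

omit h2 in
theorem Bk.up_zero : up 0 = 1 := by
  refine h.ext hf (fun z => ?_) (fun z => ?_) fun c hc => ?_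
  · rw [h.up_e, one_smul]
  · rw [h.up_f, zero_mul, map_zero, add_zero, one_smul]
  · rw [h.up_c _ c hc, one_smul]

omit h2 in
theorem Bk.up_add (s t : F) : up s * up t = up (s + t) := by
  refine h.ext hf (fun z => ?_) (fun z => ?_) fun c hc => ?_
  · rw [mul_smul, h.up_e, h.up_e, h.up_e]
  · rw [mul_smul, h.up_f, smul_add, h.up_f, h.up_e, h.up_f, add_mul, map_add]; abel
  · rw [mul_smul, h.up_c _ c hc, h.up_c _ c hc, h.up_c _ c hc]

theorem Bk.up_inv (t : F) : (up t)⁻¹ = up t := by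
  rw [inv_eq_iff_mul_eq_one, h.up_add hf, h.two h2, h.up_zero hf]

/-- the root group -/
def rt (up : F → X) : Subgroup X := Subgroup.closure (Set.range up)

omit h h2 hf in
theorem up_mem (t : F) : up t ∈ rt up := Subgroup.subset_closure ⟨t, rfl⟩

theorem Bk.mem_rt {a : X} : a ∈ rt up ↔ ∃ t, up t = a := by
  constructor
  · intro ha
    refine Subgroup.closure_induction (p := fun a _ => ∃ t, up t = a) ?_ ⟨0, h.up_zero hf⟩ ?_ ?_ ha
    · rintro _ ⟨t, rfl⟩
      exact ⟨t, rfl⟩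
    · rintro _ _ _ _ ⟨s, rfl⟩ ⟨t, rfl⟩
      exact ⟨s + t, (h.up_add hf s t).symm⟩
    · rintro _ _ ⟨t, rfl⟩
      exact ⟨t, (h.up_inv h2 hf t).symm⟩
  · rintro ⟨t, rfl⟩
    exact up_mem t

omit h2 hf in
theorem Bk.up_inj {s t : F} (e1 : up s = up t) : s = t := by
  have e2 := h.up_f s 1
  rw [e1, h.up_f, mul_one, mul_one] at e2
  have e3 : e t + f 0 + 0 = e s + f 0 + 0 := by
    rw [map_zero, add_zero, add_zero, add_zero, add_zero]
    exact add_left_cancel e2
  exact (h.uniq C.zero_mem C.zero_mem e3).1.symm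

theorem Bk.card_rt : Nat.card (rt up) = Nat.card F := by
  refine (Nat.card_congr (Equiv.ofBijective (fun t : F => (⟨up t, up_mem t⟩ : rt up)) ⟨?_, ?_⟩)).symm
  · intro s t e1
    exact h.up_inj (congrArg Subtype.val e1)
  · rintro ⟨a, ha⟩
    obtain ⟨t, rfl⟩ := (h.mem_rt h2 hf).1 ha
    exact ⟨t, rfl⟩

end

section card

/-- counting: a subgroup which fixes the kernel of `π : V → K` has at most `|K|` elements -/
theorem card_le_of [Finite V] (hno : NO X V) {K : Type w} [AddCommGroup K] [Finite K] (π : V →+ K) (W : Subgroup X)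
    (hc : ∀ x ∈ W, ∀ y ∈ W, x * y = y * x) (hq : ∀ x ∈ W, x * x = 1)
    (hfix : ∀ x ∈ W, ∀ v, π v = 0 → x • v = v) : Nat.card W ≤ Nat.card K := by
  have h1 : π.ker ≤ (fxd W : AddSubgroup V) := fun v hv x hx => hfix x hx v (AddMonoidHom.mem_ker.1 hv)
  have h3 : (fxd W : AddSubgroup V).index ≤ π.ker.index := by
    have h4 : (fxd W : AddSubgroup V).index ∣ π.ker.index := AddSubgroup.index_dvd_of_le h1
    exact Nat.le_of_dvd (Nat.pos_of_ne_zero AddSubgroup.index_ne_zero_of_finite) h4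
  have h5 : π.ker.index = Nat.card π.range := AddSubgroup.index_ker π
  have h6 : Nat.card π.range ≤ Nat.card K := Nat.card_le_card_of_injective _ Subtype.val_injective
  exact (hno W hc hq).trans (h3.trans (h5 ▸ h6))

end card

section gam

variable {F : Type w} [Field F] [Finite F] {e f : F →+ V} {C : AddSubgroup V} {up lo : F → X} [Finite V] [Finite X]

/-- LEMMA K : an element which fixes `e(F) + C` and is trivial on the quotient is in the root group. -/
theorem Bk.memK (h : Bk e f C up lo) (h2 : ∀ v : V, v + v = 0) (hf : ∀ x : X, (∀ v : V, x • v = v) → x = 1)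
    (hno : NO X V) {g : X} (ge : ∀ z, g • e z = e z) (gc : ∀ c ∈ C, g • c = c)
    (gf : ∀ z, ∃ x, ∃ c ∈ C, g • f z = f z + (e x + c)) : g ∈ rt up := by
  obtain ⟨px, py, pc, hv, hpc⟩ := h.proj'
  have hU : ∀ v : V, py v = 0 ↔ ∃ x, ∃ c ∈ C, v = e x + c := by
    intro v
    constructor
    · intro h0
      refine ⟨px v, pc v, hpc v, ?_⟩
      have e1 := hv v
      rw [h0, map_zero, add_zero] at e1
      exact e1
    · rintro ⟨x, c, hc, rfl⟩
      have e1 : e (px (e x + c)) + f (py (e x + c)) + pc (e x + c) = e x + f 0 + c := by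
        rw [← hv, map_zero, add_zero]
      exact (h.uniq (hpc _) hc e1).2.1
  -- the group of all such elements
  let W : Subgroup X :=
    { carrier := {x | (∀ v, py v = 0 → x • v = v) ∧ ∀ v, py (x • v - v) = 0}
      one_mem' := ⟨fun v _ => one_smul _ _, fun v => by rw [one_smul, sub_self, map_zero]⟩
      mul_mem' := by
        rintro x y ⟨hx1, hx2⟩ ⟨hy1, hy2⟩
        refine ⟨fun v hv0 => by rw [mul_smul, hy1 v hv0, hx1 v hv0], fun v => ?_⟩
        have e1 : (x * y) • v - v = (x • (y • v) - y • v) + (y • v - v) := by rw [mul_smul]; abel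
        rw [e1, map_add, hx2, hy2, add_zero]
      inv_mem' := by
        rintro x ⟨hx1, hx2⟩
        refine ⟨fun v hv0 => by rw [inv_smul_eq_iff, hx1 v hv0], fun v => ?_⟩
        have e1 : x⁻¹ • v - v = -(x • (x⁻¹ • v) - x⁻¹ • v) := by rw [smul_inv_smul]; abel
        rw [e1, map_neg, hx2, neg_zero] }
  have key : ∀ x ∈ W, ∀ y ∈ W, ∀ v : V, (x * y) • v = v + (x • v - v) + (y • v - v) := by
    rintro x ⟨hx1, hx2⟩ y ⟨hy1, hy2⟩ v
    have e1 : y • v = v + (y • v - v) := by abel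
    rw [mul_smul]
    conv_lhs => rw [e1]
    rw [smul_add, hx1 _ (hy2 v)]
    abel
  have hcom : ∀ x ∈ W, ∀ y ∈ W, x * y = y * x := by
    intro x hx y hy
    have h3 : (y * x)⁻¹ * (x * y) = 1 := by
      refine hf _ fun v => ?_
      rw [mul_smul, inv_smul_eq_iff, key x hx y hy, key y hy x hx]
      abel
    exact (inv_mul_eq_one.1 h3).symm
  have hsq : ∀ x ∈ W, x * x = 1 := by
    intro x hx
    refine hf _ fun v => ?_
    rw [key x hx x hx, add_assoc, h2, add_zero]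
  have hcard : Nat.card W ≤ Nat.card F := card_le_of hno py W hcom hsq fun x hx v h0 => hx.1 v h0
  have hle : rt up ≤ W := by
    intro a ha
    obtain ⟨t, rfl⟩ := (h.mem_rt h2 hf).1 ha
    refine ⟨fun v h0 => ?_, fun v => ?_⟩
    · obtain ⟨x, c, hc, rfl⟩ := (hU v).1 h0
      rw [smul_add, h.up_e, h.up_c t c hc]
    · rw [hU]
      obtain ⟨x, y, c, hc, rfl⟩ := h.dec v
      refine ⟨t * y, 0, C.zero_mem, ?_⟩
      rw [smul_add, smul_add, h.up_e, h.up_f, h.up_c t c hc]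
      abel
  have hgW : g ∈ W := by
    refine ⟨fun v h0 => ?_, fun v => ?_⟩
    · obtain ⟨x, c, hc, rfl⟩ := (hU v).1 h0
      rw [smul_add, ge, gc c hc]
    · rw [hU]
      obtain ⟨x, y, c, hc, rfl⟩ := h.dec v
      obtain ⟨a, c', hc', e1⟩ := gf y
      refine ⟨a, c', hc', ?_⟩
      rw [smul_add, smul_add, ge, e1, gc c hc]
      abel
  have heq : rt up = W := by
    refine Subgroup.eq_of_le_of_card_ge hle ?_
    rw [h.card_rt h2 hf]
    exact hcard
  rw [heq]
  exact hgW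

/-- the action of an element of `Gam` -/
structure Dat {F : Type w} [Field F] (e f : F →+ V) (C : AddSubgroup V) (g : X) (σ : V →+ F) (ρ : F →+ V)
    (γ : F → F) : Prop where
  ee : ∀ z, g • e z = e z
  cc : ∀ c ∈ C, g • c = c + e (σ c)
  ff : ∀ s, g • f s = f s + ρ s + e (γ s)
  rc : ∀ s, ρ s ∈ C

omit [Finite F] [Finite V] [Finite X] in
theorem Bk.exists_dat (h : Bk e f C up lo) {g : X} (ge : ∀ z, g • e z = e z)
    (gc : ∀ c ∈ C, ∃ x, g • c = c + e x) (gf : ∀ z, ∃ x, ∃ c ∈ C, g • f z = f z + c + e x) :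
    ∃ (σ : V →+ F) (ρ : F →+ V) (γ : F →+ F), Dat e f C g σ ρ γ := by
  obtain ⟨px, py, pc, hv, hpc, hu⟩ := h.proj
  refine ⟨px.comp ((DistribSMul.toAddMonoidHom V g).comp pc),
    pc.comp ((DistribSMul.toAddMonoidHom V g).comp f),
    px.comp ((DistribSMul.toAddMonoidHom V g).comp f), ge, ?_, ?_, fun s => hpc _⟩
  · intro c hc
    obtain ⟨x, hx⟩ := gc c hc
    have e1 : pc c = c := by
      have := (hu 0 0 c hc).2.2
      rwa [map_zero, map_zero, zero_add, zero_add] at this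
    have e2 : px (c + e x) = x := by
      have := (hu x 0 c hc).1
      rwa [map_zero, add_zero, add_comm] at this
    show g • c = c + e (px (g • pc c))
    rw [e1, hx, e2]
  · intro s
    obtain ⟨x, c, hc, hx⟩ := gf s
    have e1 : g • f s = e x + f s + c := by rw [hx]; abel
    show g • f s = f s + pc (g • f s) + e (px (g • f s))
    rw [e1, (hu x s c hc).1, (hu x s c hc).2.2]
    abel

/-- the Weyl elements -/
def wt (up lo : F → X) (t : F) : X := up t * lo t⁻¹ * up t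

/-- the torus -/
def hh (up lo : F → X) (t : F) : X := wt up lo t * wt up lo 1

section torus
omit [Finite F] [Finite V] [Finite X]
variable (h : Bk e f C up lo) (h2 : ∀ v : V, v + v = 0)
include h h2

theorem Bk.wt_e {t : F} (ht : t ≠ 0) (x : F) : wt up lo t • e x = f (t⁻¹ * x) := by
  rw [wt, mul_smul, mul_smul, h.up_e, h.lo_e, smul_add, h.up_e, h.up_f, mul_inv_cancel_left₀ ht]
  have e1 : e x + (f (t⁻¹ * x) + e x) = f (t⁻¹ * x) + (e x + e x) := by abel
  rw [e1, h2, add_zero]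

theorem Bk.wt_f {t : F} (ht : t ≠ 0) (y : F) : wt up lo t • f y = e (t * y) := by
  rw [wt, mul_smul, mul_smul, h.up_f, smul_add, h.lo_f, h.lo_e, inv_mul_cancel_left₀ ht, smul_add, smul_add,
    h.up_f, h.up_e]
  have e1 : f y + e (t * y) + (e (t * y) + (f y + e (t * y)))
      = e (t * y) + ((f y + f y) + (e (t * y) + e (t * y))) := by abel
  rw [e1, h2, h2, add_zero, add_zero]

omit h2 in
theorem Bk.wt_c (t : F) {c : V} (hc : c ∈ C) : wt up lo t • c = c := by
  rw [wt, mul_smul, mul_smul, h.up_c _ c hc, h.lo_c _ c hc, h.up_c _ c hc]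

theorem Bk.hh_e {t : F} (ht : t ≠ 0) (x : F) : hh up lo t • e x = e (t * x) := by
  rw [hh, mul_smul, h.wt_e h2 one_ne_zero, h.wt_f h2 ht, inv_one, one_mul]

theorem Bk.hh_f {t : F} (ht : t ≠ 0) (y : F) : hh up lo t • f y = f (t⁻¹ * y) := by
  rw [hh, mul_smul, h.wt_f h2 one_ne_zero, h.wt_e h2 ht, one_mul]

omit h2 in
theorem Bk.hh_c (t : F) {c : V} (hc : c ∈ C) : hh up lo t • c = c := by
  rw [hh, mul_smul, h.wt_c _ hc, h.wt_c _ hc]

theorem Bk.hhi_e {t : F} (ht : t ≠ 0) (x : F) : (hh up lo t)⁻¹ • e x = e (t⁻¹ * x) := by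
  rw [inv_smul_eq_iff, h.hh_e h2 ht, mul_inv_cancel_left₀ ht]

theorem Bk.hhi_f {t : F} (ht : t ≠ 0) (y : F) : (hh up lo t)⁻¹ • f y = f (t * y) := by
  rw [inv_smul_eq_iff, h.hh_f h2 ht, inv_mul_cancel_left₀ ht]

omit h2 in
theorem Bk.hhi_c (t : F) {c : V} (hc : c ∈ C) : (hh up lo t)⁻¹ • c = c := by
  rw [inv_smul_eq_iff, h.hh_c t hc]

/-- the torus conjugates of an element of `Gam` -/
theorem Dat.conj_h {g : X} {σ : V →+ F} {ρ : F →+ V} {γ : F → F} (D : Dat e f C g σ ρ γ) {t : F} (ht : t ≠ 0) :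
    Dat e f C (hh up lo t * g * (hh up lo t)⁻¹) ((AddMonoidHom.mulLeft t).comp σ)
      (ρ.comp (AddMonoidHom.mulLeft t)) (fun s => t * γ (t * s)) where
  ee := by
    intro z
    rw [mul_smul, mul_smul, h.hhi_e h2 ht, D.ee, h.hh_e h2 ht, mul_inv_cancel_left₀ ht]
  cc := by
    intro c hc
    rw [mul_smul, mul_smul, h.hhi_c t hc, D.cc c hc, smul_add, h.hh_c t hc, h.hh_e h2 ht]
    rfl
  ff := by
    intro s
    rw [mul_smul, mul_smul, h.hhi_f h2 ht, D.ff, smul_add, smul_add, h.hh_f h2 ht, h.hh_c t (D.rc _),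
      h.hh_e h2 ht, inv_mul_cancel_left₀ ht]
    rfl
  rc := fun s => D.rc _

end torus

section lin
variable (h : Bk e f C up lo) (h2 : ∀ v : V, v + v = 0) (hf : ∀ x : X, (∀ v : V, x • v = v) → x = 1) (hno : NO X V)
include h h2 hf hno

/-- two elements of `Gam` with the same `σ`, `ρ` differ by a root element -/
theorem Bk.lin {P Q : X} {κ : F → F} (Pe : ∀ z, P • e z = e z) (Qe : ∀ z, Q • e z = e z)
    (PQ : ∀ c ∈ C, P • c = Q • c) (Qc : ∀ c ∈ C, ∃ x, Q • c = c + e x)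
    (Qf : ∀ s, ∃ x, ∃ c ∈ C, Q • f s = f s + c + e x) (Pf : ∀ s, P • f s = Q • f s + e (κ s)) :
    ∃ t, ∀ s, κ s = t * s := by
  have Qie : ∀ z, Q⁻¹ • e z = e z := fun z => by rw [inv_smul_eq_iff, Qe]
  have dc : ∀ c ∈ C, (P * Q⁻¹) • c = c := by
    intro c hc
    obtain ⟨x, hx⟩ := Qc c hc
    have e1 : Q⁻¹ • c = c - e x := by
      rw [inv_smul_eq_iff, smul_sub, hx, Qe]; abel
    rw [mul_smul, e1, smul_sub, PQ c hc, hx, Pe]; abel
  have df : ∀ s, (P * Q⁻¹) • f s = f s + e (κ s) := by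
    intro s
    obtain ⟨x, c, hc, hx⟩ := Qf s
    have e1 : Q⁻¹ • f s = f s - Q⁻¹ • c - e x := by
      have e2 : Q⁻¹ • (Q • f s) = Q⁻¹ • (f s + c + e x) := by rw [hx]
      rw [inv_smul_smul, smul_add, smul_add, Qie] at e2
      have e4 : f s - Q⁻¹ • c - e x = Q⁻¹ • f s := by
        conv_lhs => rw [e2]
        abel
      exact e4.symm
    have e3 : P • (Q⁻¹ • c) = c := by rw [← mul_smul]; exact dc c hc
    rw [mul_smul, e1, smul_sub, smul_sub, e3, Pe, Pf, hx]; abel
  have hm : P * Q⁻¹ ∈ rt up := by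
    refine h.memK h2 hf hno (fun z => ?_) dc fun z => ⟨κ z, 0, C.zero_mem, by rw [df, add_zero]⟩
    rw [mul_smul, Qie, Pe]
  obtain ⟨t, ht⟩ := (h.mem_rt h2 hf).1 hm
  refine ⟨t, fun s => ?_⟩
  have e1 := df s
  rw [← ht, h.up_f] at e1
  have e2 : e (κ s) + f 0 + 0 = e (t * s) + f 0 + 0 := by rw [add_left_cancel e1]
  exact (h.uniq C.zero_mem C.zero_mem e2).1

/-- `τ = σρ` is linear -/
theorem Bk.tau_lin {g : X} {σ : V →+ F} {ρ : F →+ V} {γ : F → F} (D : Dat e f C g σ ρ γ) :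
    ∃ t, ∀ s, σ (ρ s) = t * s := by
  refine h.lin h2 hf hno (P := g * g) (Q := 1) (κ := fun s => σ (ρ s)) (fun z => ?_) (fun z => one_smul _ _)
    (fun c hc => ?_) (fun c hc => ⟨0, by rw [one_smul, map_zero, add_zero]⟩)
    (fun s => ⟨0, 0, C.zero_mem, by rw [one_smul, map_zero, add_zero, add_zero]⟩) fun s => ?_
  · rw [mul_smul, D.ee, D.ee]
  · rw [mul_smul, D.cc c hc, smul_add, D.cc c hc, D.ee, one_smul, add_assoc, h2, add_zero]
  · rw [mul_smul, D.ff, smul_add, smul_add, D.ff, D.cc _ (D.rc s), D.ee, one_smul]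
    have e1 : f s + ρ s + e (γ s) + (ρ s + e (σ (ρ s))) + e (γ s)
        = f s + e (σ (ρ s)) + ((ρ s + ρ s) + (e (γ s) + e (γ s))) := by abel
    rw [e1, h2, h2, add_zero, add_zero]

/-- the identity for two torus conjugates -/
theorem Bk.two_conj {g : X} {σ : V →+ F} {ρ : F →+ V} {γ : F →+ F} (D : Dat e f C g σ ρ γ) {c : F} (hc0 : c ≠ 0)
    (hc1 : c + 1 ≠ 0) :
    ∃ t, ∀ s, c * γ (c * s) + γ s + c * σ (ρ s) + (c + 1) * γ ((c + 1) * s) = t * s := by
  have D1 := D.conj_h h h2 hc0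
  have D2 := D.conj_h h h2 hc1
  refine h.lin h2 hf hno (P := hh up lo c * g * (hh up lo c)⁻¹ * g)
    (Q := hh up lo (c + 1) * g * (hh up lo (c + 1))⁻¹) (fun z => ?_) (fun z => D2.ee z) (fun v hv => ?_)
    (fun v hv => ⟨_, D2.cc v hv⟩) (fun s => ⟨_, _, D2.rc s, D2.ff s⟩) fun s => ?_
  · rw [mul_smul, D.ee, D1.ee]
  · rw [mul_smul, D.cc v hv, smul_add, D1.cc v hv, D1.ee, D2.cc v hv]
    show v + e (c * σ v) + e (σ v) = v + e ((c + 1) * σ v)
    rw [add_mul, one_mul, map_add]; abel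
  · rw [mul_smul, D.ff, smul_add, smul_add, D1.ff, D1.cc _ (D.rc s), D1.ee, D2.ff]
    show f s + ρ (c * s) + e (c * γ (c * s)) + (ρ s + e (c * σ (ρ s))) + e (γ s)
      = f s + ρ ((c + 1) * s) + e ((c + 1) * γ ((c + 1) * s))
        + e (c * γ (c * s) + γ s + c * σ (ρ s) + (c + 1) * γ ((c + 1) * s))
    have e1 : ρ ((c + 1) * s) = ρ (c * s) + ρ s := by rw [add_mul, one_mul, map_add]
    rw [e1]
    simp only [map_add]
    have e2 : f s + (ρ (c * s) + ρ s) + e ((c + 1) * γ ((c + 1) * s))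
        + (e (c * γ (c * s)) + e (γ s) + e (c * σ (ρ s)) + e ((c + 1) * γ ((c + 1) * s)))
        = (e ((c + 1) * γ ((c + 1) * s)) + e ((c + 1) * γ ((c + 1) * s)))
          + (f s + ρ (c * s) + ρ s + e (c * γ (c * s)) + e (γ s) + e (c * σ (ρ s))) := by abel
    rw [e2, h2, zero_add]
    abel

/-- `γ` is linear -/
theorem Bk.gam_lin {g : X} {σ : V →+ F} {ρ : F →+ V} {γ : F →+ F} (D : Dat e f C g σ ρ γ) (s : F) :
    γ s = γ 1 * s := by
  have hF := h.two h2
  obtain ⟨t0, ht0⟩ := h.tau_lin h2 hf hno D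
  have key : ∀ c s, γ (c * s) + c * γ s = (γ c + c * γ 1) * s := by
    intro c s
    by_cases hc0 : c = 0
    · subst hc0; simp
    by_cases hc1 : c + 1 = 0
    · have e1 : c = 1 := by
        have := add_eq_zero_iff_eq_neg.1 hc1
        rw [this, neg_eq_iff_add_eq_zero]
        exact hF 1
      subst e1
      rw [one_mul, one_mul, one_mul, hF, hF, zero_mul]
    obtain ⟨t, ht⟩ := h.two_conj h2 hf hno D hc0 hc1
    have e1 : ∀ s, γ (c * s) + c * γ s = (t + c * t0) * s := by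
      intro s
      have e2 := ht s
      have e5 : γ ((c + 1) * s) = γ (c * s) + γ s := by rw [add_mul, one_mul, map_add]
      rw [ht0, e5] at e2
      have e3 : γ (c * s) + c * γ s = (c * γ (c * s) + γ s + c * (t0 * s) + (c + 1) * (γ (c * s) + γ s))
          + c * t0 * s - ((c * γ (c * s) + c * γ (c * s)) + (γ s + γ s) + (c * t0 * s + c * t0 * s)) := by ring
      rw [e3, e2, hF (c * γ (c * s)), hF (γ s), hF (c * t0 * s)]; ring
    have e4 := e1 1
    rw [mul_one, mul_one] at e4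
    rw [e1, e4]
  have hsq : ∀ x, γ (x * x) = γ 1 * (x * x) := by
    intro x
    have e1 := key x x
    have e2 : γ (x * x) = (γ x + x * γ 1) * x - x * γ x := by rw [← e1]; ring
    rw [e2]; ring
  have hinj : Function.Injective (fun x : F => x * x) := by
    intro x y hxy
    have e1 : (x + y) * (x + y) = 0 := by
      have e2 : (x + y) * (x + y) = x * x + y * y + (x * y + x * y) := by ring
      have hxy' : x * x = y * y := hxy
      rw [e2, hF, add_zero, hxy', hF]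
    have e3 := mul_self_eq_zero.1 e1
    rw [add_eq_zero_iff_eq_neg.1 e3, neg_eq_iff_add_eq_zero]
    exact hF y
  obtain ⟨x, hx⟩ := (Finite.surjective_of_injective hinj) s
  have hx' : x * x = s := hx
  rw [← hx', hsq]

/-- SYM -/
theorem Bk.sym {g : X} {σ : V →+ F} {ρ : F →+ V} (D : Dat e f C g σ ρ (fun _ => 0)) (s : F) : σ (ρ s) = 0 := by
  have hF := h.two h2
  obtain ⟨px, py, pc, hv, hpc, hu⟩ := h.proj
  have hpx : ∀ (v : V) b, ∀ c ∈ C, px (v + f b + c) = px v := by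
    intro v b c hc
    have e1 : v + f b + c = e (px v) + f (py v + b) + (pc v + c) := by
      conv_lhs => rw [hv v]
      rw [map_add]; abel
    rw [e1, (hu _ _ _ (C.add_mem (hpc v) hc)).1]
  have hlo : ∀ r (v : V), lo r • v = v + f (r * px v) := by
    intro r v
    conv_lhs => rw [hv v]
    rw [smul_add, smul_add, h.lo_e, h.lo_f, h.lo_c r _ (hpc v)]
    conv_rhs => rw [hv v]
    rw [(hu _ _ _ (hpc v)).1]
    abel
  have gff : ∀ a, g • f a = f a + ρ a := by
    intro a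
    rw [D.ff, map_zero, add_zero]
  set x : X := g * lo 1 * g⁻¹ with hx
  have xv : ∀ v : V, x • v = v + f (px (g⁻¹ • v)) + ρ (px (g⁻¹ • v)) := by
    intro v
    rw [hx, mul_smul, mul_smul, hlo, smul_add, smul_inv_smul, one_mul, gff]; abel
  have xpx : ∀ v : V, px (x⁻¹ • v) = px v := by
    intro v
    have e1 := xv (x⁻¹ • v)
    rw [smul_inv_smul] at e1
    have e2 : px v = px (x⁻¹ • v) := by
      conv_lhs => rw [e1]
      exact hpx _ _ _ (D.rc _)
    exact e2.symm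
  have yv : ∀ v : V, (x * lo 1 * x⁻¹) • v = v + x • f (px v) := by
    intro v
    rw [mul_smul, mul_smul, hlo, smul_add, smul_inv_smul, one_mul, xpx]
  have hy : x * lo 1 * x⁻¹ ∈ rt lo := by
    refine h.swap.memK h2 hf hno (fun z => ?_) (fun c hc => ?_) fun z => ?_
    · have e1 : px (f z) = 0 := by
        have := (hu 0 z 0 C.zero_mem).1
        rwa [map_zero, zero_add, add_zero] at this
      rw [yv, e1, map_zero, smul_zero, add_zero]
    · have e1 : px c = 0 := by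
        have := (hu 0 0 c hc).1
        rwa [map_zero, map_zero, zero_add, zero_add] at this
      rw [yv, e1, map_zero, smul_zero, add_zero]
    · refine ⟨px (e z) + px (g⁻¹ • f (px (e z))), ρ (px (g⁻¹ • f (px (e z)))), D.rc _, ?_⟩
      rw [yv, xv, map_add]
  obtain ⟨r, hr⟩ := (h.swap.mem_rt h2 hf).1 hy
  have xf : ∀ z, x • f z = f (r * z) := by
    intro z
    have e1 : (x * lo 1 * x⁻¹) • e z = e z + x • f z := by
      have e2 : px (e z) = z := by
        have := (hu z 0 0 C.zero_mem).1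
        rwa [map_zero, add_zero, add_zero] at this
      rw [yv, e2]
    rw [← hr, h.lo_e] at e1
    exact (add_left_cancel e1).symm
  have hxx : x * x = 1 := by
    have e1 : lo 1 * lo 1 = (1 : X) := by rw [h.swap.up_add hf, hF, h.swap.up_zero hf]
    calc x * x = g * (lo 1 * lo 1) * g⁻¹ := by rw [hx]; group
      _ = 1 := by rw [e1]; group
  have hr1 : r = 1 := by
    have e1 : x • (x • f 1) = f 1 := by rw [← mul_smul, hxx, one_smul]
    rw [xf, xf, mul_one] at e1
    have e2 : e 0 + f (r * r) + 0 = e 0 + f 1 + 0 := by rw [e1]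
    have e3 := (h.uniq C.zero_mem C.zero_mem e2).2.1
    have e4 : (r + 1) * (r + 1) = 0 := by
      have e5 : (r + 1) * (r + 1) = r * r + 1 + (r + r) := by ring
      rw [e5, e3, hF, hF, add_zero]
    have e5 := mul_self_eq_zero.1 e4
    rw [add_eq_zero_iff_eq_neg.1 e5, neg_eq_iff_add_eq_zero]
    exact hF 1
  have e1 : px (g⁻¹ • f s) = 0 := by
    have e2 := xv (f s)
    rw [xf, hr1, one_mul] at e2
    have e3 : e 0 + f 0 + 0 = e 0 + f (px (g⁻¹ • f s)) + ρ (px (g⁻¹ • f s)) := by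
      have e4 : f s + 0 = f s + (f (px (g⁻¹ • f s)) + ρ (px (g⁻¹ • f s))) := by
        rw [add_zero, ← add_assoc]; exact e2
      rw [map_zero, map_zero, zero_add, zero_add, zero_add]
      exact add_left_cancel e4
    exact (h.uniq C.zero_mem (D.rc _) e3).2.1.symm
  have e2 : g⁻¹ • f s = f s + ρ s - e (σ (ρ s)) := by
    rw [inv_smul_eq_iff, smul_sub, smul_add, gff, D.cc _ (D.rc s), D.ee]
    have e3 : f s + ρ s + (ρ s + e (σ (ρ s))) - e (σ (ρ s)) = f s + (ρ s + ρ s) := by abel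
    rw [e3, h2, add_zero]
  rw [e2] at e1
  have e3 : f s + ρ s - e (σ (ρ s)) = e (-(σ (ρ s))) + f s + ρ s := by rw [map_neg]; abel
  rw [e3, (hu _ _ _ (D.rc s)).1] at e1
  exact neg_eq_zero.1 e1

omit hf hno in
/-- the `F`-line through an element of `Gam` with `γ = 0` -/
theorem Bk.dat_mul {g : X} {σ : V →+ F} {ρ : F →+ V} (D : Dat e f C g σ ρ (fun _ => 0)) (a : F) :
    ∃ x : X, Dat e f C x ((AddMonoidHom.mulLeft a).comp σ) (ρ.comp (AddMonoidHom.mulLeft a)) (fun _ => 0) := by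
  by_cases ha : a = 0
  · subst ha
    refine ⟨1, fun z => one_smul _ _, fun c _ => ?_, fun s => ?_, fun s => ?_⟩
    · show (1 : X) • c = c + e (0 * σ c)
      rw [zero_mul, map_zero, add_zero, one_smul]
    · show (1 : X) • f s = f s + ρ (0 * s) + e 0
      rw [zero_mul, map_zero, map_zero, add_zero, add_zero, one_smul]
    · show ρ (0 * s) ∈ C
      exact D.rc _
  · have D1 := D.conj_h h h2 ha
    refine ⟨_, D1.ee, D1.cc, fun s => ?_, D1.rc⟩
    have e1 := D1.ff s
    rw [e1, mul_zero]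

/-- the case `ρ = 0` -/
theorem Bk.false_rho_zero (h4 : 4 ≤ Nat.card F) {g : X} {σ : V →+ F} {ρ : F →+ V}
    (D : Dat e f C g σ ρ (fun _ => 0)) (hr : ∀ s, ρ s = 0) {c1 : V} (hc1 : c1 ∈ C) (hs : σ c1 ≠ 0) : False := by
  obtain ⟨px, py, pc, hv, hpc, hu⟩ := h.proj
  let W : Subgroup X :=
    { carrier := {x | (∀ z, x • e z = e z) ∧ (∀ z, x • f z = f z) ∧
        ∃ a b, ∀ c ∈ C, x • c = c + e (a * σ c) + f (b * σ c)}
      one_mem' := ⟨fun z => one_smul _ _, fun z => one_smul _ _, 0, 0, fun c _ => by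
        rw [zero_mul, map_zero, map_zero, add_zero, add_zero, one_smul]⟩
      mul_mem' := by
        rintro x y ⟨hx1, hx2, a, b, hx3⟩ ⟨hy1, hy2, a', b', hy3⟩
        refine ⟨fun z => by rw [mul_smul, hy1, hx1], fun z => by rw [mul_smul, hy2, hx2], a + a', b + b',
          fun c hc => ?_⟩
        rw [mul_smul, hy3 c hc, smul_add, smul_add, hx1, hx2, hx3 c hc, add_mul, add_mul, map_add, map_add]
        abel
      inv_mem' := by
        rintro x ⟨hx1, hx2, a, b, hx3⟩
        refine ⟨fun z => by rw [inv_smul_eq_iff, hx1], fun z => by rw [inv_smul_eq_iff, hx2], a, b, fun c hc => ?_⟩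
        rw [inv_smul_eq_iff, smul_add, smul_add, hx1, hx2, hx3 c hc]
        have e1 : c + e (a * σ c) + f (b * σ c) + e (a * σ c) + f (b * σ c)
            = c + ((e (a * σ c) + e (a * σ c)) + (f (b * σ c) + f (b * σ c))) := by abel
        rw [e1, h2, h2, add_zero, add_zero] }
  have hup : Nat.card W ≤ Nat.card F := by
    refine card_le_of hno (σ.comp pc) W ?_ ?_ ?_
    · rintro x ⟨hx1, hx2, a, b, hx3⟩ y ⟨hy1, hy2, a', b', hy3⟩
      refine h.ext hf (fun z => ?_) (fun z => ?_) fun c hc => ?_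
      · rw [mul_smul, mul_smul, hy1, hx1, hy1]
      · rw [mul_smul, mul_smul, hy2, hx2, hy2]
      · rw [mul_smul, mul_smul, hy3 c hc, hx3 c hc, smul_add, smul_add, smul_add, smul_add, hx1, hx2, hy1, hy2,
          hx3 c hc, hy3 c hc]
        abel
    · rintro x ⟨hx1, hx2, a, b, hx3⟩
      refine h.ext hf (fun z => ?_) (fun z => ?_) fun c hc => ?_
      · rw [mul_smul, hx1, hx1, one_smul]
      · rw [mul_smul, hx2, hx2, one_smul]
      · rw [mul_smul, hx3 c hc, smul_add, smul_add, hx1, hx2, hx3 c hc, one_smul]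
        have e1 : c + e (a * σ c) + f (b * σ c) + e (a * σ c) + f (b * σ c)
            = c + ((e (a * σ c) + e (a * σ c)) + (f (b * σ c) + f (b * σ c))) := by abel
        rw [e1, h2, h2, add_zero, add_zero]
    · rintro x ⟨hx1, hx2, a, b, hx3⟩ v hv0
      have hv0' : σ (pc v) = 0 := hv0
      conv_lhs => rw [hv v]
      rw [smul_add, smul_add, hx1, hx2, hx3 _ (hpc v), hv0', mul_zero, mul_zero, map_zero, map_zero, add_zero,
        add_zero]
      exact (hv v).symm
  -- elements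
  have hex : ∀ p : F × F, ∃ x : X, (∀ z, x • e z = e z) ∧ (∀ z, x • f z = f z) ∧
      ∀ c ∈ C, x • c = c + e (p.1 * σ c) + f (p.2 * σ c) := by
    rintro ⟨a, b⟩
    obtain ⟨x, Dx⟩ := h.dat_mul h2 D a
    obtain ⟨y, Dy⟩ := h.dat_mul h2 D b
    have w1 : ∀ z, (wt up lo 1)⁻¹ • e z = f z := fun z => by
      rw [inv_smul_eq_iff, h.wt_f h2 one_ne_zero, one_mul]
    have w2 : ∀ z, (wt up lo 1)⁻¹ • f z = e z := fun z => by
      rw [inv_smul_eq_iff, h.wt_e h2 one_ne_zero, inv_one, one_mul]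
    have w3 : ∀ c ∈ C, (wt up lo 1)⁻¹ • c = c := fun c hc => by rw [inv_smul_eq_iff, h.wt_c _ hc]
    have yf : ∀ z, y • f z = f z := by
      intro z
      rw [Dy.ff]
      show f z + ρ (b * z) + e 0 = f z
      rw [hr, map_zero, add_zero, add_zero]
    have xf : ∀ z, x • f z = f z := by
      intro z
      rw [Dx.ff]
      show f z + ρ (a * z) + e 0 = f z
      rw [hr, map_zero, add_zero, add_zero]
    refine ⟨x * (wt up lo 1 * y * (wt up lo 1)⁻¹), fun z => ?_, fun z => ?_, fun c hc => ?_⟩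
    · rw [mul_smul, mul_smul, mul_smul, w1, yf, h.wt_f h2 one_ne_zero, one_mul, Dx.ee]
    · rw [mul_smul, mul_smul, mul_smul, w2, Dy.ee, h.wt_e h2 one_ne_zero, inv_one, one_mul, xf]
    · rw [mul_smul, mul_smul, mul_smul, w3 c hc, Dy.cc c hc, smul_add, h.wt_c _ hc, h.wt_e h2 one_ne_zero, inv_one,
        one_mul, smul_add, xf, Dx.cc c hc]
      rfl
  choose m hm1 hm2 hm3 using hex
  have hlow : Nat.card (F × F) ≤ Nat.card W := by
    refine Nat.card_le_card_of_injective (fun p => (⟨m p, hm1 p, hm2 p, p.1, p.2, hm3 p⟩ : W)) ?_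
    intro p p' hpp
    have e1 : m p = m p' := congrArg Subtype.val hpp
    have e2 := hm3 p c1 hc1
    rw [e1, hm3 p' c1 hc1] at e2
    have e3 : e (p'.1 * σ c1) + f (p'.2 * σ c1) + c1 = e (p.1 * σ c1) + f (p.2 * σ c1) + c1 := by
      have e4 : ∀ (a b : V), a + b + c1 = c1 + a + b := fun a b => by abel
      rw [e4, e4, e2]
    obtain ⟨e5, e6, -⟩ := h.uniq hc1 hc1 e3
    exact Prod.ext (mul_right_cancel₀ hs e5.symm) (mul_right_cancel₀ hs e6.symm)
  rw [Nat.card_prod] at hlow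
  nlinarith [hlow.trans hup]

/-- the case `ρ ≠ 0` -/
theorem Bk.false_rho_ne {g : X} {σ : V →+ F} {ρ : F →+ V}
    (D : Dat e f C g σ ρ (fun _ => 0)) {s1 : F} (hr : ρ s1 ≠ 0) {c1 : V} (hc1 : c1 ∈ C) (hs : σ c1 ≠ 0) : False := by
  have hsr := h.sym h2 hf hno D
  obtain ⟨px, py, pc, hv, hpc, hu⟩ := h.proj
  let W : Subgroup X :=
    { carrier := {x | (∀ z, x • e z = e z) ∧
        ∃ a t k, (∀ s, x • f s = f s + ρ (a * s) + e (t * s)) ∧ ∀ c ∈ C, x • c = c + e (a * σ c) + ρ (k * σ c)}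
      one_mem' := ⟨fun z => one_smul _ _, 0, 0, 0, fun s => by
        rw [zero_mul, map_zero, map_zero, add_zero, add_zero, one_smul], fun c _ => by
        rw [zero_mul, map_zero, map_zero, add_zero, add_zero, one_smul]⟩
      mul_mem' := by
        rintro x y ⟨hx1, a, t, k, hx2, hx3⟩ ⟨hy1, a', t', k', hy2, hy3⟩
        have hxr : ∀ z, x • ρ z = ρ z := fun z => by
          rw [hx3 _ (D.rc z), hsr, mul_zero, mul_zero, map_zero, map_zero, add_zero, add_zero]
        refine ⟨fun z => by rw [mul_smul, hy1, hx1], a + a', t + t', k + k', fun s => ?_, fun c hc => ?_⟩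
        · rw [mul_smul, hy2, smul_add, smul_add, hx1, hxr, hx2, add_mul, add_mul, map_add, map_add]
          abel
        · rw [mul_smul, hy3 c hc, smul_add, smul_add, hx1, hxr, hx3 c hc, add_mul, add_mul, map_add, map_add]
          abel
      inv_mem' := by
        rintro x ⟨hx1, a, t, k, hx2, hx3⟩
        have hxr : ∀ z, x • ρ z = ρ z := fun z => by
          rw [hx3 _ (D.rc z), hsr, mul_zero, mul_zero, map_zero, map_zero, add_zero, add_zero]
        refine ⟨fun z => by rw [inv_smul_eq_iff, hx1], a, t, k, fun s => ?_, fun c hc => ?_⟩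
        · rw [inv_smul_eq_iff, smul_add, smul_add, hx1, hxr, hx2]
          have e1 : f s + ρ (a * s) + e (t * s) + ρ (a * s) + e (t * s)
            = f s + ((ρ (a * s) + ρ (a * s)) + (e (t * s) + e (t * s))) := by abel
          rw [e1, h2, h2, add_zero, add_zero]
        · rw [inv_smul_eq_iff, smul_add, smul_add, hx1, hxr, hx3 c hc]
          have e1 : c + e (a * σ c) + ρ (k * σ c) + e (a * σ c) + ρ (k * σ c)
            = c + ((e (a * σ c) + e (a * σ c)) + (ρ (k * σ c) + ρ (k * σ c))) := by abel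
          rw [e1, h2, h2, add_zero, add_zero] }
  have hWr : ∀ x ∈ W, ∀ z, x • ρ z = ρ z := by
    rintro x ⟨hx1, a, t, k, hx2, hx3⟩ z
    rw [hx3 _ (D.rc z), hsr, mul_zero, mul_zero, map_zero, map_zero, add_zero, add_zero]
  have hup : Nat.card W ≤ Nat.card (F × F) := by
    refine card_le_of hno (py.prod (σ.comp pc)) W ?_ ?_ ?_
    · intro x hx y hy
      have hxr := hWr x hx
      have hyr := hWr y hy
      obtain ⟨hx1, a, t, k, hx2, hx3⟩ := hx
      obtain ⟨hy1, a', t', k', hy2, hy3⟩ := hy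
      refine h.ext hf (fun z => ?_) (fun z => ?_) fun c hc => ?_
      · rw [mul_smul, mul_smul, hy1, hx1, hy1]
      · rw [mul_smul, mul_smul, hy2, hx2, smul_add, smul_add, smul_add, smul_add, hx1, hxr, hy1, hyr, hx2, hy2]
        abel
      · rw [mul_smul, mul_smul, hy3 c hc, hx3 c hc, smul_add, smul_add, smul_add, smul_add, hx1, hxr, hy1, hyr,
          hx3 c hc, hy3 c hc]
        abel
    · intro x hx
      have hxr := hWr x hx
      obtain ⟨hx1, a, t, k, hx2, hx3⟩ := hx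
      refine h.ext hf (fun z => ?_) (fun s => ?_) fun c hc => ?_
      · rw [mul_smul, hx1, hx1, one_smul]
      · rw [mul_smul, hx2, smul_add, smul_add, hx1, hxr, hx2, one_smul]
        have e1 : f s + ρ (a * s) + e (t * s) + ρ (a * s) + e (t * s)
          = f s + ((ρ (a * s) + ρ (a * s)) + (e (t * s) + e (t * s))) := by abel
        rw [e1, h2, h2, add_zero, add_zero]
      · rw [mul_smul, hx3 c hc, smul_add, smul_add, hx1, hxr, hx3 c hc, one_smul]
        have e1 : c + e (a * σ c) + ρ (k * σ c) + e (a * σ c) + ρ (k * σ c)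
          = c + ((e (a * σ c) + e (a * σ c)) + (ρ (k * σ c) + ρ (k * σ c))) := by abel
        rw [e1, h2, h2, add_zero, add_zero]
    · rintro x ⟨hx1, a, t, k, hx2, hx3⟩ v hv0
      have hv1 : py v = 0 := congrArg Prod.fst hv0
      have hv2 : σ (pc v) = 0 := congrArg Prod.snd hv0
      conv_lhs => rw [hv v]
      rw [hv1, map_zero, add_zero, smul_add, hx1, hx3 _ (hpc v), hv2, mul_zero, mul_zero, map_zero, map_zero,
        add_zero, add_zero]
      conv_rhs => rw [hv v]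
      rw [hv1, map_zero, add_zero]
  -- elements of `Gam`
  have hex : ∀ p : F × F, ∃ x : X, (∀ z, x • e z = e z) ∧ (∀ s, x • f s = f s + ρ (p.1 * s) + e (p.2 * s)) ∧
      ∀ c ∈ C, x • c = c + e (p.1 * σ c) + ρ (0 * σ c) := by
    rintro ⟨a, t⟩
    obtain ⟨x, Dx⟩ := h.dat_mul h2 D a
    refine ⟨up t * x, fun z => ?_, fun s => ?_, fun c hc => ?_⟩
    · rw [mul_smul, Dx.ee, h.up_e]
    · rw [mul_smul, Dx.ff, map_zero, add_zero, smul_add, h.up_f, h.up_c _ _ (Dx.rc s)]
      show f s + e (t * s) + ρ (a * s) = f s + ρ (a * s) + e (t * s)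
      abel
    · rw [mul_smul, Dx.cc c hc, smul_add, h.up_c _ c hc, h.up_e, zero_mul, map_zero, add_zero]
      rfl
  choose m hm1 hm2 hm3 using hex
  have hinj : Function.Injective (fun p : F × F => (⟨m p, hm1 p, p.1, p.2, 0, hm2 p, hm3 p⟩ : W)) := by
    intro p p' hpp
    have e1 : m p = m p' := congrArg Subtype.val hpp
    have e2 := hm3 p c1 hc1
    rw [e1, hm3 p' c1 hc1, zero_mul, map_zero, add_zero, add_zero] at e2
    have e3 : e (p'.1 * σ c1) + f 0 + c1 = e (p.1 * σ c1) + f 0 + c1 := by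
      rw [map_zero, add_zero, add_zero, add_comm _ c1, add_comm _ c1, e2]
    obtain ⟨e5, -, -⟩ := h.uniq hc1 hc1 e3
    have e6 : p.1 = p'.1 := mul_right_cancel₀ hs e5.symm
    have e7 := hm2 p 1
    rw [e1, hm2 p' 1, e6, mul_one, mul_one, mul_one] at e7
    have e8 : e p'.2 + f 0 + 0 = e p.2 + f 0 + 0 := by rw [add_left_cancel e7]
    obtain ⟨e9, -, -⟩ := h.uniq C.zero_mem C.zero_mem e8
    exact Prod.ext e6 e9.symm
  have hbij := hinj.bijective_of_nat_card_le hup
  -- the element `y_k`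
  set k : F := s1 / σ c1 with hk
  obtain ⟨x2, Dx⟩ := h.dat_mul h2 D k
  have w1 : ∀ z, (wt up lo 1)⁻¹ • e z = f z := fun z => by
    rw [inv_smul_eq_iff, h.wt_f h2 one_ne_zero, one_mul]
  have w2 : ∀ z, (wt up lo 1)⁻¹ • f z = e z := fun z => by
    rw [inv_smul_eq_iff, h.wt_e h2 one_ne_zero, inv_one, one_mul]
  have w3 : ∀ c ∈ C, (wt up lo 1)⁻¹ • c = c := fun c hc => by rw [inv_smul_eq_iff, h.wt_c _ hc]
  have gr : ∀ z, g • ρ z = ρ z := fun z => by rw [D.cc _ (D.rc z), hsr, map_zero, add_zero]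
  have gf : ∀ s, g • f s = f s + ρ s := fun s => by rw [D.ff, map_zero, add_zero]
  -- `X₁₂ = g * (w x₂ w⁻¹)`
  set Y : X := g * (wt up lo 1 * x2 * (wt up lo 1)⁻¹) with hY
  have Ye : ∀ z, Y • e z = e z + ρ (k * z) := by
    intro z
    have e1 : x2 • f z = f z + ρ (k * z) := by
      rw [Dx.ff, map_zero, add_zero]; rfl
    rw [hY, mul_smul, mul_smul, mul_smul, w1, e1, smul_add, h.wt_f h2 one_ne_zero, one_mul, h.wt_c _ (D.rc _),
      smul_add, D.ee, gr]
  have Yf : ∀ z, Y • f z = f z + ρ z := by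
    intro z
    rw [hY, mul_smul, mul_smul, mul_smul, w2, Dx.ee, h.wt_e h2 one_ne_zero, inv_one, one_mul, gf]
  have Yc : ∀ c ∈ C, Y • c = c + e (σ c) + f (k * σ c) + ρ (k * σ c) := by
    intro c hc
    have e1 : x2 • c = c + e (k * σ c) := by rw [Dx.cc c hc]; rfl
    rw [hY, mul_smul, mul_smul, mul_smul, w3 c hc, e1, smul_add, h.wt_c _ hc, h.wt_e h2 one_ne_zero, inv_one,
      one_mul, smul_add, D.cc c hc, gf]
    abel
  -- `X₃ = lo k * g * lo k`
  set Z : X := lo k * g * lo k with hZ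
  have Ze : ∀ z, Z • e z = e z + ρ (k * z) := by
    intro z
    rw [hZ, mul_smul, mul_smul, h.lo_e, smul_add, D.ee, gf, smul_add, smul_add, h.lo_e, h.lo_f,
      h.lo_c _ _ (D.rc _)]
    have e1 : e z + f (k * z) + (f (k * z) + ρ (k * z)) = e z + ρ (k * z) + (f (k * z) + f (k * z)) := by abel
    rw [e1, h2, add_zero]
  have Zf : ∀ z, Z • f z = f z + ρ z := by
    intro z
    rw [hZ, mul_smul, mul_smul, h.lo_f, gf, smul_add, h.lo_f, h.lo_c _ _ (D.rc _)]
  have Zc : ∀ c ∈ C, Z • c = c + e (σ c) + f (k * σ c) := by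
    intro c hc
    rw [hZ, mul_smul, mul_smul, h.lo_c _ c hc, D.cc c hc, smul_add, h.lo_c _ c hc, h.lo_e]
    abel
  set y : X := Y * Z⁻¹ with hy
  have yZ : ∀ v : V, y • (Z • v) = Y • v := fun v => by rw [hy, mul_smul, inv_smul_smul]
  have yr : ∀ z, y • ρ z = ρ z := by
    intro z
    have e1 := yZ (ρ z)
    rw [Zc _ (D.rc z), Yc _ (D.rc z), hsr, mul_zero, map_zero, map_zero, map_zero, add_zero, add_zero,
      add_zero] at e1
    exact e1
  have ye : ∀ z, y • e z = e z := by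
    intro z
    have e1 := yZ (e z)
    rw [Ze, Ye, smul_add, yr] at e1
    exact add_right_cancel e1
  have yf : ∀ z, y • f z = f z := by
    intro z
    have e1 := yZ (f z)
    rw [Zf, Yf, smul_add, yr] at e1
    exact add_right_cancel e1
  have yc : ∀ c ∈ C, y • c = c + ρ (k * σ c) := by
    intro c hc
    have e1 := yZ c
    rw [Zc c hc, Yc c hc, smul_add, smul_add, ye, yf] at e1
    have e2 : y • c + e (σ c) + f (k * σ c) = (c + ρ (k * σ c)) + e (σ c) + f (k * σ c) := by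
      rw [e1]; abel
    exact add_right_cancel (add_right_cancel e2)
  have hyW : y ∈ W := ⟨ye, 0, 0, k, fun s => by
      rw [yf, zero_mul, map_zero, map_zero, add_zero, add_zero], fun c hc => by
      rw [yc c hc, zero_mul, map_zero, add_zero]⟩
  obtain ⟨p, hp⟩ := hbij.2 ⟨y, hyW⟩
  have e1 : m p = y := congrArg Subtype.val hp
  have e2 := hm3 p c1 hc1
  rw [e1, yc c1 hc1, zero_mul, map_zero, add_zero] at e2
  have e3 : e 0 + f 0 + ρ (k * σ c1) = e (p.1 * σ c1) + f 0 + 0 := by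
    rw [map_zero, map_zero, add_zero, add_zero, add_zero, zero_add]
    exact add_left_cancel e2
  have e4 := (h.uniq (D.rc _) C.zero_mem e3).2.2
  rw [hk, div_mul_cancel₀ _ hs] at e4
  exact hr e4

/-- **`Gam = A`.** -/
theorem Bk.gam (h4 : 4 ≤ Nat.card F) {g : X} (ge : ∀ z, g • e z = e z) (gc : ∀ c ∈ C, ∃ x, g • c = c + e x)
    (gf : ∀ z, ∃ x, ∃ c ∈ C, g • f z = f z + c + e x) : g ∈ rt up := by
  by_contra hg
  obtain ⟨σ, ρ, γ, D⟩ := h.exists_dat ge gc gf
  have hl := h.gam_lin h2 hf hno D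
  have D' : Dat e f C (up (γ 1) * g) σ ρ (fun _ => 0) := by
    refine ⟨fun z => ?_, fun c hc => ?_, fun s => ?_, D.rc⟩
    · rw [mul_smul, D.ee, h.up_e]
    · rw [mul_smul, D.cc c hc, smul_add, h.up_c _ c hc, h.up_e]
    · rw [mul_smul, D.ff, smul_add, smul_add, h.up_f, h.up_c _ _ (D.rc s), h.up_e, hl s, map_zero, add_zero]
      have e1 : f s + e (γ 1 * s) + ρ s + e (γ 1 * s) = f s + ρ s + (e (γ 1 * s) + e (γ 1 * s)) := by abel
      rw [e1, h2, add_zero]
  have hg' : up (γ 1) * g ∉ rt up := fun hm => hg ((Subgroup.mul_mem_cancel_left _ (up_mem _)).1 hm)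
  by_cases hs : ∃ c1 ∈ C, σ c1 ≠ 0
  · obtain ⟨c1, hc1, hs⟩ := hs
    by_cases hr : ∃ s1, ρ s1 ≠ 0
    · obtain ⟨s1, hr⟩ := hr
      exact h.false_rho_ne h2 hf hno D' hr hc1 hs
    · push Not at hr
      exact h.false_rho_zero h2 hf hno h4 D' hr hc1 hs
  · push Not at hs
    refine hg' (h.memK h2 hf hno D'.ee (fun c hc => ?_) fun z => ?_)
    · rw [D'.cc c hc, hs c hc, map_zero, add_zero]
    · refine ⟨0, ρ z, D'.rc z, ?_⟩
      rw [D'.ff, map_zero, add_zero, zero_add]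

end lin

end gam

end Cfsg.Agent.Omega.NOThreeL.RRed.Blk.TypesGam

end

section


/-!
# NO-3L, box R: THEOREM TYPES (helper797, #24779), step (T4), abstract: `N` and `C_V(E)` depend only on the root group

* **`Bk.eq`** : two blocks `Bk e f C up lo` (over `F`), `Bk e' f' C' up' lo'` (over `F'`), `|F|, |F'| ≥ 4`, with the same
  root group `rt up = rt up'`: `C = C'`, `e(F) = e'(F')` and `e(F) + f(F) = e'(F') + f'(F')`.
* `Bk.fxd_rt` : `C_V(A) = e(F) + C`.
* `Bk.conj` : a conjugate of a block is a block.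
* **`Bk.inv`** : an element which normalises the root group normalises `C` and `N`.
-/

set_option autoImplicit false
set_option linter.unusedSectionVars false

namespace Cfsg.Agent.Omega.NOThreeL.RRed.Blk.TypesEq

open Cfsg.Agent.Omega.NOThreeL.RRed.NS (fxd mem_fxd)
open Cfsg.Agent.Omega.NOThreeL.RRed.Blk.TypesGam
open scoped Pointwise

universe u v w w'

variable {X : Type u} {V : Type v} [Group X] [AddCommGroup V] [DistribMulAction X V]

section one

variable {F : Type w} [Field F] {e f : F →+ V} {C : AddSubgroup V} {up lo : F → X}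
variable (h : Bk e f C up lo) (h2 : ∀ v : V, v + v = 0) (hf : ∀ x : X, (∀ v : V, x • v = v) → x = 1)
include h

/-- `C_V(A) = e(F) + C`, in the form `v ∈ C_V(A) ↔ py v = 0`. -/
theorem _root_.Cfsg.Agent.Omega.NOThreeL.RRed.Blk.TypesGam.Bk.mem_fxd_rt {v : V} :
    v ∈ (fxd (rt up) : AddSubgroup V) ↔ ∃ x, ∃ c ∈ C, v = e x + c := by
  rw [mem_fxd]
  constructor
  · intro hv
    obtain ⟨x, y, c, hc, rfl⟩ := h.dec v
    have e1 := hv _ (up_mem (up := up) 1)
    rw [smul_add, smul_add, h.up_e, h.up_f, h.up_c _ c hc, one_mul] at e1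
    have e2 : e (x + y) + f y + c = e x + f y + c := by
      rw [← e1, map_add]; abel
    have e3 := (h.uniq hc hc e2).1
    have e4 : y = 0 := by
      have : x + y = x + 0 := by rw [e3, add_zero]
      exact add_left_cancel this
    exact ⟨x, c, hc, by rw [e4, map_zero, add_zero]⟩
  · rintro ⟨x, c, hc, rfl⟩ a ha
    have h1 : rt up ≤ MulAction.stabilizer X (e x + c) := by
      refine (Subgroup.closure_le _).2 ?_
      rintro _ ⟨t, rfl⟩
      refine MulAction.mem_stabilizer_iff.2 ?_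
      rw [smul_add, h.up_e, h.up_c _ c hc]
    exact MulAction.mem_stabilizer_iff.1 (h1 ha)

theorem _root_.Cfsg.Agent.Omega.NOThreeL.RRed.Blk.TypesGam.Bk.tor_v (h2 : ∀ v : V, v + v = 0) (t : F) {c : F}
    (hc0 : c ≠ 0) (x y : F) {d : V} (hd : d ∈ C) :
    (up t * hh up lo c) • (e x + f y + d) = e (c * x + t * (c⁻¹ * y)) + f (c⁻¹ * y) + d := by
  have e1 : hh up lo c • (e x + f y + d) = e (c * x) + f (c⁻¹ * y) + d := by
    rw [smul_add, smul_add, h.hh_e h2 hc0, h.hh_f h2 hc0, h.hh_c c hd]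
  rw [mul_smul, e1, smul_add, smul_add, h.up_e, h.up_f, h.up_c _ d hd, map_add]
  abel

/-- the elements `up t * hh c`, `c ≠ 0, 1`: fixed points and commutator -/
theorem _root_.Cfsg.Agent.Omega.NOThreeL.RRed.Blk.TypesGam.Bk.fix_tor (h2 : ∀ v : V, v + v = 0) (t : F) {c : F}
    (hc0 : c ≠ 0) (hc1 : c ≠ 1) (v : V) : (up t * hh up lo c) • v = v ↔ v ∈ C := by
  constructor
  · intro hv
    obtain ⟨x, y, d, hd, rfl⟩ := h.dec v
    rw [h.tor_v h2 t hc0 x y hd] at hv
    obtain ⟨e3, e4, -⟩ := h.uniq hd hd hv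
    have hy : y = 0 := by
      by_contra hy
      apply hc1
      have e5 := mul_right_cancel₀ hy (e4.trans (one_mul y).symm)
      exact inv_eq_one.1 e5
    subst hy
    rw [mul_zero, mul_zero, add_zero] at e3
    have hx : x = 0 := by
      by_contra hx
      exact hc1 (mul_right_cancel₀ hx (e3.trans (one_mul x).symm))
    subst hx
    rw [map_zero, map_zero, add_zero, zero_add]
    exact hd
  · intro hv
    rw [mul_smul, h.hh_c c hv, h.up_c _ v hv]

theorem _root_.Cfsg.Agent.Omega.NOThreeL.RRed.Blk.TypesGam.Bk.comm_tor (h2 : ∀ v : V, v + v = 0) (t : F) {c : F}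
    (hc0 : c ≠ 0) (hc1 : c ≠ 1) (v : V) :
    (∃ w, (up t * hh up lo c) • w + w = v) ↔ v ∈ e.range ⊔ f.range := by
  have key : ∀ x y d, d ∈ C → (up t * hh up lo c) • (e x + f y + d) + (e x + f y + d)
      = e ((c + 1) * x + t * (c⁻¹ * y)) + f ((c⁻¹ + 1) * y) := by
    intro x y d hd
    rw [h.tor_v h2 t hc0 x y hd]
    have e1 : e (c * x + t * (c⁻¹ * y)) + f (c⁻¹ * y) + d + (e x + f y + d)
        = (e (c * x + t * (c⁻¹ * y)) + e x) + (f (c⁻¹ * y) + f y) + (d + d) := by abel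
    rw [e1, h2, add_zero, add_mul, add_mul, one_mul, one_mul, ← map_add, ← map_add]
    congr 2
    ring
  rw [AddSubgroup.mem_sup]
  constructor
  · rintro ⟨w, rfl⟩
    obtain ⟨x, y, d, hd, rfl⟩ := h.dec w
    rw [key x y d hd]
    exact ⟨_, ⟨_, rfl⟩, _, ⟨_, rfl⟩, rfl⟩
  · rintro ⟨_, ⟨a, rfl⟩, _, ⟨b, rfl⟩, rfl⟩
    have two := h.two h2
    have k1 : c + 1 ≠ 0 := by
      intro hk
      apply hc1
      have : c + 1 = 1 + 1 := by rw [hk, two]
      exact add_right_cancel this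
    have k2 : c⁻¹ + 1 ≠ 0 := by
      intro hk
      apply hc1
      have : c⁻¹ + 1 = 1 + 1 := by rw [hk, two]
      exact inv_eq_one.1 (add_right_cancel this)
    refine ⟨e ((c + 1)⁻¹ * (a + t * (c⁻¹ * ((c⁻¹ + 1)⁻¹ * b)))) + f ((c⁻¹ + 1)⁻¹ * b) + 0, ?_⟩
    rw [key _ _ 0 C.zero_mem, mul_inv_cancel_left₀ k1, mul_inv_cancel_left₀ k2]
    have e1 : a + t * (c⁻¹ * ((c⁻¹ + 1)⁻¹ * b)) + t * (c⁻¹ * ((c⁻¹ + 1)⁻¹ * b)) = a := by
      rw [add_assoc, two, add_zero]
    rw [e1]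

end one

section two

variable {F : Type w} [Field F] {e f : F →+ V} {C : AddSubgroup V} {up lo : F → X}
variable {F' : Type w'} [Field F'] {e' f' : F' →+ V} {C' : AddSubgroup V} {up' lo' : F' → X}

/-- the comparison of the two root groups -/
theorem exists_tau (h : Bk e f C up lo) (h' : Bk e' f' C' up' lo') (h2 : ∀ v : V, v + v = 0)
    (hf : ∀ x : X, (∀ v : V, x • v = v) → x = 1) (hrt : rt up = rt up') :
    ∃ τ : F' → F, (∀ t, up (τ t) = up' t) ∧ (∀ s t, τ (s + t) = τ s + τ t) ∧ Function.Bijective τ := by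
  have h1 : ∀ t' : F', ∃ t, up t = up' t' := fun t' =>
    (h.mem_rt h2 hf).1 (hrt ▸ up_mem (up := up') t')
  choose τ hτ using h1
  refine ⟨τ, hτ, fun s t => ?_, ?_, ?_⟩
  · apply h.up_inj
    rw [hτ, ← h.up_add hf, hτ, hτ, h'.up_add hf]
  · intro s t e1
    apply h'.up_inj
    rw [← hτ, e1, hτ]
  · intro t
    obtain ⟨s, hs⟩ := (h'.mem_rt h2 hf).1 (hrt ▸ up_mem (up := up) t)
    exact ⟨s, h.up_inj (by rw [hτ, hs])⟩

/-- The comparison data: `e'(x) = e(τ x · b)`, `py (f' y) = τ y · b / τ 1`, `τ(t y) τ 1 = τ t τ y`. -/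
theorem exists_cmp (h : Bk e f C up lo) (h' : Bk e' f' C' up' lo') (h2 : ∀ v : V, v + v = 0)
    (hf : ∀ x : X, (∀ v : V, x • v = v) → x = 1) (hrt : rt up = rt up') :
    ∃ (θ : F' →+* F) (a b : F), a ≠ 0 ∧ b ≠ 0 ∧ Function.Bijective θ ∧ (∀ t, up (a * θ t) = up' t) ∧
      (∀ x, e' x = e (a * θ x * b)) ∧ (∀ y, ∃ x, ∃ c ∈ C, f' y = e x + f (θ y * b) + c) := by
  obtain ⟨τ, hτ, hadd, hbij⟩ := exists_tau h h' h2 hf hrt
  have h1 : ∀ y, ∃ b x, ∃ c ∈ C, f' y = e x + f b + c := fun y => by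
    obtain ⟨x, b, c, hc, e1⟩ := h.dec (f' y)
    exact ⟨b, x, c, hc, e1⟩
  choose ψ px pc hpc hψ using h1
  -- `e'(t y) = e (τ t ψ y)`
  have k1 : ∀ t y, e' (t * y) = e (τ t * ψ y) := by
    intro t y
    have e1 := h'.up_f t y
    rw [← hτ, hψ y, smul_add, smul_add, h.up_e, h.up_f, h.up_c _ _ (hpc y)] at e1
    have e2 : e (px y) + f (ψ y) + pc y + e (τ t * ψ y) = e (px y) + f (ψ y) + pc y + e' (t * y) := by
      rw [← e1]; abel
    exact (add_left_cancel e2).symm
  have inj : ∀ x y, e x = e y → x = y := by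
    intro x y e1
    have e2 : e x + f 0 + 0 = e y + f 0 + 0 := by rw [e1]
    exact (h.uniq C.zero_mem C.zero_mem e2).1
  have inj' : ∀ x y, e' x = e' y → x = y := by
    intro x y e1
    have e2 : e' x + f' 0 + 0 = e' y + f' 0 + 0 := by rw [e1]
    exact (h'.uniq C'.zero_mem C'.zero_mem e2).1
  have k2 : ∀ t y, τ (t * y) * ψ 1 = τ t * ψ y := by
    intro t y
    apply inj
    rw [← k1, ← k1, mul_one]
  have τ0 : τ 0 = 0 := by
    have := hadd 0 0
    rw [add_zero] at this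
    exact (left_eq_add.1 this)
  have ha : τ 1 ≠ 0 := by
    intro h0
    exact one_ne_zero (hbij.1 (h0.trans τ0.symm))
  have hb : ψ 1 ≠ 0 := by
    intro h0
    have e1 := k1 1 1
    rw [h0, mul_zero, map_zero, mul_one] at e1
    exact one_ne_zero (inj' 1 0 (by rw [e1, map_zero]))
  have k3 : ∀ y, τ y * ψ 1 = τ 1 * ψ y := fun y => by
    have := k2 1 y
    rwa [one_mul] at this
  have k4 : ∀ t y, τ (t * y) * τ 1 = τ t * τ y := by
    intro t y
    apply mul_right_cancel₀ hb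
    calc τ (t * y) * τ 1 * ψ 1 = τ (t * y) * ψ 1 * τ 1 := by ring
      _ = τ t * ψ y * τ 1 := by rw [k2]
      _ = τ t * (τ 1 * ψ y) := by ring
      _ = τ t * (τ y * ψ 1) := by rw [k3]
      _ = τ t * τ y * ψ 1 := by ring
  let θ : F' →+* F :=
    { toFun := fun t => (τ 1)⁻¹ * τ t
      map_one' := inv_mul_cancel₀ ha
      map_mul' := fun s t => by
        change (τ 1)⁻¹ * τ (s * t) = (τ 1)⁻¹ * τ s * ((τ 1)⁻¹ * τ t)
        apply mul_right_cancel₀ ha
        calc (τ 1)⁻¹ * τ (s * t) * τ 1 = (τ 1)⁻¹ * (τ (s * t) * τ 1) := by ring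
          _ = (τ 1)⁻¹ * (τ s * τ t) := by rw [k4]
          _ = (τ 1)⁻¹ * τ s * ((τ 1)⁻¹ * τ 1 * τ t) := by rw [inv_mul_cancel₀ ha]; ring
          _ = (τ 1)⁻¹ * τ s * ((τ 1)⁻¹ * τ t) * τ 1 := by ring
      map_zero' := by
        change (τ 1)⁻¹ * τ 0 = 0
        rw [τ0, mul_zero]
      map_add' := fun s t => by
        change (τ 1)⁻¹ * τ (s + t) = (τ 1)⁻¹ * τ s + (τ 1)⁻¹ * τ t
        rw [hadd, mul_add] }
  have hθ : ∀ t, τ 1 * θ t = τ t := fun t => mul_inv_cancel_left₀ ha (τ t)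
  refine ⟨θ, τ 1, ψ 1, ha, hb, ⟨θ.injective, fun x => ?_⟩, fun t => ?_, fun x => ?_, fun y => ?_⟩
  · obtain ⟨t, ht⟩ := hbij.2 (τ 1 * x)
    exact ⟨t, mul_left_cancel₀ ha (by rw [hθ, ht])⟩
  · rw [hθ, hτ]
  · have := k1 x 1
    rw [mul_one] at this
    rw [this, hθ]
  · have e1 : ψ y = θ y * ψ 1 := by
      apply mul_left_cancel₀ ha
      rw [← k3, ← mul_assoc, hθ]
    exact ⟨px y, pc y, hpc y, by rw [← e1]; exact hψ y⟩

variable [Finite F] [Finite V] [Finite X]

/-- The torus elements of the two blocks agree modulo the root group. -/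
theorem exists_tor (h : Bk e f C up lo) (h' : Bk e' f' C' up' lo') (h2 : ∀ v : V, v + v = 0)
    (hf : ∀ x : X, (∀ v : V, x • v = v) → x = 1) (hno : NO X V) (h4 : 4 ≤ Nat.card F) (hrt : rt up = rt up')
    {θ : F' →+* F} {a b : F} (ha : a ≠ 0) (hb : b ≠ 0) (hbij : Function.Bijective θ)
    (he : ∀ x, e' x = e (a * θ x * b)) (hff : ∀ y, ∃ x, ∃ c ∈ C, f' y = e x + f (θ y * b) + c) {c : F'} (hc : c ≠ 0) :
    ∃ t, hh up' lo' c = up t * hh up lo (θ c) := by
  have hθ : θ c ≠ 0 := (map_ne_zero θ).2 hc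
  have fx : ∀ {v}, (∃ x, ∃ d ∈ C, v = e x + d) ↔ ∃ x, ∃ d ∈ C', v = e' x + d := fun {v} => by
    rw [← h.mem_fxd_rt, ← h'.mem_fxd_rt, hrt]
  -- `C`
  have k1 : ∀ d ∈ C, ∃ x, hh up' lo' c • d = d + e x := by
    intro d hd
    obtain ⟨x, d', hd', e1⟩ := (fx (v := d)).1 ⟨0, d, hd, by rw [map_zero, zero_add]⟩
    refine ⟨a * θ (c * x + x) * b, ?_⟩
    rw [← he]
    conv_lhs => rw [e1]
    rw [smul_add, h'.hh_e h2 hc, h'.hh_c c hd', e1, map_add]
    have e2 : e' x + d' + (e' (c * x) + e' x) = e' (c * x) + d' + (e' x + e' x) := by abel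
    rw [e2, h2, add_zero]
  -- `e`
  have k2 : ∀ x, hh up' lo' c • e x = e (θ c * x) := by
    intro x
    obtain ⟨x', hx'⟩ := hbij.2 (a⁻¹ * (x * b⁻¹))
    have e1 : a * θ x' * b = x := by
      rw [hx', mul_inv_cancel_left₀ ha, inv_mul_cancel_right₀ hb]
    rw [← e1, ← he, h'.hh_e h2 hc, he, map_mul θ]
    congr 1; ring
  -- `f`
  have k3 : ∀ z, ∃ x, ∃ d ∈ C, hh up' lo' c • f z = f ((θ c)⁻¹ * z) + d + e x := by
    intro z
    obtain ⟨x, y, d, hd, e1⟩ := h'.dec (f z)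
    obtain ⟨x1, d1, hd1, e2⟩ := hff y
    obtain ⟨x2, d2, hd2, e3⟩ := (fx (v := d)).2 ⟨0, d, hd, by rw [map_zero, zero_add]⟩
    have e4 : θ y * b = z := by
      have e5 : e (a * θ x * b + x1 + x2) + f (θ y * b) + (d1 + d2) = e 0 + f z + 0 := by
        rw [map_zero, zero_add, add_zero, e1, he, e2, e3, map_add, map_add]; abel
      exact (h.uniq (C.add_mem hd1 hd2) C.zero_mem e5).2.1
    obtain ⟨x3, d3, hd3, e6⟩ := hff (c⁻¹ * y)
    refine ⟨a * θ (c * x) * b + x3 + x2, d3 + d2, C.add_mem hd3 hd2, ?_⟩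
    rw [e1, smul_add, smul_add, h'.hh_e h2 hc, h'.hh_f h2 hc, h'.hh_c c hd, he, e6, e3, ← e4, map_mul θ c⁻¹ y,
      map_inv₀ θ c, map_add, map_add, mul_assoc (θ c)⁻¹ (θ y) b]
    abel
  have k4 : hh up' lo' c * (hh up lo (θ c))⁻¹ ∈ rt up := by
    refine h.gam h2 hf hno h4 (fun z => ?_) (fun d hd => ?_) fun z => ?_
    · rw [mul_smul, h.hhi_e h2 hθ, k2, mul_inv_cancel_left₀ hθ]
    · rw [mul_smul, h.hhi_c _ hd]; exact k1 d hd
    · rw [mul_smul, h.hhi_f h2 hθ]
      obtain ⟨x, d, hd, e1⟩ := k3 (θ c * z)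
      rw [inv_mul_cancel_left₀ hθ] at e1
      exact ⟨x, d, hd, e1⟩
  obtain ⟨t, ht⟩ := (h.mem_rt h2 hf).1 k4
  exact ⟨t, by rw [ht, inv_mul_cancel_right]⟩

/-- **(T4).** The block and its complement depend only on the root group. -/
theorem _root_.Cfsg.Agent.Omega.NOThreeL.RRed.Blk.TypesGam.Bk.eq (h : Bk e f C up lo) (h' : Bk e' f' C' up' lo')
    (h2 : ∀ v : V, v + v = 0) (hf : ∀ x : X, (∀ v : V, x • v = v) → x = 1) (hno : NO X V) (h4 : 4 ≤ Nat.card F)
    (hrt : rt up = rt up') : C = C' ∧ e.range = e'.range ∧ e.range ⊔ f.range = e'.range ⊔ f'.range := by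
  obtain ⟨θ, a, b, ha, hb, hbij, hup, he, hff⟩ := exists_cmp h h' h2 hf hrt
  have h1 : ∃ c0 : F, c0 ≠ 0 ∧ c0 ≠ 1 := by
    by_contra hcon
    push Not at hcon
    have h3 : Nat.card F ≤ 2 := by
      have : (Set.univ : Set F) ⊆ {0, 1} := fun x _ => by
        by_cases hx : x = 0
        · exact Or.inl hx
        · exact Or.inr (hcon x hx)
      calc Nat.card F = Set.ncard (Set.univ : Set F) := (Set.ncard_univ F).symm
        _ ≤ Set.ncard ({0, 1} : Set F) := Set.ncard_le_ncard this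
        _ ≤ 2 := by
          have := Set.ncard_insert_le (0 : F) {1}
          rwa [Set.ncard_singleton] at this
    omega
  obtain ⟨c0, hc0, hc1⟩ := h1
  obtain ⟨c, rfl⟩ := hbij.2 c0
  have hc0' : c ≠ 0 := by rintro rfl; exact hc0 (map_zero θ)
  have hc1' : c ≠ 1 := by rintro rfl; exact hc1 (map_one θ)
  obtain ⟨t, ht⟩ := exists_tor h h' h2 hf hno h4 hrt ha hb hbij he hff hc0'
  have e0 : up' 0 * hh up' lo' c = up t * hh up lo (θ c) := by
    rw [h'.up_zero hf, one_mul, ht]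
  refine ⟨?_, ?_, ?_⟩
  · ext v
    rw [← h.fix_tor h2 t hc0 hc1, ← h'.fix_tor h2 0 hc0' hc1', e0]
  · ext v
    constructor
    · rintro ⟨x, rfl⟩
      obtain ⟨x', hx'⟩ := hbij.2 (a⁻¹ * (x * b⁻¹))
      refine ⟨x', ?_⟩
      rw [he, hx', mul_inv_cancel_left₀ ha, inv_mul_cancel_right₀ hb]
    · rintro ⟨x, rfl⟩
      exact ⟨_, (he x).symm⟩
  · ext v
    rw [← h.comm_tor h2 t hc0 hc1, ← h'.comm_tor h2 0 hc0' hc1', e0]

end two

section conj

variable {F : Type w} [Field F] {e f : F →+ V} {C : AddSubgroup V} {up lo : F → X}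

/-- a conjugate of a block -/
theorem _root_.Cfsg.Agent.Omega.NOThreeL.RRed.Blk.TypesGam.Bk.conj (h : Bk e f C up lo) (g : X) :
    Bk ((DistribSMul.toAddMonoidHom V g).comp e) ((DistribSMul.toAddMonoidHom V g).comp f)
      (C.map (DistribSMul.toAddMonoidHom V g)) (fun t => g * up t * g⁻¹) (fun t => g * lo t * g⁻¹) where
  dec := by
    intro v
    obtain ⟨x, y, c, hc, e1⟩ := h.dec (g⁻¹ • v)
    refine ⟨x, y, g • c, ⟨c, hc, rfl⟩, ?_⟩
    change v = g • e x + g • f y + g • c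
    rw [← smul_add, ← smul_add, ← e1, smul_inv_smul]
  ind := by
    rintro x y ⟨c, hc, e1⟩
    have e2 : g • c = g • (e x + f y) := by
      rw [smul_add]; exact e1
    rw [smul_left_cancel_iff] at e2
    exact h.ind x y (e2 ▸ hc)
  up_e := fun t x => by
    change (g * up t * g⁻¹) • g • e x = g • e x
    rw [mul_smul, inv_smul_smul, mul_smul, h.up_e]
  up_f := fun t x => by
    change (g * up t * g⁻¹) • g • f x = g • f x + g • e (t * x)
    rw [mul_smul, inv_smul_smul, mul_smul, h.up_f, smul_add]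
  up_c := by
    rintro t _ ⟨c, hc, rfl⟩
    change (g * up t * g⁻¹) • g • c = g • c
    rw [mul_smul, inv_smul_smul, mul_smul, h.up_c t c hc]
  lo_e := fun t x => by
    change (g * lo t * g⁻¹) • g • e x = g • e x + g • f (t * x)
    rw [mul_smul, inv_smul_smul, mul_smul, h.lo_e, smul_add]
  lo_f := fun t x => by
    change (g * lo t * g⁻¹) • g • f x = g • f x
    rw [mul_smul, inv_smul_smul, mul_smul, h.lo_f]
  lo_c := by
    rintro t _ ⟨c, hc, rfl⟩
    change (g * lo t * g⁻¹) • g • c = g • c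
    rw [mul_smul, inv_smul_smul, mul_smul, h.lo_c t c hc]

theorem rt_conj (up : F → X) (g : X) : rt (fun t => g * up t * g⁻¹) = MulAut.conj g • rt up := by
  rw [rt, rt, Subgroup.smul_closure]
  congr 1
  ext x
  constructor
  · rintro ⟨t, rfl⟩
    exact ⟨up t, ⟨t, rfl⟩, rfl⟩
  · rintro ⟨_, ⟨t, rfl⟩, rfl⟩
    exact ⟨t, rfl⟩

/-- **An element which normalises the root group normalises `C` and `N`.** -/
theorem _root_.Cfsg.Agent.Omega.NOThreeL.RRed.Blk.TypesGam.Bk.inv [Finite F] [Finite V] [Finite X]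
    (h : Bk e f C up lo) (h2 : ∀ v : V, v + v = 0) (hf : ∀ x : X, (∀ v : V, x • v = v) → x = 1) (hno : NO X V)
    (h4 : 4 ≤ Nat.card F) {g : X} (hg : MulAut.conj g • rt up = rt up) :
    C.map (DistribSMul.toAddMonoidHom V g) = C ∧
      (e.range ⊔ f.range).map (DistribSMul.toAddMonoidHom V g) = e.range ⊔ f.range := by
  obtain ⟨h1, -, h3⟩ := h.eq (h.conj g) h2 hf hno h4 (by rw [rt_conj, hg])
  refine ⟨h1.symm, ?_⟩
  rw [AddSubgroup.map_sup, h3, AddMonoidHom.range_comp, AddMonoidHom.range_comp]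

end conj

end Cfsg.Agent.Omega.NOThreeL.RRed.Blk.TypesEq

end

section


/-!
# NO-3L, box R: assembly of the natural blocks, definitions (module level)

`X` acts faithfully on the elementary abelian 2-group `V` (written additively).

* `NB D N C` : `D ≤ X` is the root group of a natural `SL₂(F)`-block `N`, `V = N ⊕ C`, `|F| = |D|`;
* `Fam S FF N C` : a family of natural blocks, indexed by their root groups `D ∈ FF`, `D ≤ S`, permuted by `X`;
* `Ac S EE P K EP` : `P` is active: `P ≤ K S`, `K` is generated by the `K`-conjugates of the members of `EP ⊆ EE`, all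
  other members of `EE` centralise `[V, K]`, `C_[V,K](K) = 0`, and the members of `EP` have order at most 3 or they are
  root groups of natural blocks in `[V, K]` which `K` normalises.
-/

set_option autoImplicit false
set_option linter.unusedSectionVars false

namespace Cfsg.Agent.Omega.NOThreeL.RRed.Blk.Asm

open Cfsg.Agent.Omega.NOThreeL.RRed.NS (fxd brk mem_fxd)
open Cfsg.Agent.Omega.NOThreeL.RRed.Blk.TypesGam
open scoped Pointwise

universe u v

variable {X : Type u} {V : Type v} [Group X] [AddCommGroup V] [DistribMulAction X V]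

/-- `D` is the root group of the natural block `N`, `V = N ⊕ C`. -/
structure NB (D : Subgroup X) (N C : AddSubgroup V) : Prop where
  ex : ∃ (F : Type) (_ : Field F) (_ : Finite F) (e f : F →+ V) (up lo : F → X),
    Bk e f C up lo ∧ rt up = D ∧ e.range ⊔ f.range = N

/-- A family of natural blocks, indexed by their root groups. -/
structure Fam (S : Subgroup X) (FF : Set (Subgroup X)) (N C : Subgroup X → AddSubgroup V) : Prop where
  le : ∀ D ∈ FF, D ≤ S
  nb : ∀ D ∈ FF, NB D (N D) (C D)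
  ind : ∀ D ∈ FF, ∀ D' ∈ FF, D' ≠ D → N D' ≤ C D
  perm : ∀ g : X, ∀ D ∈ FF, ∃ D' ∈ FF, Nat.card D' = Nat.card D ∧ ∀ m : V, m ∈ N D ↔ g • m ∈ N D'
  sinv : ∀ s ∈ S, ∀ D ∈ FF, MulAut.conj s • D ∈ FF

/-- `P` is active. -/
structure Ac (S : Subgroup X) (EE : Set (Subgroup X)) (P K : Subgroup X) (EP : Set (Subgroup X)) (V : Type v)
    [AddCommGroup V] [DistribMulAction X V] : Prop where
  gen : P ≤ K ⊔ S
  EPE : EP ⊆ EE
  EPK : ∀ A ∈ EP, A ≤ K
  spl : ∀ m ∈ brk V K, m ∈ (fxd K : AddSubgroup V) → m = 0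
  dich : ∀ A ∈ EE, A ∈ EP ∨ ∀ a ∈ A, ∀ m ∈ brk V K, a • m = m
  genK : K ≤ Subgroup.closure {x | ∃ g ∈ K, ∃ A ∈ EP, ∃ a ∈ A, x = g * a * g⁻¹}
  typ : (∀ A ∈ EP, Nat.card A ≤ 3) ∨ ∀ A ∈ EP, 4 ≤ Nat.card A ∧ ∃ N C : AddSubgroup V, NB A N C ∧ N ≤ brk V K ∧
    (∀ k ∈ K, ∀ m ∈ N, k • m ∈ N) ∧ ∀ A' ∈ EP, A' ≠ A → ∀ a ∈ A', ∀ m ∈ N, a • m = m

/-- The set of minimal exact subgroups (in `S`). -/
structure Es (S : Subgroup X) (EE : Set (Subgroup X)) (V : Type v) [AddCommGroup V] [DistribMulAction X V] : Prop where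
  le : ∀ A ∈ EE, A ≤ S
  el : ∀ A ∈ EE, Types.El A
  exact : ∀ A ∈ EE, Nat.card V ≤ Nat.card A * Nat.card (fxd A : AddSubgroup V)
  quad : ∀ A ∈ EE, brk V A ≤ (fxd A : AddSubgroup V)
  nS : ∀ s ∈ S, ∀ A ∈ EE, MulAut.conj s • A ∈ EE

end Cfsg.Agent.Omega.NOThreeL.RRed.Blk.Asm

end

section


/-!
# NO-3L, box R: THEOREM TYPES (helper797, #24779), (T4) for `|F| ≥ 8`: `E = ⟨up, lo⟩` depends only on the root group

* `clo up lo` = the group generated by the root elements (`SL₂(F)`).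
* **`Bk.clo_eq`** : two blocks with the same root group, `4 < |F|`: `clo up lo = clo up' lo'`.
* **`Bk.clo_inv`** : an element which normalises the root group normalises `clo up lo`.

For `|F| = 4` this is false: the group `⟨E, E'⟩` may be `A₆` or `A₇` on `N` (order `2⁴`).
-/

set_option autoImplicit false
set_option linter.unusedSectionVars false

namespace Cfsg.Agent.Omega.NOThreeL.RRed.Blk.TypesClo

open Cfsg.Agent.Omega.NOThreeL.RRed.NS (fxd mem_fxd)
open Cfsg.Agent.Omega.NOThreeL.RRed.Blk.TypesGam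
open Cfsg.Agent.Omega.NOThreeL.RRed.Blk.TypesEq
open scoped Pointwise

universe u v w w'

/-- the group generated by the root elements -/
def clo {X : Type u} [Group X] {F : Type w} (up lo : F → X) : Subgroup X :=
  Subgroup.closure (Set.range up ∪ Set.range lo)

theorem up_mem_clo {X : Type u} [Group X] {F : Type w} (up lo : F → X) (t : F) : up t ∈ clo up lo :=
  Subgroup.subset_closure (Or.inl ⟨t, rfl⟩)

theorem lo_mem_clo {X : Type u} [Group X] {F : Type w} (up lo : F → X) (t : F) : lo t ∈ clo up lo :=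
  Subgroup.subset_closure (Or.inr ⟨t, rfl⟩)

/-- The field computation: an additive `γ` with `γ (c⁻¹ z) = c γ z + z γ c` vanishes if `|F| > 4`. -/
theorem cocycle {F : Type w} [Field F] [Finite F] (two : ∀ x : F, x + x = 0) (h8 : 4 < Nat.card F) {γ : F → F}
    (hadd : ∀ x y, γ (x + y) = γ x + γ y) (hγ : ∀ c z, c ≠ 0 → γ (c⁻¹ * z) = c * γ z + z * γ c) (z : F) : γ z = 0 := by
  have h0 : γ 0 = 0 := by
    have := hadd 0 0
    rw [add_zero] at this
    exact left_eq_add.1 this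
  have h1 : γ 1 = 0 := by
    have := hγ 1 1 one_ne_zero
    rw [inv_one, one_mul, one_mul] at this
    rw [two] at this
    exact this
  have hi : ∀ c, c ≠ 0 → γ c⁻¹ = γ c := by
    intro c hc
    have := hγ c 1 hc
    rw [mul_one, one_mul, h1, mul_zero, zero_add] at this
    exact this
  -- `γ (c z) = c⁻¹ γ z + z γ c`
  have k1 : ∀ c z, c ≠ 0 → γ (c * z) = c⁻¹ * γ z + z * γ c := by
    intro c z hc
    have := hγ c⁻¹ z (inv_ne_zero hc)
    rw [inv_inv, hi c hc] at this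
    exact this
  have k2 : ∀ c z, c ≠ 0 → z ≠ 0 → (c + c⁻¹) * γ z = (z + z⁻¹) * γ c := by
    intro c z hc hz
    have e1 := k1 c z hc
    have e2 := k1 z c hz
    rw [mul_comm z c] at e2
    have e3 : c⁻¹ * γ z + z * γ c = z⁻¹ * γ c + c * γ z := by rw [← e1, e2]
    have e4 : (c + c⁻¹) * γ z = c⁻¹ * γ z + z * γ c + z * γ c + c * γ z := by
      rw [add_mul, add_assoc (c⁻¹ * γ z), two, add_zero]; ring
    rw [e4, e3]
    have e5 : z⁻¹ * γ c + c * γ z + z * γ c + c * γ z = (z + z⁻¹) * γ c + (c * γ z + c * γ z) := by ring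
    rw [e5, two, add_zero]
  -- an element outside `0, 1` and the roots of `z² + z + 1`
  have k3 : ∃ c : F, c ≠ 0 ∧ c ≠ 1 ∧ c * c + c + 1 ≠ 0 := by
    by_contra hcon
    push Not at hcon
    let p : Polynomial F := Polynomial.X ^ 2 + Polynomial.X + 1
    have hp : p.natDegree = 2 := by
      have : p.Monic ∧ p.natDegree = 2 := by
        constructor
        · change (Polynomial.X ^ 2 + Polynomial.X + 1 : Polynomial F).Monic
          monicity!
        · change (Polynomial.X ^ 2 + Polynomial.X + 1 : Polynomial F).natDegree = 2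
          compute_degree!
      exact this.2
    have hp0 : p ≠ 0 := by
      intro h
      rw [h, Polynomial.natDegree_zero] at hp
      omega
    classical
    have h3 : (Set.univ : Set F) ⊆ ({0, 1} : Set F) ∪ (p.roots.toFinset : Set F) := by
      intro x _
      by_cases hx : x = 0
      · exact Or.inl (Or.inl hx)
      by_cases hx1 : x = 1
      · exact Or.inl (Or.inr hx1)
      refine Or.inr ?_
      rw [Finset.mem_coe, Multiset.mem_toFinset, Polynomial.mem_roots hp0, Polynomial.IsRoot.def]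
      have := hcon x hx hx1
      change (Polynomial.X ^ 2 + Polynomial.X + 1 : Polynomial F).eval x = 0
      simp only [Polynomial.eval_add, Polynomial.eval_pow, Polynomial.eval_X, Polynomial.eval_one]
      rw [pow_two]; exact this
    have h4 : Nat.card F ≤ 4 := by
      calc Nat.card F = Set.ncard (Set.univ : Set F) := (Set.ncard_univ F).symm
        _ ≤ Set.ncard (({0, 1} : Set F) ∪ (p.roots.toFinset : Set F)) := Set.ncard_le_ncard h3
        _ ≤ Set.ncard ({0, 1} : Set F) + Set.ncard (p.roots.toFinset : Set F) := Set.ncard_union_le _ _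
        _ ≤ 2 + 2 := by
          refine Nat.add_le_add ?_ ?_
          · have := Set.ncard_insert_le (0 : F) {1}
            rwa [Set.ncard_singleton] at this
          · rw [Set.ncard_coe_finset]
            exact (Multiset.toFinset_card_le _).trans ((Polynomial.card_roots' p).trans hp.le)
    omega
  obtain ⟨c, hc0, hc1, hc2⟩ := k3
  have k4 : c + 1 ≠ 0 := by
    intro h
    apply hc1
    have : c + 1 = 1 + 1 := by rw [h, two]
    exact add_right_cancel this
  have k5 : c + c⁻¹ ≠ 0 := by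
    intro h
    have e1 : (c + 1) * (c + 1) = c * (c + c⁻¹) + (c + c) := by
      field_simp
      ring
    rw [h, mul_zero, zero_add, two] at e1
    exact k4 (mul_self_eq_zero.1 e1)
  -- `γ c = 0`
  have k6 : γ c = 0 := by
    by_contra hn
    have e1 := k2 c (c + 1) hc0 k4
    rw [hadd, h1, add_zero] at e1
    have e2 := mul_right_cancel₀ hn e1
    apply hc2
    have e3 : c * (c + 1) * (c + c⁻¹) = c * (c + 1) * (c + 1 + (c + 1)⁻¹) := by rw [e2]
    have e4 : c * (c + 1) * (c + c⁻¹) = (c + 1) * (c * c + 1) := by field_simp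
    have e5 : c * (c + 1) * (c + 1 + (c + 1)⁻¹) = c * ((c + 1) * (c + 1) + 1) := by field_simp
    rw [e4, e5] at e3
    have e6 : (c + 1) * (c * c + 1) = c * ((c + 1) * (c + 1) + 1) + (c * c + c + 1) - (c * c + c * c) - (c + c) := by
      ring
    rw [e6, two, two, sub_zero, sub_zero] at e3
    exact (add_eq_left.1 e3)
  by_cases hz : z = 0
  · rw [hz, h0]
  · have e1 := k2 c z hc0 hz
    rw [k6, mul_zero] at e1
    exact (mul_eq_zero.1 e1).resolve_left k5

variable {X : Type u} {V : Type v} [Group X] [AddCommGroup V] [DistribMulAction X V]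
variable {F : Type w} [Field F] {e f : F →+ V} {C : AddSubgroup V} {up lo : F → X}
variable {F' : Type w'} [Field F'] {e' f' : F' →+ V} {C' : AddSubgroup V} {up' lo' : F' → X}
variable [Finite F] [Finite V] [Finite X]

theorem _root_.Cfsg.Agent.Omega.NOThreeL.RRed.Blk.TypesGam.Bk.clo_le (h : Bk e f C up lo) (h' : Bk e' f' C' up' lo')
    (h2 : ∀ v : V, v + v = 0) (hf : ∀ x : X, (∀ v : V, x • v = v) → x = 1) (hno : NO X V) (h8 : 4 < Nat.card F)
    (hrt : rt up = rt up') : clo up' lo' ≤ clo up lo := by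
  obtain ⟨hC, -, hN⟩ := h.eq h' h2 hf hno h8.le hrt
  obtain ⟨θ, a, b, ha, hb, hbij, hup, he, hff⟩ := exists_cmp h h' h2 hf hrt
  have two := h.two h2
  -- `f' y = e (α y) + f (θ y b)`
  have k1 : ∀ y, ∃ x, f' y = e x + f (θ y * b) := by
    intro y
    obtain ⟨x, c, hc, e1⟩ := hff y
    refine ⟨x, ?_⟩
    have e2 : f' y ∈ e.range ⊔ f.range := by
      rw [hN]; exact AddSubgroup.mem_sup_right ⟨y, rfl⟩
    obtain ⟨_, ⟨x1, rfl⟩, _, ⟨y1, rfl⟩, e3⟩ := AddSubgroup.mem_sup.1 e2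
    have e4 : e x + f (θ y * b) + c = e x1 + f y1 + 0 := by rw [← e1, ← e3, add_zero]
    have e5 := (h.uniq hc C.zero_mem e4).2.2
    rw [e1, e5, add_zero]
  choose α hα using k1
  have αadd : ∀ x y, α (x + y) = α x + α y := by
    intro x y
    have e1 : e (α (x + y)) + f (θ (x + y) * b) + 0 = e (α x + α y) + f (θ x * b + θ y * b) + 0 := by
      rw [← hα, map_add f', hα x, hα y, map_add e, map_add f]; abel
    exact (h.uniq C.zero_mem C.zero_mem e1).1
  -- the torus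
  have k2 : ∀ c : F', c ≠ 0 → ∃ t, ∀ y, α (c⁻¹ * y) = θ c * α y + t * ((θ c)⁻¹ * (θ y * b)) := by
    intro c hc
    obtain ⟨t, ht⟩ := exists_tor h h' h2 hf hno h8.le hrt ha hb hbij he hff hc
    refine ⟨t, fun y => ?_⟩
    have hθ : θ c ≠ 0 := (map_ne_zero θ).2 hc
    have e1 := h'.hh_f h2 hc y
    rw [ht, hα, hα] at e1
    have e2 := h.tor_v h2 t hθ (α y) (θ y * b) C.zero_mem
    rw [add_zero, e1] at e2
    have e3 : e (α (c⁻¹ * y)) + f (θ (c⁻¹ * y) * b) + 0
        = e (θ c * α y + t * ((θ c)⁻¹ * (θ y * b))) + f ((θ c)⁻¹ * (θ y * b)) + 0 := by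
      rw [add_zero]; exact e2
    exact (h.uniq C.zero_mem C.zero_mem e3).1
  let φ := Equiv.ofBijective θ hbij
  have hφ : ∀ x, θ (φ.symm x) = x := fun x => φ.apply_symm_apply x
  have hφ' : ∀ x y, φ.symm (x + y) = φ.symm x + φ.symm y := by
    intro x y
    apply hbij.1
    rw [hφ, map_add θ, hφ, hφ]
  have hφm : ∀ x y, φ.symm (x * y) = φ.symm x * φ.symm y := by
    intro x y
    apply hbij.1
    rw [hφ, map_mul θ, hφ, hφ]
  have hφi : ∀ x, φ.symm x⁻¹ = (φ.symm x)⁻¹ := by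
    intro x
    apply hbij.1
    rw [hφ, map_inv₀ θ, hφ]
  have hφ1 : φ.symm 1 = 1 := by
    apply hbij.1
    rw [hφ, map_one θ]
  -- `γ z = β z + β 1 z`
  have k3 : ∀ z, α (φ.symm z) + α 1 * z = 0 := by
    refine cocycle two h8 (γ := fun z => α (φ.symm z) + α 1 * z) (fun x y => ?_) fun c z hc => ?_
    · rw [hφ', αadd]; ring
    · have hc' : φ.symm c ≠ 0 := by
        intro h0
        apply hc
        rw [← hφ c, h0, map_zero]
      obtain ⟨t, ht⟩ := k2 (φ.symm c) hc'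
      have e1 := ht (φ.symm z)
      have e2 := ht (φ.symm c)
      rw [hφ, hφ] at e1
      rw [inv_mul_cancel₀ hc', hφ, inv_mul_cancel_left₀ hc] at e2
      -- `t b = α 1 + c β c`
      have e3 : t * b = α 1 + c * α (φ.symm c) := by
        rw [e2]
        have : c * α (φ.symm c) + t * b + c * α (φ.symm c) = t * b + (c * α (φ.symm c) + c * α (φ.symm c)) := by ring
        rw [this, two, add_zero]
      have e4 : t * (c⁻¹ * (z * b)) = c⁻¹ * z * (t * b) := by ring
      rw [hφm, hφi, e1, e4, e3]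
      have e5 : c * α (φ.symm z) + c⁻¹ * z * (α 1 + c * α (φ.symm c)) + α 1 * (c⁻¹ * z)
          = c * α (φ.symm z) + (c⁻¹ * c) * (z * α (φ.symm c)) + (c⁻¹ * z * α 1 + c⁻¹ * z * α 1) := by ring
      have e6 : c * (α (φ.symm z) + α 1 * z) + z * (α (φ.symm c) + α 1 * c)
          = c * α (φ.symm z) + z * α (φ.symm c) + (c * z * α 1 + c * z * α 1) := by ring
      rw [e5, e6, two, two, inv_mul_cancel₀ hc, one_mul]
  have k4 : ∀ y, α y = α 1 * θ y := by
    intro y
    have e1 := k3 (θ y)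
    have e2 : φ.symm (θ y) = y := φ.symm_apply_apply y
    rw [e2] at e1
    have e3 : α y + α 1 * θ y = α 1 * θ y + α 1 * θ y := by rw [e1, two]
    exact add_right_cancel e3
  -- `lo' t = up s * lo r * (up s)⁻¹`
  have k5 : ∀ y, f' y = up (α 1 * b⁻¹) • f (θ y * b) := by
    intro y
    rw [h.up_f, hα, k4]
    have : α 1 * b⁻¹ * (θ y * b) = α 1 * θ y := by
      field_simp
    rw [this]; abel
  have k6 : ∀ t, lo' t = up (α 1 * b⁻¹) * lo (a⁻¹ * θ t) * (up (α 1 * b⁻¹))⁻¹ := by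
    intro t
    refine h'.ext hf (fun x => ?_) (fun y => ?_) fun c hc => ?_
    · have e1 : (up (α 1 * b⁻¹))⁻¹ • e (a * θ x * b) = e (a * θ x * b) := by
        rw [inv_smul_eq_iff, h.up_e]
      rw [h'.lo_e, mul_smul, mul_smul, he, e1, h.lo_e, smul_add, h.up_e, k5, map_mul θ]
      congr 3
      field_simp
    · rw [h'.lo_f, k5, mul_smul, mul_smul, inv_smul_smul, h.lo_f]
    · have hc' : c ∈ C := hC ▸ hc
      have e1 : (up (α 1 * b⁻¹))⁻¹ • c = c := by
        rw [inv_smul_eq_iff, h.up_c _ c hc']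
      rw [h'.lo_c _ c hc, mul_smul, mul_smul, e1, h.lo_c _ c hc', h.up_c _ c hc']
  refine (Subgroup.closure_le _).2 ?_
  rintro x (⟨t, rfl⟩ | ⟨t, rfl⟩)
  · rw [← hup]; exact up_mem_clo up lo _
  · rw [k6]
    exact mul_mem (mul_mem (up_mem_clo up lo _) (lo_mem_clo up lo _)) (inv_mem (up_mem_clo up lo _))

/-- **(T4), `|F| ≥ 8`.** `E` depends only on the root group. -/
theorem _root_.Cfsg.Agent.Omega.NOThreeL.RRed.Blk.TypesGam.Bk.clo_eq (h : Bk e f C up lo) (h' : Bk e' f' C' up' lo')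
    (h2 : ∀ v : V, v + v = 0) (hf : ∀ x : X, (∀ v : V, x • v = v) → x = 1) (hno : NO X V) (h8 : 4 < Nat.card F)
    (hrt : rt up = rt up') : clo up lo = clo up' lo' := by
  obtain ⟨θ, a, b, ha, hb, hbij, -⟩ := exists_cmp h h' h2 hf hrt
  have : Finite F' := Finite.of_injective θ hbij.1
  have hc : Nat.card F' = Nat.card F := Nat.card_congr (Equiv.ofBijective θ hbij)
  exact le_antisymm (h'.clo_le h h2 hf hno (hc ▸ h8) hrt.symm) (h.clo_le h' h2 hf hno h8 hrt)

theorem clo_conj (up lo : F → X) (g : X) :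
    clo (fun t => g * up t * g⁻¹) (fun t => g * lo t * g⁻¹) = MulAut.conj g • clo up lo := by
  rw [clo, clo, Subgroup.smul_closure, Set.smul_set_union]
  congr 2
  · ext x
    constructor
    · rintro ⟨t, rfl⟩
      exact ⟨up t, ⟨t, rfl⟩, rfl⟩
    · rintro ⟨_, ⟨t, rfl⟩, rfl⟩
      exact ⟨t, rfl⟩
  · ext x
    constructor
    · rintro ⟨t, rfl⟩
      exact ⟨lo t, ⟨t, rfl⟩, rfl⟩
    · rintro ⟨_, ⟨t, rfl⟩, rfl⟩
      exact ⟨t, rfl⟩

/-- **`|F| ≥ 8`: an element which normalises the root group normalises `E`.** -/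
theorem _root_.Cfsg.Agent.Omega.NOThreeL.RRed.Blk.TypesGam.Bk.clo_inv (h : Bk e f C up lo)
    (h2 : ∀ v : V, v + v = 0) (hf : ∀ x : X, (∀ v : V, x • v = v) → x = 1) (hno : NO X V) (h8 : 4 < Nat.card F)
    {g : X} (hg : MulAut.conj g • rt up = rt up) : MulAut.conj g • clo up lo = clo up lo := by
  rw [← clo_conj]
  exact (h.clo_eq (h.conj g) h2 hf hno h8 (by rw [rt_conj, hg])).symm

end Cfsg.Agent.Omega.NOThreeL.RRed.Blk.TypesClo

end
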