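import Cfsg.Agent.Mrg.Omega.NOThreeL.RRed.NS.Blk
import Cfsg.Agent.PLocal.OffenderStep
import Cfsg.Agent.Mrg.Omega.NO3S.ThmB.SymM

section


/-!
# THEOREM NS (#24102), part (2)

Two natural parabolics `P`, `P'` over `S`: `M : NatKM F S P V D k`, `M' : NatKM F' S P' V' D' k'`, `V, V' ≤ U`, coordinates
`C j : Cd M j (l j) (g j)`, `C' j'`.

* `fix_rad` : `P` fixes the `S`-fixed elements of `D`;
* `iSup_LL` : `x ∈ ⨆ LL_j`, `e x = 0` ⟹ `x = 1`;
* `exists_comp` : `1 ≠ x ∈ ⨆ DD M j` has a component `y ≠ 1` in some `DD M b`: `x = y r`, `r ∈ ⨆_{c ≠ b} DD M c`;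
* `YY_inj` : `YY h b = YY h c` ⟹ `b = c`; `card_blkN` : `|blk M j| = |F|² |DD M j|`;
* `Swap` : the conclusion: members of `EE` move `V` iff they move `V'`, `|DD M j| = |F| = |F'|`, `DD M' j' = LL_j`,
  `LL'_j' = DD M j`, `J = ⟨A ∈ EE : A ≤ C(V)⟩` is normalised by `P` and `P'`;
* **`two`** : if `P'` moves some `S`-fixed `x ∈ ⨆ DD M j`, then `Swap`.
-/

set_option autoImplicit false
set_option linter.unusedSectionVars false

namespace Cfsg.Agent.Omega.NOThreeL.RRed.NS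

open Subgroup Cfsg Cfsg.Agent.ZN Cfsg.Agent.ZN.ChoiceBase
open Cfsg.Agent.Omega.FFThm Cfsg.Agent.Lib.SL2Mat
open Cfsg.Agent.Omega.NatPair (ap)
open Cfsg.Agent.Omega.NO3S.ThmB Cfsg.Agent.Omega.NO3S.KeyRad

universe u

variable {G : Type u} [Group G]

section first

variable {F : Type} [Field F] {S P V D U : Subgroup G} {k : ℕ} {M : NatKM F S P V D k} (h : Nb M)

/-- `P` fixes the `S`-fixed elements of `D` -/
theorem fix_rad (M : NatKM F S P V D k) {x : G} (hx : x ∈ D) (hxS : ∀ s ∈ S, s * x = x * s) : ∀ y ∈ P, y * x = x * y := by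
  intro y hy
  refine mem_centralizer_singleton_iff.1 (M.gen (centralizer ({x} : Set G)) (fun s hs => ?_) (fun c _ A hA => ?_) hy)
  · rw [mem_centralizer_singleton_iff]
    exact hxS s hs
  · rw [mem_centralizer_singleton_iff]
    exact hA.2 x hx

include h

/-- an element fixed by `P` is in `D` -/
theorem mem_D_of_fix [CharP F 2] {x : G} (hx : x ∈ V) (hxP : ∀ y ∈ P, y * x = x * y) : x ∈ D := by
  rw [← M.ker x hx]
  funext i
  obtain ⟨c, hc, hcA⟩ := M.lift (sg i (up 1))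
  obtain ⟨c', hc', hcA'⟩ := M.lift (sg i (lo 1))
  have h1 := hcA.1 x hx i
  have h2 := hcA'.1 x hx i
  have e1 : c * x * c⁻¹ = x := by rw [hxP c hc]; group
  have e2 : c' * x * c'⁻¹ = x := by rw [hxP c' hc']; group
  rw [e1, sg_self] at h1
  rw [e2, sg_self] at h2
  have h3 := congrFun h1 0
  have h4 := congrFun h2 1
  rw [ap_up_0, one_mul] at h3
  rw [ap_lo_1, one_mul] at h4
  refine vec_eq ?_ ?_
  · exact right_eq_add.1 h4
  · exact left_eq_add.1 h3

theorem iSup_blk_e [CharP F 2] {s : Finset (Fin k)} {a : Fin k} (ha : a ∉ s) {W : Fin k → Subgroup G}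
    (hW : ∀ j, W j ≤ blk M j) {r : G} (hr : r ∈ ⨆ j ∈ s, W j) : r ∈ V ∧ M.e r a = 0 := by
  let K : Subgroup G :=
    { carrier := {r | r ∈ V ∧ M.e r a = 0}
      one_mem' := ⟨one_mem _, by rw [Nb.e_one (M := M)]; rfl⟩
      mul_mem' := by
        rintro x y ⟨hx, hx0⟩ ⟨hy, hy0⟩
        exact ⟨mul_mem hx hy, by rw [M.mul x hx y hy, Pi.add_apply, hx0, hy0, add_zero]⟩
      inv_mem' := by
        rintro x ⟨hx, hx0⟩
        exact ⟨inv_mem hx, by rw [h.e_inv hx, hx0]⟩ }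
  have h1 : (⨆ j ∈ s, W j) ≤ K := by
    refine iSup₂_le fun j hj w hw => ⟨blk_le h j (hW j hw), e_blk h (fun e => ha (by rw [e]; exact hj)) (hW j hw)⟩
  exact h1 hr

theorem iSup_insert_mem [CharP F 2] {s : Finset (Fin k)} {a : Fin k} {W : Fin k → Subgroup G}
    (hW : ∀ j, W j ≤ blk M j) {x : G} [DecidableEq (Fin k)] (hx : x ∈ ⨆ j ∈ insert a s, W j) :
    ∃ y ∈ W a, ∃ r ∈ ⨆ j ∈ s, W j, x = y * r := by
  rw [Finset.iSup_insert] at hx
  have hc : W a ≤ normalizer ((⨆ j ∈ s, W j : Subgroup G) : Set G) := by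
    intro y hy
    have h1 : y ∈ centralizer ((⨆ j ∈ s, W j : Subgroup G) : Set G) := mem_centralizer_iff.2 fun r hr => by
      have h2 : (⨆ j ∈ s, W j) ≤ V := iSup₂_le fun j _ => (hW j).trans (blk_le h j)
      exact h.cm (h2 hr) (blk_le h a (hW a hy))
    exact centralizer_le_normalizer _ h1
  have h1 : x ∈ ((W a ⊔ ⨆ j ∈ s, W j : Subgroup G) : Set G) := hx
  rw [coe_mul_of_left_le_normalizer_right _ _ hc] at h1
  obtain ⟨y, hy, r, hr, e⟩ := h1
  exact ⟨y, hy, r, hr, e.symm⟩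

/-- the root lines `LL_j` are independent -/
theorem iSup_LL [CharP F 2] {l g : Fin k → F → G} (C : ∀ j, Cd M j (l j) (g j)) {x : G}
    (hx : x ∈ ⨆ j, (C j).LL h) (h0 : M.e x = 0) : x = 1 := by
  classical
  have key : ∀ s : Finset (Fin k), ∀ x ∈ ⨆ j ∈ s, (C j).LL h, M.e x = 0 → x = 1 := by
    intro s
    induction s using Finset.induction_on with
    | empty =>
      intro x hx _
      simpa using hx
    | insert a s ha ih =>
      intro x hx h0
      have hW : ∀ j, (C j).LL h ≤ blk M j := fun j => ((C j).LL_le h).trans (YY_le h j)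
      obtain ⟨y, ⟨t, rfl⟩, r, hr, rfl⟩ := iSup_insert_mem h hW hx
      obtain ⟨hrV, hra⟩ := iSup_blk_e h ha hW hr
      have h1 := congrFun h0 a
      rw [M.mul _ ((C a).lV h t) _ hrV, Pi.add_apply, hra, add_zero, (C a).le] at h1
      have h2 : t = 0 := congrFun h1 0
      rw [h2, (C a).l_zero, one_mul] at h0 ⊢
      exact ih r hr h0
  refine key Finset.univ x ?_ h0
  simpa using hx

/-- a component -/
theorem exists_comp [CharP F 2] {x : G} (hx : x ∈ ⨆ j, DD M j) (hx1 : x ≠ 1) :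
    ∃ b, ∃ y ∈ DD M b, y ≠ 1 ∧ ∃ r ∈ ⨆ c : {c // c ≠ b}, DD M c, x = y * r := by
  classical
  have key : ∀ s : Finset (Fin k), ∀ x ∈ ⨆ j ∈ s, DD M j, x ≠ 1 →
      ∃ b, ∃ y ∈ DD M b, y ≠ 1 ∧ ∃ r ∈ ⨆ c : {c // c ≠ b}, DD M c, x = y * r := by
    intro s
    induction s using Finset.induction_on with
    | empty =>
      intro x hx h0
      exact absurd (by simpa using hx) h0
    | insert a s ha ih =>
      intro x hx hx1
      have hW : ∀ j, DD M j ≤ blk M j := fun j => inf_le_left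
      obtain ⟨y, hy, r, hr, rfl⟩ := iSup_insert_mem h hW hx
      by_cases hy1 : y = 1
      · rw [hy1, one_mul] at hx1 ⊢
        exact ih r hr hx1
      · refine ⟨a, y, hy, hy1, r, ?_, rfl⟩
        have h1 : (⨆ j ∈ s, DD M j) ≤ ⨆ c : {c // c ≠ a}, DD M c :=
          iSup₂_le fun j hj => le_iSup (fun c : {c // c ≠ a} => DD M c.1) ⟨j, fun e => ha (by rw [← e]; exact hj)⟩
        exact h1 hr
  refine key Finset.univ x ?_ hx1
  simpa using hx

theorem YY_inj [CharP F 2] {b c : Fin k} {l g : F → G} (C : Cd M b l g) (hbc : YY h b = YY h c) : b = c := by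
  by_contra hne
  have h1 : l 1 ∈ YY h c := hbc ▸ C.lY h 1
  have h2 := e_blk h hne h1.1
  rw [C.le] at h2
  exact one_ne_zero (congrFun h2 0)

/-- `|blk M j| = |F|² |DD M j|` -/
theorem card_blkN [Finite G] [CharP F 2] (j : Fin k) : Nat.card (blk M j) = Nat.card F ^ 2 * Nat.card (DD M j) := by
  let _ : CommGroup (blk M j) :=
    { (inferInstance : Group (blk M j)) with
      mul_comm := fun a b => Subtype.ext (h.cm (blk_le h j a.2) (blk_le h j b.2)) }
  let f : blk M j →* Multiplicative (Fin 2 → F) :=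
    { toFun := fun m => Multiplicative.ofAdd (M.e m j)
      map_one' := by
        change Multiplicative.ofAdd (M.e 1 j) = 1
        rw [Nb.e_one (M := M)]; rfl
      map_mul' := fun x y => by
        change Multiplicative.ofAdd (M.e ((x : G) * y) j) = _
        rw [M.mul _ (blk_le h j x.2) _ (blk_le h j y.2)]; rfl }
  have hf : Function.Surjective f := by
    intro x
    obtain ⟨w, hw, hwx⟩ := exists_blk_e h j (Multiplicative.toAdd x)
    exact ⟨⟨w, hw⟩, congrArg Multiplicative.ofAdd hwx⟩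
  have h1 := Subgroup.card_eq_card_quotient_mul_card_subgroup f.ker
  have h2 : Nat.card (blk M j ⧸ f.ker) = Nat.card F ^ 2 := by
    rw [Nat.card_congr (QuotientGroup.quotientKerEquivOfSurjective f hf).toEquiv]
    change Nat.card (Fin 2 → F) = _
    rw [Nat.card_fun, Nat.card_eq_fintype_card (α := Fin 2), Fintype.card_fin]
  have h3 : Nat.card f.ker = Nat.card (DD M j) := by
    refine Nat.card_congr ⟨fun m => ⟨m.1, ?_⟩, fun m => ⟨⟨m.1, m.2.1⟩, ?_⟩, fun _ => rfl, fun _ => rfl⟩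
    · exact (mem_DD h m.1.2).2 (show M.e m.1 j = 0 from Multiplicative.ofAdd.injective ((MonoidHom.mem_ker).1 m.2))
    · rw [MonoidHom.mem_ker]
      change Multiplicative.ofAdd (M.e m.1 j) = 1
      rw [(mem_DD h m.2.1).1 m.2]; rfl
  rw [h1, h2, h3]

end first

section second

variable {F F' : Type} [Field F] [Field F'] {S P P' V V' D D' U : Subgroup G} {k k' : ℕ}

/-- The members of `EE` which centralise `V`. -/
def EJ (S U V : Subgroup G) : Set (Subgroup G) := {A | A ≤ S ∧ Tt U A ∧ A ≤ centralizer (V : Set G)}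

/-- The conclusion of (2). -/
structure Swap (M : NatKM F S P V D k) (M' : NatKM F' S P' V' D' k') (h : Nb M) (h' : Nb M') (U : Subgroup G)
    [CharP F 2] [CharP F' 2] {l g : Fin k → F → G} {l' g' : Fin k' → F' → G} (C : ∀ j, Cd M j (l j) (g j))
    (C' : ∀ j, Cd M' j (l' j) (g' j)) : Prop where
  /-- the members of `EE` move `V` iff they move `V'` -/
  iff : ∀ A ≤ S, Tt U A → (A ≤ centralizer (V : Set G) ↔ A ≤ centralizer (V' : Set G))
  ex : ∀ j, ∃ A ≤ S, Tt U A ∧ One M U A j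
  ex' : ∀ j, ∃ A ≤ S, Tt U A ∧ One M' U A j
  card : Nat.card F = Nat.card F'
  swap : ∀ A ≤ S, Tt U A → ∀ j j', One M U A j → One M' U A j' →
    YY h j = YY h' j' ∧ Nat.card (DD M j) = Nat.card F ∧ DD M' j' = (C j).LL h ∧ (C' j').LL h' = DD M j
  nP : P ≤ normalizer ((sSup (EJ S U V) : Subgroup G) : Set G)
  nP' : P' ≤ normalizer ((sSup (EJ S U V) : Subgroup G) : Set G)

variable [Finite G] [Finite F] [Finite F'] [CharP F 2] [CharP F' 2] {M : NatKM F S P V D k}
  {M' : NatKM F' S P' V' D' k'} (h : Nb M) (h' : Nb M') {l g : Fin k → F → G} {l' g' : Fin k' → F' → G}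
  (C : ∀ j, Cd M j (l j) (g j)) (C' : ∀ j, Cd M' j (l' j) (g' j))

omit [Finite F'] [CharP F' 2] [Finite F] [CharP F 2] in
theorem EJ_norm (gd : Gd S P U V) : P ≤ normalizer ((sSup (EJ S U V) : Subgroup G) : Set G) := by
  refine norm_sSup fun A hA g hg => ⟨gd.PS A hA.1 hA.2.2 g hg, hA.2.1.cj (gd.UN hg), ?_⟩
  rw [cj_le_iff, cj_centralizer, cj_eq_of_mem_normalizer (inv_mem (gd.VN hg))]
  exact hA.2.2

include h h' C C' in
/-- **(2)** -/
theorem two (hS : IsPGroup 2 S) (hF : 2 < Nat.card F) (gd : Gd S P U V) (gd' : Gd S P' U V') {A₀ : Subgroup G}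
    (hA₀S : A₀ ≤ S) (t₀ : Tt U A₀) (hne₀ : ¬ A₀ ≤ centralizer (V : Set G)) {A' : Subgroup G} (hA'S : A' ≤ S)
    (t' : Tt U A') (hne' : ¬ A' ≤ centralizer (V' : Set G)) {x : G} (hx : x ∈ ⨆ j, DD M j)
    (hxS : ∀ s ∈ S, s * x = x * s) {y : G} (hy : y ∈ P') (hyx : y * x ≠ x * y) : Swap M M' h h' U C C' := by
  have hU2 := gd.U2
  have hVU := gd.VU
  have hVU' := gd'.VU
  -- (1)
  have mv : ∀ A ≤ S, Tt U A → ¬ A ≤ centralizer (V : Set G) → ¬ A ≤ centralizer (V' : Set G) := fun A hA t hne =>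
    gd'.moves h hF hVU gd.UN hA'S t' hne' hx hxS hy hyx hA t hne
  have sw0 : ∀ A ≤ S, Tt U A → ∀ j j', One M U A j → One M' U A j' →
      Nat.card F = Nat.card F' ∧ YY h j = YY h' j' ∧ Nat.card (DD M j) = Nat.card F ∧ DD M' j' = (C j).LL h ∧
        (C' j').LL h' = DD M j := by
    intro A hA t j j' O O'
    obtain ⟨hc, hY, -, hD⟩ := compare h h' (C j) (C' j') O O' (hA.trans h.SP') (hA.trans h'.SP') hVU hVU' hF
    rcases hD with hD | ⟨h1, h2, h3⟩
    · exfalso
      have hF' : 2 < Nat.card F' := hc ▸ hF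
      have h1 : (⨆ j, DD M j) ≤ ⨆ j, DD M' j := by
        refine iSup_le fun i => ?_
        obtain ⟨s, hs, hsS, ts, Os⟩ := exists_cj h hU2 hVU gd.UN hA t O i
        obtain ⟨i', Os'⟩ := ts.one h' hU2 hVU' hsS (mv _ hsS ts (not_le_of_one Os))
        rw [← DD_conj h hF hVU gd.UN hA O hs Os, hD, DD_conj h' hF' hVU' gd'.UN hA O' hs Os']
        exact le_iSup (DD M') i'
      have h2 : (⨆ j, DD M' j) ≤ D' := iSup_le fun i => inf_le_right
      exact hyx (fix_rad M' (h2 (h1 hx)) hxS y hy)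
    · exact ⟨hc, hY, h1, h2, h3⟩
  obtain ⟨i₀, O₀⟩ := t₀.one h hU2 hVU hA₀S hne₀
  obtain ⟨i₀', O₀'⟩ := t₀.one h' hU2 hVU' hA₀S (mv _ hA₀S t₀ hne₀)
  obtain ⟨hc, -, hq, -, -⟩ := sw0 A₀ hA₀S t₀ i₀ i₀' O₀ O₀'
  have hF' : 2 < Nat.card F' := hc ▸ hF
  -- the blocks of `P'`
  have hbl : ∀ j', ∃ s ∈ S, cj s A₀ ≤ S ∧ Tt U (cj s A₀) ∧ One M' U (cj s A₀) j' ∧ ∃ j, One M U (cj s A₀) j := by
    intro j'
    obtain ⟨s, hs, hsS, ts, Os⟩ := exists_cj h' hU2 hVU' gd'.UN hA₀S t₀ O₀' j'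
    have h3 : ¬ cj s A₀ ≤ centralizer (V : Set G) := by
      intro h4
      rw [cj_le_iff, cj_centralizer, cj_eq_of_mem_normalizer (inv_mem (gd.VN (gd.SP hs)))] at h4
      exact hne₀ h4
    exact ⟨s, hs, hsS, ts, Os, ts.one h hU2 hVU hsS h3⟩
  -- a fixed vector of `P'`
  obtain ⟨x', hx', hx'1, hx'S⟩ : ∃ x' ∈ ⨆ j, DD M' j, x' ≠ 1 ∧ ∀ s ∈ S, s * x' = x' * s := by
    have hf : Fact (Nat.Prime 2) := ⟨Nat.prime_two⟩
    have hW2 : IsPGroup 2 ((⨆ j, DD M' j : Subgroup G)) :=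
      (PLocal.ThompsonJ.isPGroup_of_isElementaryAbelian hU2).to_le
        (iSup_le fun j => (inf_le_left : DD M' j ≤ blk M' j).trans ((blk_le h' j).trans hVU'))
    have hWn : S ≤ normalizer ((⨆ j, DD M' j : Subgroup G) : Set G) := by
      intro s hs
      refine mem_normalizer_of_cj_le ?_
      rw [cj_le_iff]
      refine iSup_le fun j' => ?_
      obtain ⟨s₁, hs₁, hsS, ts, Os, -⟩ := hbl j'
      have h1 : cj s (cj s₁ A₀) ≤ S := by
        have := cj_mono s hsS
        rwa [cj_eq_of_mem_normalizer (le_normalizer hs)] at this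
      have h2 : Tt U (cj s (cj s₁ A₀)) := ts.cj (gd'.UN (gd'.SP hs))
      have h3 : ¬ cj s (cj s₁ A₀) ≤ centralizer (V' : Set G) := by
        intro h4
        rw [cj_le_iff, cj_centralizer, cj_eq_of_mem_normalizer (inv_mem (gd'.VN (gd'.SP hs)))] at h4
        exact not_le_of_one Os h4
      obtain ⟨j'', O''⟩ := h2.one h' hU2 hVU' h1 h3
      have h5 := DD_conj h' hF' hVU' gd'.UN hsS Os hs O''
      rw [← cj_le_iff, h5]
      exact le_iSup (DD M') j''
    have hne : (⨆ j, DD M' j : Subgroup G) ≠ ⊥ := by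
      intro h0
      have h1 : DD M' i₀' ≤ ⊥ := h0 ▸ le_iSup (DD M') i₀'
      have h2 := (sw0 A₀ hA₀S t₀ i₀ i₀' O₀ O₀').2.2.2.1
      have h3 := (C i₀).card_LL h
      rw [← h2, le_bot_iff.1 h1, Subgroup.card_bot] at h3
      omega
    have h1 := PLocal.OffenderStep.inf_centralizer_ne_bot _ S hW2 hS hWn hne
    obtain ⟨c, hc1⟩ := Subgroup.ne_bot_iff_exists_ne_one.1 h1
    exact ⟨c, c.2.1, fun h0 => hc1 (Subtype.ext h0), mem_centralizer_iff.1 c.2.2⟩
  have hx'V : x' ∈ ⨆ j, (C j).LL h := by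
    have h1 : (⨆ j, DD M' j) ≤ ⨆ j, (C j).LL h := by
      refine iSup_le fun j' => ?_
      obtain ⟨s₁, hs₁, hsS, ts, Os, j, Oj⟩ := hbl j'
      rw [(sw0 _ hsS ts j j' Oj Os).2.2.2.1]
      exact le_iSup (fun j => (C j).LL h) j
    exact h1 hx'
  have hVx' : x' ∈ V := (iSup_le fun j => ((C j).LL_le h).trans (YY_le_V h j) : (⨆ j, (C j).LL h) ≤ V) hx'V
  obtain ⟨y', hy', hyx'⟩ : ∃ y' ∈ P, y' * x' ≠ x' * y' := by
    by_contra hcon
    push Not at hcon
    have h1 := mem_D_of_fix h hVx' hcon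
    exact hx'1 (iSup_LL h C hx'V ((M.ker x' hVx').2 h1))
  have mv' : ∀ A ≤ S, Tt U A → ¬ A ≤ centralizer (V' : Set G) → ¬ A ≤ centralizer (V : Set G) := fun A hA t hne =>
    gd.moves h' hF' hVU' gd'.UN hA₀S t₀ hne₀ hx' hx'S hy' hyx' hA t hne
  have hiff : ∀ A ≤ S, Tt U A → (A ≤ centralizer (V : Set G) ↔ A ≤ centralizer (V' : Set G)) := fun A hA t =>
    ⟨fun h1 => by_contra fun h2 => mv' A hA t h2 h1, fun h1 => by_contra fun h2 => mv A hA t h2 h1⟩
  have hEJ : EJ S U V = EJ S U V' := by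
    ext A
    exact ⟨fun hA => ⟨hA.1, hA.2.1, (hiff A hA.1 hA.2.1).1 hA.2.2⟩, fun hA => ⟨hA.1, hA.2.1, (hiff A hA.1 hA.2.1).2 hA.2.2⟩⟩
  exact
    { iff := hiff
      ex := fun j => by
        obtain ⟨s, _, h1, h2, h3⟩ := exists_cj h hU2 hVU gd.UN hA₀S t₀ O₀ j
        exact ⟨_, h1, h2, h3⟩
      ex' := fun j => by
        obtain ⟨s, _, h1, h2, h3⟩ := exists_cj h' hU2 hVU' gd'.UN hA₀S t₀ O₀' j
        exact ⟨_, h1, h2, h3⟩
      card := hc
      swap := fun A hA t j j' O O' => (sw0 A hA t j j' O O').2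
      nP := EJ_norm gd
      nP' := by
        rw [hEJ]
        exact EJ_norm gd' }

end second

end Cfsg.Agent.Omega.NOThreeL.RRed.NS

end

section


/-!
# THEOREM NS (#24102), part (E): the symmetric type

* `Tt.oneS` (copy of `ThmB.Sb.one`): a smallest best offender on `U`, which moves the symmetric module `V ≤ U`, acts as one
  transposition;
* `One.not_oneS` : it does not act as a full root group over `F`, `|F| > 2`, elsewhere.
-/

set_option autoImplicit false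
set_option linter.unusedSectionVars false

namespace Cfsg.Agent.Omega.NOThreeL.RRed.NS

open Subgroup Cfsg Cfsg.Agent.ZN Cfsg.Agent.ZN.ChoiceBase
open Cfsg.Agent.Omega.FFThm Cfsg.Agent.Omega.NatPair Cfsg.Agent.Lib.SL2Mat
open Cfsg.Agent.Omega.NO3S.ThmB Cfsg.Agent.Omega.NO3S.ThmB.Sb

universe u

section sym

variable {G : Type u} [Group G] {S P' V D : Subgroup G} {k m : ℕ} {M : SymKM S P' V D k m}

/-- the elements of an offender -/
theorem off_elem' [Finite G] {B : Subgroup G} (hBS : B ≤ S) (ho : OffM V B) {g : G} (hg : g ∈ B) :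
    ∃ τ : Fin k → Equiv.Perm (Fin (2 ^ m + 1)), Ac M g τ ∧ (∀ i, τ i 0 = 0) ∧
      ∀ i x, τ i x ≠ x → τ i (τ i x) = x ∧ ∃ b ∈ B, Ac M b (pr i x (τ i x)) := by
  obtain ⟨h1, h2⟩ := M.offM B hBS ho
  obtain ⟨τ, hτ, hτ'⟩ := h2 g hg
  refine ⟨τ, ⟨hτ, h1 g hg⟩, M.fix0 g (hBS hg) 1 τ hτ, fun i x hx => ?_⟩
  obtain ⟨h3, b, hb, hbA⟩ := hτ' i x hx
  exact ⟨h3, b, hb, hbA, h1 b hb⟩

variable (h : Sb M)
include h

/-- an element of an offender preserves the transpositions of `S` -/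
theorem keep' [Finite G] {B : Subgroup G} (hBS : B ≤ S) {τ : Fin k → Equiv.Perm (Fin (2 ^ m + 1))}
    (hτ : ∀ i x, τ i x ≠ x → τ i (τ i x) = x ∧ ∃ b ∈ B, Ac M b (pr i x (τ i x)))
    {t : G} (ht : t ∈ S) {i : Fin k} {x y : Fin (2 ^ m + 1)} (hxy : x ≠ y) (htA : ActsSym M.e V t 1 (pr i x y)) :
    (τ i x = x ∧ τ i y = y) ∨ (τ i x = y ∧ τ i y = x) := by
  have hx : τ i x = x ∨ τ i x = y := by
    by_cases hx : τ i x = x
    · exact Or.inl hx
    · obtain ⟨-, b, hb, hbA⟩ := hτ i x hx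
      exact Or.inr (h.disj ht (hBS hb) (Ne.symm hxy) hx htA hbA.1).symm
  have hy : τ i y = y ∨ τ i y = x := by
    by_cases hy : τ i y = y
    · exact Or.inl hy
    · obtain ⟨-, b, hb, hbA⟩ := hτ i y hy
      have htA' : ActsSym M.e V t 1 (pr i y x) := by rwa [pr, Equiv.swap_comm] at htA
      exact Or.inr (h.disj ht (hBS hb) hxy hy htA' hbA.1).symm
  rcases hx with hx | hx <;> rcases hy with hy | hy
  · exact Or.inl ⟨hx, hy⟩
  · exact absurd ((τ i).injective (hx.trans hy.symm)) hxy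
  · exact absurd ((τ i).injective (hx.trans hy.symm)) hxy
  · exact Or.inr ⟨hx, hy⟩

/-- **(E), symmetric type** (copy of `Sb.one`) -/
theorem Tt.oneS [Finite G] {U A : Subgroup G} (tt : Tt U A) (hU2 : IsElementaryAbelian 2 U) (hVU : V ≤ U)
    (hAS : A ≤ S) (hnc : ¬ A ≤ centralizer (V : Set G)) : ∃ i x y t n0, OneS M U A i x y t n0 := by
  have hAP : A ≤ P' := hAS.trans h.SP'
  -- a transposition
  obtain ⟨i, x, y, t, hxy, hx0, hy0, htA, htt⟩ : ∃ i x y, ∃ t, x ≠ y ∧ x ≠ 0 ∧ y ≠ 0 ∧ t ∈ A ∧ Ac M t (pr i x y) := by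
    by_contra hne
    push Not at hne
    refine hnc fun a ha => mem_centralizer_iff.2 fun v hv => ?_
    obtain ⟨τ, hτ, h0, hτ'⟩ := off_elem' hAS (tt.offM hU2 hVU hnc) ha
    have h1 : τ = 1 := by
      funext i
      ext1 x
      by_contra hx
      have hx' : τ i x ≠ x := hx
      obtain ⟨-, b, hb, hbA⟩ := hτ' i x hx'
      have hx0 : x ≠ 0 := fun e => hx' (by rw [e, h0])
      have hy0 : τ i x ≠ 0 := fun e => hx0 ((τ i).injective (by rw [e, h0]))
      exact hne i x (τ i x) b (Ne.symm hx') hx0 hy0 hb hbA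
    rw [h1] at hτ
    exact (h.comm_of_one (hAP ha) hτ hv).symm
  obtain ⟨n0, hn, hne, hfix⟩ := h.nx (i := i) hxy hx0 hy0
  have htP := hAP htA
  have hpx : pr i x y i x = y := by rw [pr, sg_self, Equiv.swap_apply_left]
  have hpy : pr i x y i y = x := by rw [pr, sg_self, Equiv.swap_apply_right]
  have hp0 : pr i x y i 0 = 0 := by
    rw [pr, sg_self, Equiv.swap_apply_of_ne_of_ne (Ne.symm hx0) (Ne.symm hy0)]
  have htn : M.e (t * n0 * t⁻¹) = dl i y + dl i 0 := by rw [e_pair htt.1 hn hne, hpx, hp0]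
  have htn' : t * n0 * t⁻¹ ≠ n0 := fun e => by
    rw [e, hne] at htn
    have h1 := congrFun (congrFun htn i) x
    rw [Pi.add_apply, Pi.add_apply, Pi.add_apply, Pi.add_apply, dl_self, dl_ne i hx0, dl_ne i hxy] at h1
    simp at h1
  -- `C_V(A)`
  have hcen : ∀ v ∈ V, (∀ a ∈ A, a * v = v * a) → M.e v i x = M.e v i y := fun v hv hc => by
    have h1 := htt.1 v hv i x
    have h2 : t * v * t⁻¹ = v := by rw [hc t htA]; group
    rw [h2, hpx] at h1
    exact h1.symm
  -- every element of `A`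
  have hel : ∀ a ∈ A, a * n0 = n0 * a ∨ (t⁻¹ * a) * n0 = n0 * (t⁻¹ * a) := by
    intro a ha
    obtain ⟨τ, hτ, h0, hτ'⟩ := off_elem' hAS (tt.offM hU2 hVU hnc) ha
    rcases keep' h hAS hτ' (hAS htA) hxy htt.1 with ⟨h1, h2⟩ | ⟨h1, h2⟩
    · exact Or.inl (hfix a (hAP ha) τ hτ h1 h2 (h0 i))
    · right
      have h3 := h.ac_mul (hAP ha) (h.ac_inv htP htt) hτ
      have e : ((pr i x y)⁻¹ * τ) i = Equiv.swap x y * τ i := by
        rw [Pi.mul_apply, Pi.inv_apply, pr, sg_self, Equiv.swap_inv]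
      refine hfix _ (mul_mem (inv_mem htP) (hAP ha)) _ h3 ?_ ?_ ?_
      · rw [e, Equiv.Perm.mul_apply, h1, Equiv.swap_apply_right]
      · rw [e, Equiv.Perm.mul_apply, h2, Equiv.swap_apply_left]
      · rw [e, Equiv.Perm.mul_apply, h0 i, Equiv.swap_apply_of_ne_of_ne (Ne.symm hx0) (Ne.symm hy0)]
  let B : Subgroup G := A ⊓ centralizer ({n0} : Set G)
  have hBmem : ∀ a, a ∈ B ↔ a ∈ A ∧ a * n0 = n0 * a := fun a => by
    rw [mem_inf, mem_centralizer_singleton_iff]
  have hBA : B ≤ A := inf_le_left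
  have h1B : A ⊓ centralizer (U : Set G) ≤ B := fun a ha =>
    (hBmem a).2 ⟨ha.1, (mem_centralizer_iff.1 ha.2 n0 (hVU hn)).symm⟩
  have hBne : B ≠ A := fun e => by
    have h1 : t ∈ B := by rw [e]; exact htA
    exact htn' (by rw [((hBmem t).1 h1).2]; group)
  -- `|A| ≤ 2 |B|`
  have hcA : Nat.card A ≤ 2 * Nat.card B := by
    classical
    have h1 : Nat.card A ≤ Nat.card Bool * Nat.card B := by
      refine card_le_of_map (fun a => decide (a * n0 = n0 * a)) fun a ha a' ha' he => ?_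
      have he' : (a * n0 = n0 * a) ↔ (a' * n0 = n0 * a') := decide_eq_decide.1 he
      refine (hBmem _).2 ⟨mul_mem (inv_mem ha) ha', ?_⟩
      by_cases hc : a * n0 = n0 * a
      · exact ((show Commute a n0 from hc).inv_left).mul_left (he'.1 hc)
      · have h2 : Commute (t⁻¹ * a) n0 := (hel a ha).resolve_left hc
        have h3 : Commute (t⁻¹ * a') n0 := (hel a' ha').resolve_left fun h => hc (he'.2 h)
        have h4 := h2.inv_left.mul_left h3
        have e : (t⁻¹ * a)⁻¹ * (t⁻¹ * a') = a⁻¹ * a' := by group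
        rw [e] at h4
        exact h4
    rwa [Nat.card_eq_fintype_card (α := Bool), Fintype.card_bool] at h1
  -- `2 |C_U(A)| ≤ |C_U(B)|`
  let f : Bool → G := fun b => if b then n0 else 1
  have hfU : ∀ b, f b ∈ U := fun b => by
    cases b
    · exact one_mem _
    · exact hVU hn
  have hinj : ∀ b c b' c', c ∈ U → (∀ a ∈ A, a * c = c * a) → c' ∈ U → (∀ a ∈ A, a * c' = c' * a) →
      f b * c = f b' * c' → b = b' ∧ c = c' := by
    intro b c b' c' hc hca hc' hca' e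
    have key : ∀ c c' : G, (∀ a ∈ A, a * c = c * a) → (∀ a ∈ A, a * c' = c' * a) → n0 * c = c' → False := by
      intro c c' h1 h2 h3
      have h4 : Commute t (n0 * c) := by rw [h3]; exact h2 t htA
      have h5 : Commute t (n0 * c * c⁻¹) := h4.mul_right ((show Commute t c from h1 t htA).inv_right)
      rw [mul_inv_cancel_right] at h5
      exact htn' (by rw [h5.eq]; group)
    cases b <;> cases b'
    · simp only [f] at e
      exact ⟨rfl, by simpa using e⟩
    · simp only [f] at e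
      exact (key c' c hca' hca (by simpa using e.symm)).elim
    · simp only [f] at e
      exact (key c c' hca hca' (by simpa using e)).elim
    · simp only [f] at e
      exact ⟨rfl, by simpa using e⟩
  have hcU : 2 * Nat.card ↥(U ⊓ centralizer (A : Set G)) ≤ Nat.card ↥(U ⊓ centralizer (B : Set G)) := by
    have h2 : (2 : ℕ) = Nat.card Bool := by rw [Nat.card_eq_fintype_card, Fintype.card_bool]
    rw [h2, ← Nat.card_prod]
    refine Nat.card_le_card_of_injective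
      (fun p : Bool × ↥(U ⊓ centralizer (A : Set G)) =>
        (⟨f p.1 * p.2, mul_mem ⟨hfU _, ?_⟩ ?_⟩ : ↥(U ⊓ centralizer (B : Set G)))) fun p q e => ?_
    · refine mem_centralizer_iff.2 fun a ha => ?_
      cases p.1
      · simp [f]
      · simpa [f] using ((hBmem a).1 ha).2
    · exact ⟨p.2.2.1, mem_centralizer_iff.2 fun a ha => mem_centralizer_iff.1 p.2.2.2 a (hBA ha)⟩
    · have h1 := hinj p.1 p.2 q.1 q.2 p.2.2.1 (mem_centralizer_iff.1 p.2.2.2) q.2.2.1
        (mem_centralizer_iff.1 q.2.2.2) (congrArg Subtype.val e)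
      exact Prod.ext h1.1 (Subtype.ext h1.2)
  have hBU : B ≤ centralizer (U : Set G) := by
    refine tt.cut h1B hBA hBne ?_
    calc Nat.card A * Nat.card ↥(U ⊓ centralizer (A : Set G)) ≤
        2 * Nat.card B * Nat.card ↥(U ⊓ centralizer (A : Set G)) := Nat.mul_le_mul_right _ hcA
      _ = Nat.card B * (2 * Nat.card ↥(U ⊓ centralizer (A : Set G))) := by ring
      _ ≤ _ := Nat.mul_le_mul_left _ hcU
  have hUB : U ⊓ centralizer (B : Set G) = U := inf_eq_left.2 (le_centralizer_iff.1 hBU)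
  have hUc : Nat.card U ≤ 2 * Nat.card ↥(U ⊓ centralizer (A : Set G)) := by
    have h1 := tt.best h1B hBA
    rw [hUB] at h1
    have hp : 0 < Nat.card B := Nat.card_pos
    refine Nat.le_of_mul_le_mul_left ?_ hp
    calc Nat.card B * Nat.card U ≤ Nat.card A * Nat.card ↥(U ⊓ centralizer (A : Set G)) := h1
      _ ≤ 2 * Nat.card B * Nat.card ↥(U ⊓ centralizer (A : Set G)) := Nat.mul_le_mul_right _ hcA
      _ = _ := by ring
  have hfull : ∀ u ∈ U, (∀ a ∈ A, a * u = u * a) ∨ ∀ a ∈ A, a * (n0⁻¹ * u) = (n0⁻¹ * u) * a := by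
    let F : Bool × ↥(U ⊓ centralizer (A : Set G)) → U := fun p => ⟨f p.1 * p.2, mul_mem (hfU _) p.2.2.1⟩
    have hF : Function.Injective F := fun p q e => by
      have h1 := hinj p.1 p.2 q.1 q.2 p.2.2.1 (mem_centralizer_iff.1 p.2.2.2) q.2.2.1
        (mem_centralizer_iff.1 q.2.2.2) (congrArg Subtype.val e)
      exact Prod.ext h1.1 (Subtype.ext h1.2)
    have hb := hF.bijective_of_nat_card_le (by
      rw [Nat.card_prod, Nat.card_eq_fintype_card (α := Bool), Fintype.card_bool]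
      exact hUc)
    intro u hu
    obtain ⟨⟨b, c⟩, hp⟩ := hb.2 ⟨u, hu⟩
    have hp' : f b * c = u := congrArg Subtype.val hp
    cases b
    · left
      have : u = c := by rw [← hp']; simp [f]
      rw [this]
      exact mem_centralizer_iff.1 c.2.2
    · right
      have : n0⁻¹ * u = c := by rw [← hp']; simp [f]
      rw [this]
      exact mem_centralizer_iff.1 c.2.2
  refine ⟨i, x, y, t, n0, ⟨hxy, hx0, hy0, hAS, htA, htt, fun a ha => ?_, hn, hne, hfull,
    fun v hv => ⟨hcen v hv, fun he => ?_⟩, hfix⟩⟩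
  · rcases hel a ha with h1 | h1
    · exact Or.inl (hBU ((hBmem a).2 ⟨ha, h1⟩))
    · exact Or.inr (hBU ((hBmem _).2 ⟨mul_mem (inv_mem htA) ha, h1⟩))
  · rcases hfull v (hVU hv) with h1 | h1
    · exact h1
    · exfalso
      have h2 := hcen _ (mul_mem (inv_mem hn) hv) h1
      rw [M.mul _ (inv_mem hn) _ hv, h.e_inv hn, hne] at h2
      simp only [Pi.add_apply] at h2
      rw [dl_self, dl_ne i hx0, dl_ne i (Ne.symm hxy), dl_ne i hy0, he, add_zero, add_zero, zero_add] at h2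
      have h3 := add_right_cancel (h2.trans (zero_add _).symm)
      exact one_ne_zero h3

end sym

section no

variable {G : Type u} [Group G] {F : Type} [Field F] {S P V D : Subgroup G} {k : ℕ}

/-- Not both types over one `A`, if `|F| > 2`. -/
theorem One.not_oneS [Finite F] (hF : 2 < Nat.card F) {M : NatKM F S P V D k} {U A : Subgroup G} {j : Fin k}
    (O : One M U A j) (hVU : V ≤ U) {S' P' V' D' : Subgroup G} {k' m : ℕ} {M' : SymKM S' P' V' D' k' m}
    {i : Fin k'} {x y : Fin (2 ^ m + 1)} {t n0 : G} (O' : OneS M' U A i x y t n0) : False := by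
  obtain ⟨ω, hω0, hω1⟩ : ∃ ω : F, ω ≠ 0 ∧ ω ≠ 1 := by
    by_contra hcon
    push Not at hcon
    have hs : (Set.univ : Set F) ⊆ {0, 1} := by
      intro x _
      rcases eq_or_ne x 0 with h | h
      · exact Or.inl h
      · exact Or.inr (hcon x h)
    have h3 := Set.ncard_le_ncard hs (Set.toFinite _)
    rw [Set.ncard_univ, Set.ncard_pair zero_ne_one] at h3
    omega
  obtain ⟨v, hv, hvj, -⟩ := Nb.exists_single M j ![0, 1]
  have key : ∀ a β, ActsSL M.e V D a (sg j (up β)) → M.e (a * v * a⁻¹) j 0 = β := by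
    intro a β ha
    rw [ha.1 v hv j, sg_self, hvj, ap_up_0]
    simp
  have hcen : ∀ a, a ∈ centralizer (U : Set G) → a * v * a⁻¹ = v := fun a ha => by
    rw [← mem_centralizer_iff.1 ha v (hVU hv), mul_inv_cancel_right]
  obtain ⟨a, ha, haA⟩ := O.all 1
  obtain ⟨b, hb, hbA⟩ := O.all ω
  have h1 : t⁻¹ * a ∈ centralizer (U : Set G) := (O'.act a ha).resolve_left fun h1 => by
    have h2 := key a 1 haA
    rw [hcen a h1, hvj] at h2
    simp at h2
  have h2 : t⁻¹ * b ∈ centralizer (U : Set G) := (O'.act b hb).resolve_left fun h1 => by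
    have h2 := key b ω hbA
    rw [hcen b h1, hvj] at h2
    exact hω0 (by simpa using h2.symm)
  have h3 : b⁻¹ * a ∈ centralizer (U : Set G) := by
    have e : b⁻¹ * a = (t⁻¹ * b)⁻¹ * (t⁻¹ * a) := by group
    rw [e]
    exact mul_mem (inv_mem h2) h1
  have h4 : a * v * a⁻¹ = b * v * b⁻¹ := by
    have h5 := hcen _ h3
    calc a * v * a⁻¹ = b * (b⁻¹ * a * v * (b⁻¹ * a)⁻¹) * b⁻¹ := by group
      _ = b * v * b⁻¹ := by rw [h5]
  have h5 := key a 1 haA
  rw [h4, key b ω hbA] at h5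
  exact hω1 h5

end no

end Cfsg.Agent.Omega.NOThreeL.RRed.NS

end
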