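import Cfsg.Agent.Mrg.Omega.NOThreeL.RRed.NS.Three
import Cfsg.Agent.Mrg.Omega.NOThreeL.RRed.NS.Act
import Cfsg.Agent.Mrg.Omega.NOThreeL.RRed.NS.Two
import Cfsg.Agent.Mrg.Omega.NOThreeL.RTwo


/-!
# THEOREM NS (#24102), step (3) : the instance of the frame

`H = P ⊔ P'` acts on `U` (additively: `Nrm.Mod`), `S` Sylow in `H`, `EE = {A ≤ S : Tt U A}`, `J = sSup (EJ S U V)`,
`Y j = YY h j`.

* `Inp` : the input, `Swap` and the normalisation of `U`;
* `Inp.frame` : the frame of `NS.Three`, `Inp.bl` : the subgroups `DD M b`, `LL_b`;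
* **`Inp.false`** : (3);
* **`no_swap`** : (2) + (3).
-/

set_option autoImplicit false
set_option linter.unusedSectionVars false

namespace Cfsg.Agent.Omega.NOThreeL.RRed.NS

open Subgroup Cfsg Cfsg.Agent.ZN
open Cfsg.Agent.ZN.ChoiceBase (cj mem_cj)
open Cfsg.Agent.Omega.FFThm Cfsg.Agent.Lib.SL2Mat
open Cfsg.Agent.Omega.NatPair (ap)
open Cfsg.Agent.Omega.NO3S.ThmB Cfsg.Agent.Omega.NO3S.KeyRad
open Cfsg.Agent.Omega.NOThreeL.RSplit (Nrm)
open scoped Pointwise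

universe u

variable {G : Type u} [Group G]

section nrm

variable {H U : Subgroup G} (Q : Nrm H U)

/-- back to `G` -/
def un (B : AddSubgroup Q.Mod) : Subgroup G where
  carrier := {x | ∃ m ∈ B, Q.val m = x}
  one_mem' := ⟨0, zero_mem _, rfl⟩
  mul_mem' := by
    rintro _ _ ⟨m, hm, rfl⟩ ⟨n, hn, rfl⟩
    exact ⟨m + n, add_mem hm hn, rfl⟩
  inv_mem' := by
    rintro _ ⟨m, hm, rfl⟩
    exact ⟨-m, neg_mem hm, rfl⟩

theorem val_mem_un {B : AddSubgroup Q.Mod} {m : Q.Mod} : Q.val m ∈ un Q B ↔ m ∈ B := by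
  constructor
  · rintro ⟨n, hn, h⟩
    rw [← Nrm.ext h]
    exact hn
  · exact fun h => ⟨m, h, rfl⟩

theorem map_conj (x : H) (A : Subgroup H) :
    (MulAut.conj x • A).map H.subtype = MulAut.conj (x : G) • A.map H.subtype := by
  ext y
  constructor
  · rintro ⟨z, hz, rfl⟩
    have h1 := (mem_conj (x := x) (y := z) (A := A)).1 hz
    rw [mem_conj]
    exact ⟨_, h1, by simp⟩
  · intro hy
    rw [mem_conj] at hy
    obtain ⟨z, hz, h1⟩ := hy
    refine ⟨x * z * x⁻¹, conj_mem' hz, ?_⟩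
    have h2 : (z : G) = (x : G)⁻¹ * y * x := h1
    change (x : G) * z * (x : G)⁻¹ = y
    rw [h2]
    group

theorem brk_eq (A : Subgroup H) : brk Q.Mod A = Q.ad (closure (covs U (A.map H.subtype))) := by
  apply le_antisymm
  · rw [brk, AddSubgroup.closure_le]
    rintro _ ⟨a, ha, v, rfl⟩
    refine Nrm.mem_ad.2 (subset_closure ⟨a, ⟨a, ha, rfl⟩, Q.val v, Q.val_mem v, ?_⟩)
    rw [Nrm.val_sub, Nrm.val_smul]
  · intro m hm
    have h1 : closure (covs U (A.map H.subtype)) ≤ un Q (brk Q.Mod A) := by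
      rw [closure_le]
      rintro _ ⟨_, ⟨a, ha, rfl⟩, u, hu, rfl⟩
      refine ⟨a • Q.of u hu - Q.of u hu, AddSubgroup.subset_closure ⟨a, ha, _, rfl⟩, ?_⟩
      rw [Nrm.val_sub, Nrm.val_smul]
      rfl
    exact (val_mem_un Q).1 (h1 hm)

theorem cov_iff (A : Subgroup H) (m : Q.Mod) :
    (∃ a ∈ A, ∃ v : Q.Mod, a • v - v = m) ↔ Q.val m ∈ covs U (A.map H.subtype) := by
  constructor
  · rintro ⟨a, ha, v, rfl⟩
    refine ⟨a, ⟨a, ha, rfl⟩, Q.val v, Q.val_mem v, ?_⟩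
    rw [Nrm.val_sub, Nrm.val_smul]
  · rintro ⟨_, ⟨a, ha, rfl⟩, u, hu, h⟩
    refine ⟨a, ha, Q.of u hu, Nrm.ext ?_⟩
    rw [Nrm.val_sub, Nrm.val_smul, ← h]
    rfl

theorem ad_inj {B C : Subgroup G} (hB : B ≤ U) (hC : C ≤ U) (h : Q.ad B = Q.ad C) : B = C := by
  have h1 : B ≤ C := by
    have := Nrm.ad_le_iff.1 h.le
    rwa [inf_eq_right.2 hB] at this
  have h2 : C ≤ B := by
    have := Nrm.ad_le_iff.1 h.ge
    rwa [inf_eq_right.2 hC] at this
  exact le_antisymm h1 h2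

theorem smul_eq_iff (h : H) (m : Q.Mod) : h • m = m ↔ (h : G) * Q.val m * (h : G)⁻¹ = Q.val m := by
  rw [Nrm.ext_iff, Nrm.val_smul]

theorem fxd_conj (h : H) (A : Subgroup H) : (fxd (MulAut.conj h • A) : AddSubgroup Q.Mod) = h • fxd A := by
  ext m
  rw [mem_smul', mem_fxd, mem_fxd]
  constructor
  · intro h1 a ha
    have h2 := h1 _ (conj_mem' (x := h) ha)
    rwa [mul_smul, mul_smul, ← eq_inv_smul_iff] at h2
  · intro h1 a ha
    rw [mem_conj] at ha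
    have h2 := h1 _ ha
    rw [mul_smul, mul_smul, smul_inv_smul] at h2
    exact smul_left_cancel _ h2

theorem index_smul (h : H) (B : AddSubgroup Q.Mod) : (h • B).index = B.index := by
  have h1 : h • B = B.map (DistribSMul.toAddMonoidHom Q.Mod h) := rfl
  rw [h1]
  exact AddSubgroup.index_map_of_bijective (MulAction.bijective h) B

theorem index_fxd_conj (h : H) (A : Subgroup H) :
    (fxd (MulAut.conj h • A) : AddSubgroup Q.Mod).index = (fxd A : AddSubgroup Q.Mod).index := by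
  rw [fxd_conj, index_smul]

theorem fxd_eq (A : Subgroup H) :
    (fxd A : AddSubgroup Q.Mod) = Q.ad (centralizer ((A.map H.subtype : Subgroup G) : Set G)) := by
  ext m
  rw [mem_fxd, Nrm.mem_ad, mem_centralizer_iff]
  constructor
  · rintro h1 _ ⟨a, ha, rfl⟩
    have h2 := (smul_eq_iff Q a m).1 (h1 a ha)
    exact mul_inv_eq_iff_eq_mul.1 h2
  · intro h1 a ha
    rw [smul_eq_iff]
    exact mul_inv_eq_iff_eq_mul.2 (h1 a ⟨a, ha, rfl⟩)

theorem index_fxd [Finite G] (A : Subgroup H) :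
    (fxd A : AddSubgroup Q.Mod).index = (centralizer ((A.map H.subtype : Subgroup G) : Set G)).relIndex U := by
  set C : Subgroup G := centralizer ((A.map H.subtype : Subgroup G) : Set G) with hC
  have h1 : (fxd A : AddSubgroup Q.Mod) = Q.ad (C ⊓ U) := by
    rw [fxd_eq]
    exact le_antisymm (Nrm.ad_le_iff.2 fun x hx => ⟨hx.2, hx.1⟩) (Nrm.ad_mono inf_le_left)
  have h2 : Nat.card (Q.ad (C ⊓ U)) * (Q.ad (C ⊓ U)).index = Nat.card Q.Mod := AddSubgroup.card_mul_index _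
  have h3 : Nat.card (C ⊓ U : Subgroup G) * (C ⊓ U).relIndex U = Nat.card U := by
    have := Subgroup.relIndex_mul_relIndex (⊥ : Subgroup G) (C ⊓ U) U bot_le inf_le_right
    rwa [relIndex_bot_left, relIndex_bot_left] at this
  have h4 : Nat.card Q.Mod = Nat.card U := rfl
  rw [h1]
  rw [Nrm.card_ad inf_le_right, h4, ← h3, inf_relIndex_right] at h2
  exact Nat.eq_of_mul_eq_mul_left Nat.card_pos h2

end nrm

theorem conj_eq_cj (x : G) (A : Subgroup G) : MulAut.conj x • A = cj x A := by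
  ext y
  rw [mem_conj, mem_cj]

variable {F F' : Type} [Field F] [Field F'] {S P P' V V' D D' U : Subgroup G} {k k' : ℕ}

/-- The input of (3). -/
structure Inp (M : NatKM F S P V D k) (M' : NatKM F' S P' V' D' k') (h : Nb M) (h' : Nb M') (U : Subgroup G)
    [CharP F 2] [CharP F' 2] {l g : Fin k → F → G} {l' g' : Fin k' → F' → G} (C : ∀ j, Cd M j (l j) (g j))
    (C' : ∀ j, Cd M' j (l' j) (g' j)) : Prop where
  W : Swap M M' h h' U C C'
  U2 : IsElementaryAbelian 2 U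
  PU : P ≤ normalizer (U : Set G)
  PU' : P' ≤ normalizer (U : Set G)
  VU : V ≤ U
  VU' : V' ≤ U

namespace Inp

variable [Finite G] [Finite F] [Finite F'] [CharP F 2] [CharP F' 2] {M : NatKM F S P V D k}
  {M' : NatKM F' S P' V' D' k'} {h : Nb M} {h' : Nb M'} {l g : Fin k → F → G} {l' g' : Fin k' → F' → G}
  {C : ∀ j, Cd M j (l j) (g j)} {C' : ∀ j, Cd M' j (l' j) (g' j)} (X : Inp M M' h h' U C C')
include X

theorem Q : Nrm (P ⊔ P') U where
  ab _ hu _ hv := elem_comm X.U2 hu hv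
  nrm := sup_le X.PU X.PU'

theorem SH : S ≤ P ⊔ P' := h.SP'.trans le_sup_left

theorem le_J {A : Subgroup G} (hA : A ≤ S) (t : Tt U A) : A ≤ sSup (EJ S U V) ↔ A ≤ centralizer (V : Set G) := by
  constructor
  · intro h1
    exact h1.trans (sSup_le fun B hB => hB.2.2)
  · intro h1
    exact le_sSup ⟨hA, t, h1⟩

theorem exb (b : Fin k) : ∃ A ≤ S, Tt U A ∧ ¬ A ≤ sSup (EJ S U V) ∧ One M U A b := by
  obtain ⟨A, hA, t, O⟩ := X.W.ex b
  refine ⟨A, hA, t, ?_, O⟩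
  rw [X.le_J hA t]
  exact not_le_of_one O

theorem brk_of {A : Subgroup ↥(P ⊔ P')} (hF : 2 < Nat.card F) (hA : A.map (P ⊔ P').subtype ≤ S) {i : Fin k}
    (O : One M U (A.map (P ⊔ P').subtype) i) : brk X.Q.Mod A = X.Q.ad (YY h i) := by
  rw [brk_eq, YY_eq h (C i) O (hA.trans h.SP') X.VU hF]

theorem Y_inj {b c : Fin k} (hbc : X.Q.ad (YY h b) = X.Q.ad (YY h c)) : b = c :=
  YY_inj h (C b) (ad_inj X.Q ((YY_le_V h b).trans X.VU) ((YY_le_V h c).trans X.VU) hbc)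

/-- `EE` in `P ⊔ P'` -/
def EH (S P P' U : Subgroup G) : Set (Subgroup ↥(P ⊔ P')) :=
  {A | A.map (P ⊔ P').subtype ≤ S ∧ Tt U (A.map (P ⊔ P').subtype)}

theorem map_subgroupOf {A : Subgroup G} (hA : A ≤ S) : (A.subgroupOf (P ⊔ P')).map (P ⊔ P').subtype = A :=
  (subgroupOf_map_subtype _ _).trans (inf_eq_left.2 (hA.trans X.SH))

theorem not_le_J {A : Subgroup ↥(P ⊔ P')} : A ≤ (sSup (EJ S U V)).subgroupOf (P ⊔ P') ↔
    A.map (P ⊔ P').subtype ≤ sSup (EJ S U V) := by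
  rw [map_le_iff_le_comap]
  rfl

/-- **the frame** -/
theorem frame (hF : 2 < Nat.card F) (T : Sylow 2 ↥(P ⊔ P')) (hT : (T : Subgroup ↥(P ⊔ P')).map (P ⊔ P').subtype = S) :
    Frame T ((sSup (EJ S U V)).subgroupOf (P ⊔ P')) (EH S P P' U) (fun j : Fin k => X.Q.ad (YY h j)) where
  JN := Subgroup.normal_subgroupOf_of_le_normalizer (sup_le X.W.nP X.W.nP')
  EES A hA a ha := by
    have h1 : (a : G) ∈ (T : Subgroup ↥(P ⊔ P')).map (P ⊔ P').subtype := by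
      rw [hT]
      exact hA.1 ⟨a, ha, rfl⟩
    obtain ⟨b, hb, hba⟩ := h1
    rw [← Subtype.ext hba]
    exact hb
  EEc A hA x h1 := by
    have h2 : (MulAut.conj x • A).map (P ⊔ P').subtype ≤ S := by
      rw [← hT]
      exact map_mono h1
    refine ⟨h2, ?_⟩
    rw [map_conj, conj_eq_cj]
    exact hA.2.cj (X.Q.nrm x.2)
  typ A hA hJ := by
    rw [X.not_le_J, X.le_J hA.1 hA.2] at hJ
    obtain ⟨i, O⟩ := hA.2.one h X.U2 X.VU hA.1 hJ
    exact ⟨i, X.brk_of hF hA.1 O⟩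
  ex b := by
    obtain ⟨A, hA, t, hJ, O⟩ := X.exb b
    have h1 := X.map_subgroupOf hA
    refine ⟨A.subgroupOf (P ⊔ P'), ?_, ?_, X.brk_of hF ?_ ?_⟩
    · change (A.subgroupOf (P ⊔ P')).map (P ⊔ P').subtype ≤ S ∧ Tt U ((A.subgroupOf (P ⊔ P')).map (P ⊔ P').subtype)
      rw [h1]; exact ⟨hA, t⟩
    · rw [X.not_le_J, h1]
      exact hJ
    · rw [h1]; exact hA
    · rw [h1]; exact O
  cent A hA c y hy a ha := by
    rw [smul_eq_iff, mul_inv_eq_iff_eq_mul]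
    have h0 : (a : G) ∈ A.map (P ⊔ P').subtype := ⟨a, ha, rfl⟩
    by_cases hJ : A.map (P ⊔ P').subtype ≤ centralizer (V : Set G)
    · exact (mem_centralizer_iff.1 (hJ h0) _ (YY_le_V h c hy)).symm
    · obtain ⟨i, O⟩ := hA.2.one h X.U2 X.VU hA.1 hJ
      exact cent_YY h O (hA.1.trans h.SP') h0 hy
  inj b c hbc := X.Y_inj hbc

theorem not_le' {A : Subgroup G} (hA : A ≤ S) (t : Tt U A) {b : Fin k} (O : One M U A b) :
    ∃ b', One M' U A b' := by
  refine t.one h' X.U2 X.VU' hA fun h1 => ?_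
  exact not_le_of_one O ((X.W.iff A hA t).2 h1)

theorem card_DD (b : Fin k) : Nat.card (DD M b) = Nat.card F := by
  obtain ⟨A, hA, t, -, O⟩ := X.exb b
  obtain ⟨b', O'⟩ := X.not_le' hA t O
  exact (X.W.swap A hA t b b' O O').2.1

/-- the subgroups of the block `b` -/
theorem bl (hF : 2 < Nat.card F) (T : Sylow 2 ↥(P ⊔ P')) (hT : (T : Subgroup ↥(P ⊔ P')).map (P ⊔ P').subtype = S)
    (b : Fin k) : Bl T ((sSup (EJ S U V)).subgroupOf (P ⊔ P')) (EH S P P' U) (fun j : Fin k => X.Q.ad (YY h j)) b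
      (X.Q.ad (DD M b)) (X.Q.ad ((C b).LL h)) where
  DY := Nrm.ad_mono (DD_le_YY h b)
  lY := Nrm.ad_mono ((C b).LL_le h)
  Dl := by
    rw [eq_bot_iff]
    intro m hm
    have h1 : X.Q.val m ∈ DD M b ⊓ (C b).LL h := ⟨hm.1, hm.2⟩
    rw [(C b).DD_inf_LL h, Subgroup.mem_bot] at h1
    exact AddSubgroup.mem_bot.2 (Nrm.eq_zero_iff.2 h1)
  SD s hs hY := by
    have hsS : (s : G) ∈ S := by
      rw [← hT]
      exact ⟨s, hs, rfl⟩
    refine smul_eq_of_le fun x hx => ?_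
    rw [mem_smul'] at hx
    have h1 : x ∈ X.Q.ad (YY h b) := by
      rw [← hY, mem_smul']
      exact DD_le_YY h b hx
    have h2 : X.Q.val (s⁻¹ • x) ∈ D := hx.2
    have h3 := (mem_normalizer_iff.1 (h.DP' (h.SP' hsS)) _).1 h2
    rw [← Nrm.val_smul, smul_inv_smul] at h3
    exact ⟨h1.1, h3⟩
  cov A hA hJ hbr m hm := by
    rw [X.not_le_J, X.le_J hA.1 hA.2] at hJ
    obtain ⟨i, O⟩ := hA.2.one h X.U2 X.VU hA.1 hJ
    have h1 := X.brk_of hF hA.1 O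
    obtain rfl := X.Y_inj (h1.symm.trans hbr)
    rw [cov_iff, cov_big h (C i) O (hA.1.trans h.SP') X.VU (X.card_DD i) hm, Nrm.eq_zero_iff]
    rfl

/-- **THEOREM NS (3).** -/
theorem false (hF : 2 < Nat.card F) (T : Sylow 2 ↥(P ⊔ P')) (hT : (T : Subgroup ↥(P ⊔ P')).map (P ⊔ P').subtype = S)
    {x : G} (hx : x ∈ ⨆ j, DD M j) (hx1 : x ≠ 1) (hxS : ∀ s ∈ S, s * x = x * s) : False := by
  obtain ⟨b, y, hy, hy1, r, hr, rfl⟩ := exists_comp h hx hx1
  obtain ⟨A, hA, t, hJ, O⟩ := X.exb b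
  obtain ⟨b', O'⟩ := X.not_le' hA t O
  obtain ⟨hYY, hcD, hD', hL'⟩ := X.W.swap A hA t b b' O O'
  have hAP : A ≤ P := hA.trans h.SP'
  have hAP' : A ≤ P' := hA.trans h'.SP'
  obtain ⟨p, hp, hpA⟩ := exists_p M b
  obtain ⟨p', hp', hpA'⟩ := exists_p M' b'
  have hmA := X.map_subgroupOf hA
  let pH : ↥(P ⊔ P') := ⟨p, mem_sup_left hp⟩
  let pH' : ↥(P ⊔ P') := ⟨p', mem_sup_right hp'⟩
  let AH : Subgroup ↥(P ⊔ P') := A.subgroupOf (P ⊔ P')
  have hyU : y ∈ U := X.VU (blk_le h b hy.1)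
  have m₁ : (MulAut.conj pH • AH).map (P ⊔ P').subtype = MulAut.conj p • A := by rw [map_conj, hmA]
  have m₂ : (MulAut.conj pH' • AH).map (P ⊔ P').subtype = MulAut.conj p' • A := by rw [map_conj, hmA]
  have hUn : ∀ x ∈ P ⊔ P', ∀ u ∈ U, x * u * x⁻¹ ∈ U := fun x hx u hu => (mem_normalizer_iff.1 (X.Q.nrm hx) u).1 hu
  have i₀ : (fxd AH : AddSubgroup X.Q.Mod).index ≤ Nat.card F := by
    rw [index_fxd, hmA]
    exact relIndex_le h O hAP
  have F0 := X.frame hF T hT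
  have hbA : brk X.Q.Mod AH = X.Q.ad (YY h b) := X.brk_of hF (by rw [hmA]; exact hA) (by rw [hmA]; exact O)
  refine F0.false_of (X.bl hF T hT b) (x := X.Q.of y hyU) (A := AH) (A₁ := MulAut.conj pH • AH)
    (A₂ := MulAut.conj pH' • AH) (V := X.Q.ad (blk M b)) (q := Nat.card F) ?_ ?_ hbA ?_ ?_ hy ?_ ?_ i₀ ?_ ?_ ?_ ?_ ?_ ?_
    ?_ ?_
  · change AH.map (P ⊔ P').subtype ≤ S ∧ Tt U (AH.map (P ⊔ P').subtype)
    rw [hmA]
    exact ⟨hA, t⟩
  · rw [X.not_le_J]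
    rw [hmA]
    exact hJ
  · -- `A^p ≤ G_b`
    intro a ha c hc z hz
    have h1 : (a : G) ∈ MulAut.conj p • A := by rw [← m₁]; exact ⟨a, ha, rfl⟩
    exact (smul_eq_iff X.Q a z).2 (cent_conj h O hAP hp hpA h1 hc hz.1)
  · -- `A^p' ≤ G_b`
    intro a ha c hc z hz
    have h1 : (a : G) ∈ MulAut.conj p' • A := by rw [← m₂]; exact ⟨a, ha, rfl⟩
    obtain ⟨Ac, hAc, tc, -, Oc⟩ := X.exb c
    obtain ⟨c', Oc'⟩ := X.not_le' hAc tc Oc
    have h2 := (X.W.swap Ac hAc tc c c' Oc Oc').1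
    have h3 : c' ≠ b' := by
      rintro rfl
      rw [← hYY] at h2
      exact hc (YY_inj h (C c) h2)
    have h4 : X.Q.val z ∈ YY h' c' := h2 ▸ hz
    exact (smul_eq_iff X.Q a z).2 (cent_conj h' O' hAP' hp' hpA' h1 h3 h4.1)
  · intro h0
    exact hy1 (Nrm.eq_zero_iff.1 h0)
  · -- `T_b` fixes `y`
    intro s hs
    rw [smul_eq_iff, Nrm.val_of, mul_inv_eq_iff_eq_mul]
    have hsS : (s : G) ∈ S := by
      rw [← hT]
      exact ⟨s, (mem_inf.1 hs).1, rfl⟩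
    have h1 : (⨆ c : {c // c ≠ b}, DD M c) ≤ centralizer ({(s : G)} : Set G) := by
      refine iSup_le fun c z hz => ?_
      rw [mem_centralizer_singleton_iff]
      have hzU : z ∈ U := X.VU (blk_le h c hz.1)
      have h2 := (mem_inf.1 hs).2 c c.2 (X.Q.of z hzU) (DD_le_YY h c hz)
      rw [smul_eq_iff, Nrm.val_of, mul_inv_eq_iff_eq_mul] at h2
      exact h2.symm
    have h2 := mem_centralizer_singleton_iff.1 (h1 hr)
    have h3 := hxS s hsS
    calc (s : G) * y = (s * (y * r)) * r⁻¹ := by group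
      _ = (y * r * s) * r⁻¹ := by rw [h3]
      _ = y * (r * s) * r⁻¹ := by group
      _ = y * (s * r) * r⁻¹ := by rw [h2]
      _ = y * s := by group
  · rw [index_fxd_conj]; exact i₀
  · rw [index_fxd_conj]; exact i₀
  · rw [Nrm.card_ad ((blk_le h b).trans X.VU), card_blk h, hcD]
    exact le_of_eq (pow_succ _ _)
  · exact Nrm.ad_mono (YY_le h b)
  · -- `fE`
    intro v hv h1 h2
    refine mem_DD_of_fixed h O hAP hp hpA hv (fun a ha => ?_) fun a ha => ?_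
    · rw [← hmA] at ha
      obtain ⟨a, ha, rfl⟩ := ha
      exact (smul_eq_iff X.Q a v).1 (h1 a ha)
    · rw [← m₁] at ha
      obtain ⟨a, ha, rfl⟩ := ha
      exact (smul_eq_iff X.Q a v).1 (h2 a ha)
  · -- `Ef`
    intro d hd a ha
    have h1 : (a : G) ∈ MulAut.conj p • A := by rw [← m₁]; exact ⟨a, ha, rfl⟩
    exact (smul_eq_iff X.Q a d).2 (fix_D h O hAP hp hpA hd.2 h1)
  · -- `tr`
    intro v hv
    obtain ⟨g₀, hg₀, h1⟩ := exists_YY h O hAP hp hpA hv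
    rw [← m₁, ← hmA, ← Subgroup.map_sup] at hg₀
    obtain ⟨g₁, hg₁, rfl⟩ := hg₀
    exact ⟨g₁, hg₁, h1⟩
  · -- `mv`
    intro d hd hd0
    have h1 : X.Q.val d ∈ (C' b').LL h' := by rw [hL']; exact hd
    obtain ⟨s, hs⟩ := h1
    have hs0 : s ≠ 0 := by
      rintro rfl
      rw [(C' b').l_zero] at hs
      exact hd0 (Nrm.eq_zero_iff.2 hs.symm)
    obtain ⟨a, ha, h2⟩ := exists_not_mem_YY h' O' hAP' hp' hpA' (C' b') hs0
    rw [← m₂] at ha
    obtain ⟨a, ha, rfl⟩ := ha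
    refine ⟨a, ha, fun h3 => h2 ?_⟩
    rw [← hYY, hs]
    exact DD_le_YY h b h3

end Inp

/-- **THEOREM NS**, `P` and `P'` natural: (2) and (3). -/
theorem no_swap [Finite G] [Finite F] [Finite F'] [CharP F 2] [CharP F' 2] {M : NatKM F S P V D k}
    {M' : NatKM F' S P' V' D' k'} (h : Nb M) (h' : Nb M') (hS : ChoiceSit.Syl S (P ⊔ P')) (hF : 2 < Nat.card F)
    (gd : Gd S P U V) (gd' : Gd S P' U V') {A₀ : Subgroup G} (hA₀S : A₀ ≤ S) (t₀ : Tt U A₀)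
    (hne₀ : ¬ A₀ ≤ centralizer (V : Set G)) {A' : Subgroup G} (hA'S : A' ≤ S) (t' : Tt U A')
    (hne' : ¬ A' ≤ centralizer (V' : Set G)) {x : G} (hx : x ∈ ⨆ j, DD M j) (hxS : ∀ s ∈ S, s * x = x * s) {y : G}
    (hy : y ∈ P') (hyx : y * x ≠ x * y) : False := by
  have hne₀' := gd'.moves h hF gd.VU gd.UN hA'S t' hne' hx hxS hy hyx hA₀S t₀ hne₀
  obtain ⟨i, O⟩ := t₀.one h gd.U2 gd.VU hA₀S hne₀
  obtain ⟨i', O'⟩ := t₀.one h' gd'.U2 gd'.VU hA₀S hne₀'
  have hF' : 2 < Nat.card F' := lt_of_lt_of_le hF (card_le_of_one h' O O' (hA₀S.trans h'.SP') gd.VU)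
  choose l g C using exists_cd h hF
  choose l' g' C' using exists_cd h' hF'
  obtain ⟨T, hT⟩ := ChoiceSit.syl_iff.1 hS
  have X : Inp M M' h h' U C C' :=
    { W := two h h' C C' hS.2.1 hF gd gd' hA₀S t₀ hne₀ hA'S t' hne' hx hxS hy hyx
      U2 := gd.U2
      PU := gd.UN
      PU' := gd'.UN
      VU := gd.VU
      VU' := gd'.VU }
  refine X.false hF T hT hx ?_ hxS
  rintro rfl
  exact hyx (by rw [mul_one, one_mul])

end Cfsg.Agent.Omega.NOThreeL.RRed.NS
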