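import Cfsg.Agent.Mrg.Omega.NOThreeL.RRed.NS.Spl
import Cfsg.Agent.Mrg.Omega.NOThreeL.RRed.NS.Inst
import Cfsg.Agent.Mrg.Omega.NOThreeL.RRed.Blk.SplitAll
import Cfsg.Agent.Mrg.Omega.NOThreeL.RRed.ClassMx

section


/-!
# THEOREM NS (#24102)

`U ≥ Z = Ω₁(Z(S))` is elementary abelian, `EE = {A ≤ S : Tt U A}`, `Active S P U` : some member of `EE` moves `V_P`.

* **`ns`** : `P, P' ∈ P*(S)` active, both in `N(U)`, `V_P` natural over `F`, `|F| > 2`: `P'` centralises every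
  `x ∈ Z ∩ ⨆ blk M j ∩ cv S P`;
* **`inf_eq_bot`, `splitBy`, `bigSplits`** : (SPL), if every `1 ≠ z ∈ Z` is moved by an active `P'`.
-/

set_option autoImplicit false
set_option linter.unusedSectionVars false

namespace Cfsg.Agent.Omega.NOThreeL.RRed.NS

open Subgroup Cfsg Cfsg.Agent.ZN Cfsg.Agent.ZN.ChoiceBase Cfsg.Agent.Omega.MinPar
open Cfsg.Agent.Omega.FFThm (NatKM SymKM OffM ElemM NoOverM StmtM ConclM syl_of_sylow)
open Cfsg.Agent.Omega.FrameFF (cv)
open Cfsg.Agent.Omega.NO3S.ThmB Cfsg.Agent.Omega.NO3S.KeyRad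
open Cfsg.Agent.Omega.NOThreeL.RTreeA (SplitBy Splits)
open Cfsg.Agent.Omega.NOThreeL.RRed.Blk.SplitAll (BigSplits)

universe u

/-- `P` is active on `U`: a member of `EE` moves `V_P`. -/
def Active {G : Type u} [Group G] (S P U : Subgroup G) : Prop :=
  ∃ A ≤ S, Tt U A ∧ ¬ A ≤ centralizer (zl S P : Set G)

variable {G : Type u} [Group G] [Finite G] {S : Sylow 2 G} {P P' U : Subgroup G}

/-- **THEOREM NS.** -/
theorem ns (hG : IsCharacteristicTwoType G) (hFF : StmtM.{u}) (hP : IsParS (S : Subgroup G) P)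
    (hP' : IsParS (S : Subgroup G) P') (hU2 : IsElementaryAbelian 2 U) (hPU : P ≤ normalizer (U : Set G))
    (hP'U : P' ≤ normalizer (U : Set G)) (hZU : zc (S : Subgroup G) ≤ U) {F : Type} [Field F] [Finite F] [CharP F 2]
    {k : ℕ} (M : NatKM F (S : Subgroup G) P (zl (S : Subgroup G) P) (cv (S : Subgroup G) P) k) (hF : 2 < Nat.card F)
    (a : Active (S : Subgroup G) P U) (a' : Active (S : Subgroup G) P' U) {x : G} (hx : x ∈ ⨆ j, blk M j)
    (hxD : x ∈ cv (S : Subgroup G) P) (hxS : x ∈ zc (S : Subgroup G)) : P' ≤ centralizer {x} := by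
  obtain ⟨A₀, hA₀, t₀, n₀⟩ := a
  obtain ⟨A', hA', t', n'⟩ := a'
  intro y hy
  rw [mem_centralizer_singleton_iff]
  by_contra hyx
  have gd := gd_of hG hFF hP hU2 hPU hZU
  have gd' := gd_of hG hFF hP' hU2 hP'U hZU
  have h := Inst.nb hG hP M
  have hxc : ∀ s ∈ (S : Subgroup G), s * x = x * s := fun s hs => (ChoiceBase.mem_zc.1 hxS).2.2 s hs
  have hx' := iSup_DD h hx hxD
  obtain ⟨F', i1, i2, i3, k', M', -, h', -⟩ := swap_of hG hFF hP hP' hU2 hPU hP'U hZU M hF hA₀ t₀ n₀ hA' t' n' hx' hxc hy hyx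
  have hS : ChoiceSit.Syl (S : Subgroup G) (P ⊔ P') :=
    ⟨hP.le.trans le_sup_left, S.isPGroup', fun Q _ hQ hle => S.is_maximal' hQ hle⟩
  exact no_swap h h' hS hF gd gd' hA₀ t₀ n₀ hA' t' n' hx' hxc hy hyx

/-- the hypothesis: every `1 ≠ z ∈ Z` is moved by an active member of `P*(S)` in `N(U)` -/
def RC (S U : Subgroup G) : Prop :=
  ∀ z ∈ zc S, z ≠ 1 → ∃ P', IsParS S P' ∧ P' ≤ normalizer (U : Set G) ∧ Active S P' U ∧ ¬ P' ≤ centralizer {z}

/-- the blocks meet `cv S P` trivially -/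
theorem inf_eq_bot (hG : IsCharacteristicTwoType G) (hFF : StmtM.{u}) (hP : IsParS (S : Subgroup G) P)
    (hU2 : IsElementaryAbelian 2 U) (hPU : P ≤ normalizer (U : Set G)) (hZU : zc (S : Subgroup G) ≤ U)
    (rc : RC (S : Subgroup G) U) (a : Active (S : Subgroup G) P U) {F : Type} [Field F] [Finite F] [CharP F 2]
    {k : ℕ} (M : NatKM F (S : Subgroup G) P (zl (S : Subgroup G) P) (cv (S : Subgroup G) P) k) (hF : 2 < Nat.card F) :
    (⨆ j, blk M j) ⊓ cv (S : Subgroup G) P = ⊥ := by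
  by_contra h0
  have h := Inst.nb hG hP M
  obtain ⟨x, hx, hx1, hxS, hxD⟩ := exists_fix h (((hP.isLoc.zl_le S hG).trans (zc_le _)).trans (hP.isLoc.o2_le S)) h0
  obtain ⟨P', hP', hP'U, a', hm⟩ := rc x hxS hx1
  exact hm (ns hG hFF hP hP' hU2 hPU hP'U hZU M hF a a' ((iSup_mono fun j => (inf_le_left : DD M j ≤ blk M j)) hx) hxD hxS)

/-- **(SPL)** with the complement `⨆ blk M j`. -/
theorem splitBy (hG : IsCharacteristicTwoType G) (hFF : StmtM.{u}) (hP : IsParS (S : Subgroup G) P)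
    (hU2 : IsElementaryAbelian 2 U) (hPU : P ≤ normalizer (U : Set G)) (hZU : zc (S : Subgroup G) ≤ U)
    (rc : RC (S : Subgroup G) U) (a : Active (S : Subgroup G) P U) {F : Type} [Field F] [Finite F] [CharP F 2]
    {k : ℕ} (M : NatKM F (S : Subgroup G) P (zl (S : Subgroup G) P) (cv (S : Subgroup G) P) k) (hF : 2 < Nat.card F) :
    SplitBy (S : Subgroup G) P (cv (S : Subgroup G) P) (⨆ j, blk M j) :=
  splitBy_of (Inst.nb hG hP M) (inf_eq_bot hG hFF hP hU2 hPU hZU rc a M hF)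

/-- **(SPL)** -/
theorem bigSplits (hG : IsCharacteristicTwoType G) (hFF : StmtM.{u}) (hP : IsParS (S : Subgroup G) P)
    (hU2 : IsElementaryAbelian 2 U) (hPU : P ≤ normalizer (U : Set G)) (hZU : zc (S : Subgroup G) ≤ U)
    (rc : RC (S : Subgroup G) U) (a : Active (S : Subgroup G) P U) : BigSplits (S : Subgroup G) P :=
  fun _ _ _ _ _ _ hF ⟨M⟩ => ⟨_, splitBy hG hFF hP hU2 hPU hZU rc a M (by omega)⟩

end Cfsg.Agent.Omega.NOThreeL.RRed.NS

end

section


/-!
# THEOREM NS (#24102): the class theorem's language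

* `tt_of_mx` : a minimal exact offender (`Mx`, no over-offender) is in `EE`;
* `active_of_gone` : `GOne S L P A` ⟹ `P` is active on `zl S L`;
* **`gone_bigSplits`, `gone_inf_eq_bot`** : (SPL), if every `1 ≠ z ∈ Z` is moved by some `P'` with `GOne S L P' A'`.
-/

set_option autoImplicit false
set_option linter.unusedSectionVars false

namespace Cfsg.Agent.Omega.NOThreeL.RRed.NS

open Subgroup Cfsg Cfsg.Agent.ZN Cfsg.Agent.ZN.ChoiceBase Cfsg.Agent.Omega.MinPar
open Cfsg.Agent.Omega.FFThm (NatKM SymKM OffM ElemM NoOverM StmtM ConclM syl_of_sylow)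
open Cfsg.Agent.Omega.FrameFF (cv)
open Cfsg.Agent.Omega.NO3S.ThmB Cfsg.Agent.Omega.NO3S.KeyRad
open Cfsg.Agent.Omega.NOThreeL.RTreeA (SplitBy Splits)
open Cfsg.Agent.Omega.NOThreeL.RRed.Blk.SplitAll (BigSplits)

universe u

/-- a minimal exact offender is in `EE` -/
theorem tt_of_mx {G : Type u} [Group G] {V K A : Subgroup G} (h : Mx V A) (no : NoOverM V K) (hA : A ≤ K) : Tt V A where
  elem := h.toElemM
  ne := h.ne
  off := h.exact.le
  min := fun B h1 h2 h3 h4 => by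
    have hE : ElemM V B := ⟨fun b hb => h.sq b (h2 hb), fun b hb c hc => h.comm b (h2 hb) c (h2 hc)⟩
    have h5 := no B (h2.trans hA) hE
    have e : B ⊓ centralizer (V : Set G) = A ⊓ centralizer (V : Set G) :=
      le_antisymm (inf_le_inf_right _ h2) (le_inf h1 inf_le_right)
    have h6 := h.exact
    refine lt_of_le_of_ne (by rw [← h6, ← e]; exact h5) fun h7 => ?_
    rcases h.min B h2 (by rw [e, h7]; exact h6) h1 with h8 | h8
    · exact h4 h8
    · exact h3 h8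

variable {G : Type u} [Group G] [Finite G] {S : Sylow 2 G} {L P A : Subgroup G}

theorem active_of_gone (hc : IsCharacteristicTwoType G) (h : GOne S L P A) :
    Active (S : Subgroup G) P (zl (S : Subgroup G) L) := by
  obtain ⟨B, -, -, hB, g⟩ := h.exists_mx hc
  exact ⟨B, g.AS, tt_of_mx hB g.no ((g.AS.trans g.par.le).trans g.PL), g.offP.ne⟩

/-- (mv) in the form of the class theorem -/
def MvG (S : Sylow 2 G) (L : Subgroup G) : Prop :=
  ∀ z ∈ zc (S : Subgroup G), z ≠ 1 → ∃ P A, GOne S L P A ∧ ¬ P ≤ centralizer {z}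

theorem rc_of_mvG (hc : IsCharacteristicTwoType G) (mv : MvG S L) :
    RC (S : Subgroup G) (zl (S : Subgroup G) L) := by
  intro z hz hz1
  obtain ⟨P, A, g, hm⟩ := mv z hz hz1
  exact ⟨P, g.par, g.PL.trans (ZN.le_normalizer_zl _ _), active_of_gone hc g, hm⟩

theorem elem_zl (h : GOne S L P A) : IsElementaryAbelian 2 (zl (S : Subgroup G) L) := by
  have hc : ∀ x ∈ zl (S : Subgroup G) L, ∀ y ∈ zl (S : Subgroup G) L, x * y = y * x := fun x hx y hy =>
    mem_centralizer_iff.1 (h.comm hy) x hx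
  let T : Subgroup G :=
    { carrier := {x | x ∈ zl (S : Subgroup G) L ∧ x ^ 2 = 1}
      one_mem' := ⟨one_mem _, one_pow 2⟩
      mul_mem' := by
        rintro x y ⟨hx, hx2⟩ ⟨hy, hy2⟩
        refine ⟨mul_mem hx hy, ?_⟩
        rw [Commute.mul_pow (hc x hx y hy), hx2, hy2, one_mul]
      inv_mem' := by
        rintro x ⟨hx, hx2⟩
        exact ⟨inv_mem hx, by rw [inv_pow, hx2, inv_one]⟩ }
  have hn : ∀ g ∈ L, ∀ x ∈ T, g * x * g⁻¹ ∈ T := fun g hg x hx =>
    ⟨(mem_normalizer_iff.1 (ZN.le_normalizer_zl _ _ hg) x).1 hx.1, by rw [conj_pow, hx.2, mul_one, mul_inv_cancel]⟩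
  have hT : zl (S : Subgroup G) L ≤ T :=
    ZN.zl_le (fun x hx => ⟨MinSimple.VModule.zc_le_zl _ _ hx, (ChoiceBase.mem_zc.1 hx).2.1⟩) fun g hg =>
      mem_normalizer_iff.2 fun x => ⟨hn g hg x, fun hx => by
        have h1 := hn g⁻¹ (inv_mem hg) _ hx
        have e : g⁻¹ * (g * x * g⁻¹) * g⁻¹⁻¹ = x := by group
        rwa [e] at h1⟩
  exact PLocal.ThompsonJ.isElementaryAbelian_iff.2 ⟨hc, fun x hx => (hT hx).2⟩

/-- **(SPL)** -/
theorem gone_bigSplits (hc : IsCharacteristicTwoType G) (mv : MvG S L) (h : GOne S L P A) :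
    BigSplits (S : Subgroup G) P :=
  bigSplits hc FFBr.ffthmM h.par (elem_zl h) (h.PL.trans (ZN.le_normalizer_zl _ _)) (MinSimple.VModule.zc_le_zl _ _)
    (rc_of_mvG hc mv) (active_of_gone hc h)

theorem gone_inf_eq_bot (hc : IsCharacteristicTwoType G) (mv : MvG S L) (h : GOne S L P A) {F : Type} [Field F]
    [Finite F] [CharP F 2] {k : ℕ}
    (M : NatKM F (S : Subgroup G) P (zl (S : Subgroup G) P) (cv (S : Subgroup G) P) k) (hF : 2 < Nat.card F) :
    (⨆ j, blk M j) ⊓ cv (S : Subgroup G) P = ⊥ :=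
  inf_eq_bot hc FFBr.ffthmM h.par (elem_zl h) (h.PL.trans (ZN.le_normalizer_zl _ _)) (MinSimple.VModule.zc_le_zl _ _)
    (rc_of_mvG hc mv) (active_of_gone hc h) M hF

theorem gone_splitBy (hc : IsCharacteristicTwoType G) (mv : MvG S L) (h : GOne S L P A) {F : Type} [Field F]
    [Finite F] [CharP F 2] {k : ℕ}
    (M : NatKM F (S : Subgroup G) P (zl (S : Subgroup G) P) (cv (S : Subgroup G) P) k) (hF : 2 < Nat.card F) :
    SplitBy (S : Subgroup G) P (cv (S : Subgroup G) P) (⨆ j, blk M j) :=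
  splitBy hc FFBr.ffthmM h.par (elem_zl h) (h.PL.trans (ZN.le_normalizer_zl _ _)) (MinSimple.VModule.zc_le_zl _ _)
    (rc_of_mvG hc mv) (active_of_gone hc h) M hF

end Cfsg.Agent.Omega.NOThreeL.RRed.NS

end
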