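import Cfsg.Agent.Mrg.Omega.NOThreeL.RRed.NS.Fin
import Cfsg.Agent.Mrg.Omega.NOThreeL.RRed.NS.Same
import Cfsg.Agent.Mrg.Omega.NOThreeL.RRed.WideTree


/-!
# THEOREM NS (#24102) and (T2) of #24779 in box R

* `active_of_mx` : `L` local, generated by `P*(S)`, `A ≤ S` minimal exact on `zl S L`, `A ≰ O₂(P)`: `P` is active;
* `act_active` : the same for `L = M₀`: `Act S P` ⟹ `Active S P V*`; `rc_of_mvAct`;
* **`act_splitBy`, `act_inf_eq_bot`, `act_bigSplits`** : (SPL) for all active `P`, from `MvAct`;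
* **`act_dich`** : `P, P'` active, `P` natural, `|F| > 2`: the same lines (`Same`), or different members of `EE` (`Diff`).
-/

set_option autoImplicit false
set_option linter.unusedSectionVars false

namespace Cfsg.Agent.Omega.NOThreeL.RRed.NS

open Subgroup Cfsg Cfsg.Agent.ZN Cfsg.Agent.ZN.ChoiceBase Cfsg.Agent.Omega.MinPar
open Cfsg.Agent.Omega.FFThm (NatKM SymKM OffM ElemM NoOverM StmtM ConclM syl_of_sylow)
open Cfsg.Agent.Omega.FrameFF (cv)
open Cfsg.Agent.Omega.NO3S.ThmB Cfsg.Agent.Omega.NO3S.KeyRad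
open Cfsg.Agent.Omega.NOThreeL.RTreeA (SplitBy Splits)
open Cfsg.Agent.Omega.NOThreeL.RRed.Blk.SplitAll (BigSplits)
open Cfsg.Agent.Omega.NOThreeL.RRed.WideTree (Act MvAct)
open Cfsg.Agent.Omega.NOThreeL.RTree (RB)
open Cfsg.Agent.Omega.NOThreeL.Merge (MZ le_MZ isLoc_MZ)

universe u

variable {G : Type u} [Group G] [Finite G] {S : Sylow 2 G} {L P P' A : Subgroup G}

theorem elem_loc (hc : IsCharacteristicTwoType G) (hL : IsLoc (S : Subgroup G) L) :
    IsElementaryAbelian 2 (zl (S : Subgroup G) L) :=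
  PLocal.ThompsonJ.isElementaryAbelian_mono (NO3S.OneLine.zc_elem _) (hL.zl_le S hc)

theorem active_of_mx (hc : IsCharacteristicTwoType G) (hL : IsLoc (S : Subgroup G) L)
    (hgen : L ≤ sSup {P | IsParS (S : Subgroup G) P ∧ P ≤ L}) (hP : IsParS (S : Subgroup G) P)
    (hA : A ≤ (S : Subgroup G)) (h : Mx (zl (S : Subgroup G) L) A) (hn : ¬ A ≤ o2 P) :
    Active (S : Subgroup G) P (zl (S : Subgroup G) L) := by
  have hAL : A ≤ L := hA.trans hL.le
  obtain ⟨P₁, A₁, g⟩ := exists_gOne hc hL hgen ⟨A, hAL, h.off⟩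
  refine ⟨A, hA, tt_of_mx h g.no hAL, fun h1 => hn ?_⟩
  rw [← hP.inf_centralizer S hc]
  exact le_inf hA h1

theorem gen_MZ' (S : Sylow 2 G) :
    MZ (S : Subgroup G) ≤ sSup {P | IsParS (S : Subgroup G) P ∧ P ≤ MZ (S : Subgroup G)} :=
  sSup_le fun _ hP => le_sSup ⟨hP, le_MZ hP⟩

theorem act_active (B : RB S) (a : Act (S : Subgroup G) P) : Active (S : Subgroup G) P (Wd (S : Subgroup G)) := by
  obtain ⟨hP, A, hA, hM, hn⟩ := a
  exact active_of_mx B.ctx.char2 (isLoc_MZ B.ctx B.full B.data.noff) (gen_MZ' S) hP hA hM hn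

theorem par_le_norm (hP : IsParS (S : Subgroup G) P) : P ≤ normalizer (Wd (S : Subgroup G) : Set G) :=
  (le_MZ hP).trans (ZN.le_normalizer_zl _ _)

theorem rc_of_mvAct (B : RB S) (mv : MvAct (S : Subgroup G)) : RC (S : Subgroup G) (Wd (S : Subgroup G)) := by
  intro z hz hz1
  obtain ⟨P, a, hm⟩ := mv z hz hz1
  exact ⟨P, a.1, par_le_norm a.1, act_active B a, hm⟩

theorem elem_Wd (B : RB S) : IsElementaryAbelian 2 (Wd (S : Subgroup G)) :=
  elem_loc B.ctx.char2 (isLoc_MZ B.ctx B.full B.data.noff)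

theorem zc_le_Wd (S : Subgroup G) : zc S ≤ Wd S := MinSimple.VModule.zc_le_zl _ _

/-- **(SPL)**, box R -/
theorem act_bigSplits (B : RB S) (mv : MvAct (S : Subgroup G)) (a : Act (S : Subgroup G) P) :
    BigSplits (S : Subgroup G) P :=
  bigSplits B.ctx.char2 FFBr.ffthmM a.1 (elem_Wd B) (par_le_norm a.1) (zc_le_Wd _) (rc_of_mvAct B mv) (act_active B a)

theorem act_inf_eq_bot (B : RB S) (mv : MvAct (S : Subgroup G)) (a : Act (S : Subgroup G) P) {F : Type} [Field F]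
    [Finite F] [CharP F 2] {k : ℕ}
    (M : NatKM F (S : Subgroup G) P (zl (S : Subgroup G) P) (cv (S : Subgroup G) P) k) (hF : 2 < Nat.card F) :
    (⨆ j, blk M j) ⊓ cv (S : Subgroup G) P = ⊥ :=
  inf_eq_bot B.ctx.char2 FFBr.ffthmM a.1 (elem_Wd B) (par_le_norm a.1) (zc_le_Wd _) (rc_of_mvAct B mv)
    (act_active B a) M hF

theorem act_splitBy (B : RB S) (mv : MvAct (S : Subgroup G)) (a : Act (S : Subgroup G) P) {F : Type} [Field F]
    [Finite F] [CharP F 2] {k : ℕ}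
    (M : NatKM F (S : Subgroup G) P (zl (S : Subgroup G) P) (cv (S : Subgroup G) P) k) (hF : 2 < Nat.card F) :
    SplitBy (S : Subgroup G) P (cv (S : Subgroup G) P) (⨆ j, blk M j) :=
  splitBy B.ctx.char2 FFBr.ffthmM a.1 (elem_Wd B) (par_le_norm a.1) (zc_le_Wd _) (rc_of_mvAct B mv)
    (act_active B a) M hF

/-- **(T2)**, box R (`MvAct` is not used) -/
theorem act_dich (B : RB S) (a : Act (S : Subgroup G) P) (a' : Act (S : Subgroup G) P') {F : Type} [Field F]
    [Finite F] [CharP F 2] {k : ℕ}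
    {M : NatKM F (S : Subgroup G) P (zl (S : Subgroup G) P) (cv (S : Subgroup G) P) k} (h : Nb M)
    (hF : 2 < Nat.card F) :
    Diff (S : Subgroup G) P P' (Wd (S : Subgroup G)) ∨
      ∃ (F' : Type) (_ : Field F') (_ : Finite F') (_ : CharP F' 2) (k' : ℕ)
        (M' : NatKM F' (S : Subgroup G) P' (zl (S : Subgroup G) P') (cv (S : Subgroup G) P') k') (h' : Nb M'),
        Same M M' h h' (Wd (S : Subgroup G)) :=
  dich B.ctx.char2 FFBr.ffthmM a.1 a'.1 (elem_Wd B) (par_le_norm a.1) (par_le_norm a'.1) (zc_le_Wd _) h hF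

end Cfsg.Agent.Omega.NOThreeL.RRed.NS
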