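import Cfsg.Agent.Mrg.Omega.NOThreeL.RRed.NS.Two
import Cfsg.Agent.Mrg.Omega.NO3S.Level.ThmD
import Cfsg.Agent.Mrg.Omega.NO3S.ThmB.Inst

section


/-!
# THEOREM NS (#24102): the parabolics

* `gd_of` : `P ∈ P*(S)`, `P ≤ N(U)`, `Z ≤ U` elementary abelian, the FF theorem ⟹ `Gd S P U V_P`;
* `nat_of` : if a member of `EE` moves `V_P'` and acts as a root group over a field with more than two elements on a natural
  block of `P`, then `P'` is of natural type.
-/

set_option autoImplicit false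
set_option linter.unusedSectionVars false

namespace Cfsg.Agent.Omega.NOThreeL.RRed.NS

open Subgroup Cfsg Cfsg.Agent.ZN Cfsg.Agent.ZN.ChoiceBase Cfsg.Agent.Omega.MinPar
open Cfsg.Agent.Omega.FFThm (NatKM SymKM OffM ElemM NoOverM StmtM ConclM syl_of_sylow)
open Cfsg.Agent.Omega.FrameFF (cv)
open Cfsg.Agent.Omega.NO3S.ThmB Cfsg.Agent.Omega.NO3S.KeyRad

universe u

variable {G : Type u} [Group G] [Finite G] {S : Sylow 2 G} {P U : Subgroup G}

theorem gd_of (hG : IsCharacteristicTwoType G) (hFF : StmtM.{u}) (hP : IsParS (S : Subgroup G) P)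
    (hU2 : IsElementaryAbelian 2 U) (hPU : P ≤ normalizer (U : Set G)) (hZU : zc (S : Subgroup G) ≤ U) :
    Gd (S : Subgroup G) P U (zl (S : Subgroup G) P) where
  SP := hP.le
  UN := hPU
  U2 := hU2
  VU := ZN.zl_le hZU hPU
  VN := ZN.le_normalizer_zl _ _
  PS := fun _ hB hBc _ hg => NO3S.Level.conj_le_of_cent hG hP hB hBc hg
  full := fun A hA t hne => by
    have hVU : zl (S : Subgroup G) P ≤ U := ZN.zl_le hZU hPU
    have hE : ElemM (zl (S : Subgroup G) P) A :=
      ⟨fun a ha => centralizer_le hVU (t.elem.sq a ha), fun a ha b hb => centralizer_le hVU (t.elem.comm a ha b hb)⟩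
    exact (t.split hU2 hVU (NO3S.Level.noOver_line hFF hG hP (hA.trans hP.le) hE hne) hne).2
  gen := fun A hA hne => by
    have hAP : A ≤ P := hA.trans hP.le
    have hN : P ≤ normalizer (NC P A : Set G) := fun g hg => mem_normalizer_iff.2 fun x =>
      ⟨fun hx => conj_NC hg hx, fun hx => by
        have h1 := conj_NC (inv_mem hg) hx
        have e : g⁻¹ * (g * x * g⁻¹) * g⁻¹⁻¹ = x := by group
        rwa [e] at h1⟩
    rcases IsPar.sup_eq_or_inf_le S hP.toIsPar (NC_le hAP) hN with h1 | h1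
    · exact h1.ge
    · exfalso
      apply hne
      have h2 : A ≤ o2 P := (le_inf hA le_NC).trans h1
      rw [← IsParS.inf_centralizer S hG hP] at h2
      exact h2.trans inf_le_right

/-- `P'` is of natural type -/
theorem nat_of (hG : IsCharacteristicTwoType G) (hFF : StmtM.{u}) {P' : Subgroup G} (hP' : IsParS (S : Subgroup G) P')
    (hU2 : IsElementaryAbelian 2 U) (hP'U : P' ≤ normalizer (U : Set G)) (hZU : zc (S : Subgroup G) ≤ U) {A : Subgroup G}
    (hAS : A ≤ S) (t : Tt U A) (hne : ¬ A ≤ centralizer (zl (S : Subgroup G) P' : Set G)) {F : Type} [Field F] [Finite F] {V D : Subgroup G}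
    {k : ℕ} {M : NatKM F (S : Subgroup G) P V D k} (hVU : V ≤ U) {j : Fin k} (O : One M U A j) (hF : 2 < Nat.card F) :
    ∃ (F' : Type) (_ : Field F') (_ : Finite F') (_ : CharP F' 2) (k' : ℕ),
      Nonempty (NatKM F' (S : Subgroup G) P' (zl (S : Subgroup G) P') (cv (S : Subgroup G) P') k') := by
  have hVU' : zl (S : Subgroup G) P' ≤ U := ZN.zl_le hZU hP'U
  have hoff : OffM (zl (S : Subgroup G) P') A := t.offM hU2 hVU' hne
  obtain ⟨-, hcon⟩ := hFF G (S : Subgroup G) P' (syl_of_sylow S hP'.le) hP'.toIsMinPar (hP'.isLoc.char2 S hG)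
    ⟨A, hAS.trans hP'.le, hoff⟩
  rcases hcon with ⟨F', i1, i2, i3, k', -, ⟨N⟩⟩ | ⟨k', m, -, hm, ⟨N⟩⟩
  · exact ⟨F', i1, i2, i3, k', ⟨N⟩⟩
  · exfalso
    obtain ⟨i, x, y, s, n0, O'⟩ := Tt.oneS (Inst.sb hG hP' hm N) t hU2 hVU' hAS hne
    exact One.not_oneS hF O hVU O'

end Cfsg.Agent.Omega.NOThreeL.RRed.NS

end

section


/-!
# THEOREM NS (#24102)

`P, P' ∈ P*(S)` normalise the elementary abelian group `U ≥ Z`, members `A₀, A'` of `EE = {A ≤ S : Tt U A}` move `V_P`
resp. `V_P'`, `V_P` is of natural type over `F`, `|F| > 2`.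

* `iSup_DD` : `x ∈ ⨆ blk M j`, `x ∈ D` ⟹ `x ∈ ⨆ DD M j`;
* `swap_of` : if `P'` moves some `x ∈ Z ∩ D ∩ ⨆ blk M j`, then `P'` is natural and `Swap` holds.
-/

set_option autoImplicit false
set_option linter.unusedSectionVars false

namespace Cfsg.Agent.Omega.NOThreeL.RRed.NS

open Subgroup Cfsg Cfsg.Agent.ZN Cfsg.Agent.ZN.ChoiceBase Cfsg.Agent.Omega.MinPar
open Cfsg.Agent.Omega.FFThm (NatKM SymKM OffM ElemM NoOverM StmtM ConclM syl_of_sylow)
open Cfsg.Agent.Omega.FrameFF (cv)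
open Cfsg.Agent.Omega.NO3S.ThmB Cfsg.Agent.Omega.NO3S.KeyRad

universe u

section mod

variable {G : Type u} [Group G] {F : Type} [Field F] {S P V D : Subgroup G} {k : ℕ} {M : NatKM F S P V D k} (h : Nb M)
include h

theorem iSup_DD [CharP F 2] {x : G} (hx : x ∈ ⨆ j, blk M j) (hxD : x ∈ D) : x ∈ ⨆ j, DD M j := by
  classical
  have key : ∀ s : Finset (Fin k), ∀ x ∈ ⨆ j ∈ s, blk M j, M.e x = 0 → x ∈ ⨆ j, DD M j := by
    intro s
    induction s using Finset.induction_on with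
    | empty =>
      intro x hx _
      have h1 : x = 1 := by simpa using hx
      rw [h1]
      exact one_mem _
    | insert a s ha ih =>
      intro x hx h0
      have hW : ∀ j, blk M j ≤ blk M j := fun j => le_rfl
      obtain ⟨y, hy, r, hr, rfl⟩ := iSup_insert_mem h hW hx
      obtain ⟨hrV, hra⟩ := iSup_blk_e h ha hW hr
      have hyV := blk_le h a hy
      have h1 := congrFun h0 a
      rw [M.mul _ hyV _ hrV, Pi.add_apply, hra, add_zero] at h1
      have hyD : y ∈ DD M a := (mem_DD h hy).2 h1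
      have h2 : M.e y = 0 := (M.ker y hyV).2 hyD.2
      rw [M.mul _ hyV _ hrV, h2, zero_add] at h0
      exact mul_mem ((le_iSup (DD M) a : DD M a ≤ _) hyD) (ih r hr h0)
  have hxV : x ∈ V := (iSup_le fun j => blk_le h j : (⨆ j, blk M j) ≤ V) hx
  refine key Finset.univ x (by simpa using hx) ((M.ker x hxV).2 hxD)

end mod

variable {G : Type u} [Group G] [Finite G] {S : Sylow 2 G} {P P' U : Subgroup G}

/-- **(1), (2)** -/
theorem swap_of (hG : IsCharacteristicTwoType G) (hFF : StmtM.{u}) (hP : IsParS (S : Subgroup G) P)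
    (hP' : IsParS (S : Subgroup G) P') (hU2 : IsElementaryAbelian 2 U) (hPU : P ≤ normalizer (U : Set G))
    (hP'U : P' ≤ normalizer (U : Set G)) (hZU : zc (S : Subgroup G) ≤ U) {F : Type} [Field F] [Finite F] [CharP F 2]
    {k : ℕ} (M : NatKM F (S : Subgroup G) P (zl (S : Subgroup G) P) (cv (S : Subgroup G) P) k) (hF : 2 < Nat.card F)
    {A₀ : Subgroup G} (hA₀S : A₀ ≤ S) (t₀ : Tt U A₀) (hne₀ : ¬ A₀ ≤ centralizer (zl (S : Subgroup G) P : Set G))
    {A' : Subgroup G} (hA'S : A' ≤ S) (t' : Tt U A') (hne' : ¬ A' ≤ centralizer (zl (S : Subgroup G) P' : Set G))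
    {x : G} (hx : x ∈ ⨆ j, DD M j) (hxS : ∀ s ∈ S, s * x = x * s) {y : G} (hy : y ∈ P') (hyx : y * x ≠ x * y) :
    ∃ (F' : Type) (_ : Field F') (_ : Finite F') (_ : CharP F' 2) (k' : ℕ)
      (M' : NatKM F' (S : Subgroup G) P' (zl (S : Subgroup G) P') (cv (S : Subgroup G) P') k')
      (h : Nb M) (h' : Nb M') (l g : Fin k → F → G) (l' g' : Fin k' → F' → G) (C : ∀ j, Cd M j (l j) (g j))
      (C' : ∀ j, Cd M' j (l' j) (g' j)), Swap M M' h h' U C C' := by
  have gd := gd_of hG hFF hP hU2 hPU hZU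
  have gd' := gd_of hG hFF hP' hU2 hP'U hZU
  have h := Inst.nb hG hP M
  obtain ⟨i, O⟩ := t₀.one h hU2 gd.VU hA₀S hne₀
  have hmv := gd'.moves h hF gd.VU hPU hA'S t' hne' hx hxS hy hyx hA₀S t₀ hne₀
  obtain ⟨F', i1, i2, i3, k', ⟨M'⟩⟩ := nat_of hG hFF hP' hU2 hP'U hZU hA₀S t₀ hmv gd.VU O hF
  have h' := Inst.nb hG hP' M'
  obtain ⟨i', O'⟩ := t₀.one h' hU2 gd'.VU hA₀S hmv
  have hc : Nat.card F = Nat.card F' :=
    le_antisymm (card_le_of_one h' O O' (hA₀S.trans hP'.le) gd.VU) (card_le_of_one h O' O (hA₀S.trans hP.le) gd'.VU)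
  have hF' : 2 < Nat.card F' := hc ▸ hF
  choose l g C using fun j => exists_cd h hF j
  choose l' g' C' using fun j => exists_cd h' hF' j
  exact ⟨F', i1, i2, i3, k', M', h, h', l, g, l', g', C, C',
    two h h' C C' S.isPGroup' hF gd gd' hA₀S t₀ hne₀ hA'S t' hne' hx hxS hy hyx⟩

end Cfsg.Agent.Omega.NOThreeL.RRed.NS

end
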